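import Cfsg.Agent.M24Order.Setup
import Cfsg.Agent.MTwelve.IndexTwentyFour
import Cfsg.Agent.SporadicA.M24OfIndex
import Cfsg.Agent.SporadicA.M24.Sylow11
import Cfsg.Agent.SmallSimple.InvolFour
import Cfsg.Agent.SmallSimple.Simple168Max

/-!
# The end of the identification of groups of order 244823040

`exists_hyp` : the hypotheses `Setup.Hyp` hold for every simple group of order 244823040.
`mulEquiv_of_degree` : if there is exactly one irreducible character of degree 23 and none of degree
12, 22, 230, 264, the group is `M₂₄`.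
-/

set_option autoImplicit false

open Cfsg Subgroup
open Cfsg.Agent.Characters.Core
open Cfsg.Agent.SmallSimple
open Cfsg.Agent.M23Order.Base
open Cfsg.Agent.M24Order.Setup

namespace Cfsg.Agent.M24Order.Final

universe u

theorem arith_degs : ∀ d ∈ A, d = 1 ∨ d = 11 ∨ d = 12 ∨ d = 22 ∨ d = 230 ∨ d = 264 ∨ d = 23 ∨
    d = 45 ∨ d = 231 ∨ d = 252 ∨ d = 253 ∨ 275 < d := by decide

variable {G : Type u} [Group G] [Finite G] [hs : IsSimpleGroup G]

theorem exists_hyp (hcard : Nat.card G = 244823040) : Nonempty (Hyp G) := by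
  have : Fact (Nat.Prime 23) := ⟨by norm_num⟩
  have : Fact (Nat.Prime 11) := ⟨by norm_num⟩
  obtain ⟨P⟩ : Nonempty (Sylow 23 G) := inferInstance
  obtain ⟨Q⟩ : Nonempty (Sylow 11 G) := inferInstance
  have hP : Nat.card P = 23 := by
    refine Simple168Max.card_sylow_eq_prime P ?_ ?_ <;> rw [hcard] <;> norm_num
  have hQ : Nat.card Q = 11 := by
    refine Simple168Max.card_sylow_eq_prime Q ?_ ?_ <;> rw [hcard] <;> norm_num
  have hCP := SporadicA.M24.Sylow23.centralizer_eq hcard P
  have heP := SporadicA.M24.Sylow23.relIndex_eq hcard P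
  have hCQ := SporadicA.M24.Sylow11.centralizer_eq hcard Q
  have heQ := SporadicA.M24.Sylow11.relIndex_eq hcard Q
  obtain ⟨D⟩ := exists_sc 23 (by norm_num) P hP hCP 11 2 heP (by norm_num)
  obtain ⟨E⟩ := exists_sc 11 (by norm_num) Q hQ hCQ 10 1 heQ (by norm_num)
  exact ⟨⟨hcard, MTwelve.SmallDegree.commutator_eq_top_of_card (by rw [hcard]; norm_num),
    P, hP, hCP, heP, Q, hQ, hCQ, heQ, D, E⟩⟩

variable (H : Hyp G)

include H

/-- Elements of `N(P)` outside `P` have order 11. -/
theorem orderOf_eq {y : G} (hy : y ∈ normalizer ((H.P : Subgroup G) : Set G))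
    (hyP : y ∉ (H.P : Subgroup G)) : orderOf y = 11 := by
  have h23 : Fact (Nat.Prime 23) := ⟨by norm_num⟩
  have hP : Nat.card (H.P : Subgroup G) = 23 := H.hP
  have hN : Nat.card (normalizer ((H.P : Subgroup G) : Set G)) = 253 :=
    SporadicA.M24.Sylow23.card_normalizer H.hcard H.P
  have h1 : orderOf y ∣ 253 := by
    rw [← hN]
    exact Subgroup.orderOf_dvd_natCard _ hy
  have h2 : ¬ 23 ∣ orderOf y := by
    intro h
    have hu : orderOf (y ^ (orderOf y / 23)) = 23 := by
      have h0 : 0 < orderOf y := orderOf_pos y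
      have h3 : orderOf y / 23 ≠ 0 := by
        have := Nat.div_pos (Nat.le_of_dvd h0 h) (by norm_num)
        omega
      rw [orderOf_pow_of_dvd h3 (Nat.div_dvd_of_dvd h), Nat.div_div_self h h0.ne']
    set u := y ^ (orderOf y / 23) with hudef
    have huN : u ∈ normalizer ((H.P : Subgroup G) : Set G) := Subgroup.pow_mem _ hy _
    have hZ : IsPGroup 23 (zpowers u) := IsPGroup.of_card (n := 1) (by
      rw [Nat.card_zpowers, hu, pow_one])
    have hsup : IsPGroup 23 ((zpowers u ⊔ (H.P : Subgroup G) : Subgroup G)) :=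
      hZ.to_sup_of_normal_right' H.P.isPGroup' (by rwa [zpowers_le])
    have heq := H.P.is_maximal' hsup le_sup_right
    have huP : u ∈ (H.P : Subgroup G) := by
      rw [← heq]
      exact (le_sup_left : zpowers u ≤ _) (mem_zpowers u)
    have hu1 : u ≠ 1 := by
      intro h'
      rw [h', orderOf_one] at hu
      norm_num at hu
    have hC : centralizer ({u} : Set G) = centralizer ((H.P : Subgroup G) : Set G) :=
      BlockIndex.centralizer_eq (P := (H.P : Subgroup G)) hP huP hu1
    have h4 : y ∈ centralizer ({u} : Set G) := by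
      rw [mem_centralizer_singleton_iff, hudef, ← pow_succ, ← pow_succ']
    rw [hC] at h4
    have h5 : centralizer ((H.P : Subgroup G) : Set G) = (H.P : Subgroup G) := H.hCP
    rw [h5] at h4
    exact hyP h4
  have h3 : orderOf y ∣ 11 := by
    have h4 : Nat.Coprime (orderOf y) 23 :=
      ((Nat.Prime.coprime_iff_not_dvd (by norm_num)).2 h2).symm
    exact h4.dvd_of_dvd_mul_left (by rw [show 23 * 11 = 253 by norm_num]; exact h1)
  rcases (Nat.dvd_prime (by norm_num)).1 h3 with h | h
  · exact absurd (orderOf_eq_one_iff.1 h ▸ Subgroup.one_mem _) hyP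
  · exact h

/-- **The end.** -/
theorem mulEquiv_of_degree {χ : IrrCharacter G} (hχ : dg χ = 23)
    (huniq : ∀ ψ : IrrCharacter G, dg ψ = 23 → ψ = χ)
    (hno : ∀ ψ : IrrCharacter G, dg ψ ≠ 12 ∧ dg ψ ≠ 22 ∧ dg ψ ≠ 230 ∧ dg ψ ≠ 264) :
    Nonempty (G ≃* Cfsg.M24) := by
  have h11 : Fact (Nat.Prime 11) := ⟨by norm_num⟩
  have := Fintype.ofFinite G
  have hdg : ∀ {ψ : G → ℂ} (hψ : IsIrrCharacter G ψ), dg ⟨ψ, hψ⟩ = charDegree ψ := fun _ => rfl
  obtain ⟨K, -, hK⟩ := MTwelve.IndexTwentyFour.exists_index_twentyfour H.P H.hP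
    (SporadicA.M24.Sylow23.card_normalizer H.hcard H.P) χ.2 (by rw [dg_eq, hχ]; norm_num)
    (fun ψ hψ h => congrArg Subtype.val (huniq ⟨ψ, hψ⟩ (dg_of_eq (by exact_mod_cast h))))
    (fun ψ hψ => by
      have h1 := arith_degs _ (dg_mem_A H ⟨ψ, hψ⟩)
      have h2 := hno ⟨ψ, hψ⟩
      have h3 := dg_ne_eleven H ⟨ψ, hψ⟩
      by_cases h4 : dg ⟨ψ, hψ⟩ = 1
      · left
        have h5 := eq_one_of_dg H h4
        rw [← H.D.coe_one, ← h5]
      · right
        rw [hdg hψ] at h1 h2 h3 h4
        omega)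
    (fun x hx hx1 => by
      refine H.D.out χ (fun h => ?_) (fun h => ?_) x hx hx1
      · rcases mod23_NE H h with h' | h' <;> rw [hχ] at h' <;> omega
      · rcases mod23_X H h with h' | h' <;> rw [hχ] at h' <;> omega)
    (fun y hy hyP => by
      obtain ⟨c, hc⟩ := InvolFour.exists_conj_mem_sylow H.Q (orderOf_eq H hy hyP)
      have hc1 : c * y * c⁻¹ ≠ 1 := by
        intro h
        apply hyP
        have : y = 1 := by
          have h2 : y = c⁻¹ * (c * y * c⁻¹) * c := by group
          rw [h2, h, mul_one, inv_mul_cancel]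
        rw [this]
        exact Subgroup.one_mem _
      have h1 := val_u H χ hc hc1
      rw [Blocks.Basic.irr_conj χ.2, uu_of_one (by rw [hχ])] at h1
      rw [h1]; norm_num)
  exact SporadicA.M24OfIndex.mulEquiv_of_index hs H.hcard K hK

end Cfsg.Agent.M24Order.Final
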