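import Cfsg.Agent.M24Order.LastData

/-!
# Enumeration of the sets of degrees of the principal 23-block
-/

set_option autoImplicit false
set_option maxRecDepth 100000

namespace Cfsg.Agent.M24Order.LastA

open Cfsg.Agent.M24Order.LastEngine Cfsg.Agent.M24Order.LastB Cfsg.Agent.M24Order.LastData

/-- value on elements of order 11, signed -/
def r11 (s : ℤ) : ℤ := if s % 11 = 1 then 1 else if s % 11 = 10 then -1 else 0

/-- The twelve options with packed contributions to `∑ s²`, `∑ (r11 s + 1)`, `∑ (s + 2¹⁵)`. -/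
def tabA0 : List (ℤ × ℕ) :=
  [(0, nat_lit 345247348572160), (1, nat_lit 384365858180569), (2, nat_lit 658195715784256), (3,
    nat_lit 496979270500352), (4, nat_lit 623423642210304), (5, nat_lit 536493494120464), (6,
    nat_lit 579958561764484), (7, nat_lit 553879519641856), (8, nat_lit 558621700192272), (9,
    nat_lit 566919040127089), (10, nat_lit 562176859310057), (11, nat_lit 562572533170660)]

/-- The table: one type. -/
noncomputable def tabA (n : ℕ) : List (ℤ × ℕ) :=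
  Nat.rec (motive := fun _ => List (ℤ × ℕ)) tabA0 (fun _ _ => []) n

/-- The pruning test. -/
def chkA (a : ℕ) : Bool := Nat.beq (Nat.land a (nat_lit 268435456)) (nat_lit 0)

/-- The exceptional degrees: signed degree, target value, twice the square, solutions. -/
def xtab : List (ℤ × ℕ × ℕ × List (List ℤ)) :=
  [(-12, nat_lit 7098853, nat_lit 288, [[11, 10, 9, 6, 3, 2, 1], [10, 10, 7, 7, 5, 2, 1], [10, 9, 7,
     4, 4, 3, 1], [10, 10, 8, 4, 4, 3, 1], [11, 10, 10, 6, 5, 4, 1], [11, 11, 10, 10, 7, 4, 1],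
     [11, 10, 10, 6, 6, 6, 1], [9, 8, 5, 3, 3, 3, 2], [9, 7, 5, 5, 4, 3, 3], [10, 8, 5, 5, 4, 3,
     3], [9, 7, 6, 6, 5, 3, 3], [10, 8, 6, 6, 5, 3, 3], [9, 9, 9, 6, 5, 3, 3], [11, 9, 7, 7, 6, 3,
     3], [11, 10, 8, 7, 6, 3, 3], [11, 9, 9, 9, 7, 3, 3], [11, 10, 9, 9, 8, 3, 3], [11, 11, 11,
     11, 9, 3, 3], [11, 10, 6, 5, 5, 5, 3], [11, 11, 10, 7, 5, 5, 3], [10, 7, 7, 7, 7, 5, 3]]),
   (264, nat_lit 7107686, nat_lit 139392, [[11, 7, 5, 4, 3, 2, 1], [6, 6, 6, 5, 3, 2, 1], [11, 7, 6,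
     6, 3, 2, 1], [11, 9, 9, 6, 3, 2, 1], [10, 9, 7, 7, 5, 2, 1], [10, 10, 8, 7, 5, 2, 1], [7, 7,
     6, 4, 4, 3, 1], [9, 9, 7, 4, 4, 3, 1], [10, 9, 8, 4, 4, 3, 1], [11, 11, 11, 4, 4, 3, 1], [11,
     10, 9, 6, 5, 4, 1], [11, 11, 10, 9, 7, 4, 1], [11, 11, 10, 10, 8, 4, 1], [11, 10, 9, 6, 6, 6,
     1], [9, 8, 5, 5, 4, 3, 3], [9, 8, 6, 6, 5, 3, 3], [11, 9, 8, 7, 6, 3, 3], [11, 10, 8, 8, 6,
     3, 3], [11, 9, 9, 9, 8, 3, 3], [11, 9, 6, 5, 5, 5, 3], [11, 11, 9, 7, 5, 5, 3], [11, 11, 10,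
     8, 5, 5, 3], [9, 7, 7, 7, 7, 5, 3], [10, 8, 7, 7, 7, 5, 3], [10, 7, 7, 5, 5, 5, 5]]),
   (-495, nat_lit 7083398, nat_lit 490050, [[9, 6, 6, 5, 3, 2, 1], [11, 9, 7, 6, 3, 2, 1], [11, 10,
     8, 6, 3, 2, 1], [11, 9, 9, 9, 3, 2, 1], [11, 11, 10, 5, 5, 2, 1], [10, 7, 7, 7, 5, 2, 1], [9,
     7, 7, 4, 4, 3, 1], [10, 8, 7, 4, 4, 3, 1], [10, 5, 5, 5, 4, 4, 1], [10, 6, 6, 5, 5, 4, 1],
     [11, 10, 7, 6, 5, 4, 1], [11, 10, 9, 9, 5, 4, 1], [11, 11, 10, 7, 7, 4, 1], [10, 6, 6, 6, 6,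
     5, 1], [11, 10, 7, 6, 6, 6, 1], [11, 10, 9, 9, 6, 6, 1], [8, 8, 5, 3, 3, 3, 2], [8, 7, 5, 5,
     4, 3, 3], [8, 7, 6, 6, 5, 3, 3], [9, 9, 8, 6, 5, 3, 3], [11, 8, 7, 7, 6, 3, 3], [11, 9, 9, 8,
     7, 3, 3], [11, 10, 9, 8, 8, 3, 3], [11, 11, 11, 11, 8, 3, 3], [5, 5, 5, 5, 5, 4, 3], [6, 6,
     5, 5, 5, 5, 3], [11, 7, 6, 5, 5, 5, 3], [11, 9, 9, 5, 5, 5, 3], [11, 11, 7, 7, 5, 5, 3], [7,
     7, 7, 7, 7, 5, 3]]),
   (540, nat_lit 7116519, nat_lit 583200, [[11, 8, 5, 4, 3, 2, 1], [11, 8, 6, 6, 3, 2, 1], [11, 11,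
     6, 5, 5, 2, 1], [7, 7, 7, 6, 5, 2, 1], [9, 9, 7, 7, 5, 2, 1], [10, 9, 8, 7, 5, 2, 1], [11,
     11, 11, 7, 5, 2, 1], [10, 10, 8, 8, 5, 2, 1], [11, 7, 7, 7, 7, 2, 1], [8, 7, 6, 4, 4, 3, 1],
     [9, 9, 8, 4, 4, 3, 1], [6, 5, 5, 5, 4, 4, 1], [11, 7, 5, 5, 4, 4, 1], [6, 6, 6, 5, 5, 4, 1],
     [11, 7, 6, 6, 5, 4, 1], [11, 9, 9, 6, 5, 4, 1], [11, 11, 7, 7, 6, 4, 1], [11, 11, 9, 9, 7, 4,
     1], [11, 11, 10, 9, 8, 4, 1], [11, 11, 11, 11, 11, 4, 1], [6, 6, 6, 6, 6, 5, 1], [11, 7, 6,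
     6, 6, 6, 1], [11, 9, 9, 6, 6, 6, 1], [11, 9, 8, 8, 6, 3, 3], [11, 11, 9, 8, 5, 5, 3], [9, 8,
     7, 7, 7, 5, 3], [10, 8, 8, 7, 7, 5, 3], [9, 7, 7, 5, 5, 5, 5], [10, 8, 7, 5, 5, 5, 5]]),
   (770, nat_lit 7123878, nat_lit 1185800, [[11, 11, 5, 4, 3, 2, 1], [7, 7, 7, 4, 3, 2, 1], [11, 11,
     6, 6, 3, 2, 1], [10, 9, 6, 5, 5, 2, 1], [11, 10, 9, 7, 5, 2, 1], [11, 10, 10, 8, 5, 2, 1],
     [5, 5, 4, 4, 4, 3, 1], [6, 6, 5, 4, 4, 3, 1], [11, 7, 6, 4, 4, 3, 1], [11, 9, 9, 4, 4, 3, 1],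
     [6, 6, 6, 6, 4, 3, 1], [10, 9, 7, 7, 6, 4, 1], [10, 10, 8, 7, 6, 4, 1], [10, 9, 9, 9, 7, 4,
     1], [10, 10, 9, 9, 8, 4, 1], [11, 11, 11, 10, 9, 4, 1], [11, 11, 9, 8, 6, 3, 3], [9, 7, 7, 6,
     5, 5, 3], [10, 8, 7, 6, 5, 5, 3], [9, 9, 9, 7, 5, 5, 3], [10, 9, 9, 8, 5, 5, 3], [11, 11, 11,
     9, 5, 5, 3], [11, 9, 7, 7, 7, 5, 3], [11, 10, 8, 7, 7, 5, 3], [10, 6, 5, 5, 5, 5, 5], [11,
     10, 7, 5, 5, 5, 5]]),
   (-1024, nat_lit 7066469, nat_lit 2097152, [[11, 11, 10, 9, 3, 2, 1], [10, 10, 7, 5, 5, 2, 1], [10,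
     9, 5, 4, 4, 3, 1], [10, 9, 6, 6, 4, 3, 1], [11, 11, 10, 10, 5, 4, 1], [10, 10, 7, 7, 7, 4,
     1], [11, 11, 10, 10, 6, 6, 1], [9, 8, 7, 4, 3, 3, 3], [10, 8, 8, 4, 3, 3, 3], [9, 5, 5, 5, 4,
     3, 3], [9, 6, 6, 5, 5, 3, 3], [11, 9, 7, 6, 5, 3, 3], [11, 10, 8, 6, 5, 3, 3], [11, 9, 9, 9,
     5, 3, 3], [11, 11, 9, 7, 7, 3, 3], [11, 11, 10, 8, 7, 3, 3], [11, 11, 10, 5, 5, 5, 3], [10,
     7, 7, 7, 5, 5, 3]]),
   (-1760, nat_lit 7042918, nat_lit 6195200, [[10, 9, 9, 6, 6, 6, 0], [11, 11, 6, 5, 3, 2, 1], [7, 7,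
     7, 6, 3, 2, 1], [9, 9, 7, 7, 3, 2, 1], [10, 9, 8, 7, 3, 2, 1], [11, 11, 11, 7, 3, 2, 1], [10,
     10, 8, 8, 3, 2, 1], [10, 9, 5, 5, 5, 2, 1], [6, 5, 5, 4, 4, 3, 1], [11, 7, 5, 4, 4, 3, 1],
     [6, 6, 6, 5, 4, 3, 1], [11, 7, 6, 6, 4, 3, 1], [11, 9, 9, 6, 4, 3, 1], [6, 6, 6, 6, 6, 3, 1],
     [10, 9, 7, 7, 5, 4, 1], [10, 10, 8, 7, 5, 4, 1], [10, 9, 7, 7, 6, 6, 1], [10, 10, 8, 7, 6, 6,
     1], [10, 9, 9, 9, 7, 6, 1], [10, 10, 9, 9, 8, 6, 1], [11, 11, 11, 10, 9, 6, 1], [10, 9, 9, 9,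
     9, 9, 1], [11, 11, 9, 8, 5, 3, 3], [9, 8, 7, 7, 7, 3, 3], [10, 8, 8, 7, 7, 3, 3], [9, 7, 7,
     5, 5, 5, 3], [10, 8, 7, 5, 5, 5, 3], [10, 5, 5, 5, 5, 5, 5]]),
   (-2772, nat_lit 7010534, nat_lit 15367968, [[11, 7, 7, 7, 3, 2, 1], [11, 5, 5, 4, 4, 3, 1], [11,
     6, 6, 5, 4, 3, 1], [11, 11, 7, 6, 4, 3, 1], [11, 11, 9, 9, 4, 3, 1], [11, 6, 6, 6, 6, 3, 1],
     [10, 9, 7, 5, 5, 4, 1], [10, 10, 8, 5, 5, 4, 1], [10, 9, 7, 6, 6, 5, 1], [10, 10, 8, 6, 6, 5,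
     1], [10, 9, 9, 9, 6, 5, 1], [11, 10, 9, 7, 7, 6, 1], [11, 10, 10, 8, 7, 6, 1], [11, 10, 9, 9,
     9, 7, 1], [11, 10, 10, 9, 9, 8, 1], [11, 11, 11, 11, 10, 9, 1], [9, 8, 7, 7, 5, 3, 3], [10,
     8, 8, 7, 5, 3, 3], [9, 7, 5, 5, 5, 5, 3], [10, 8, 5, 5, 5, 5, 3]]),
   (3024, nat_lit 7196005, nat_lit 18289152, [[10, 10, 6, 6, 5, 2, 1], [11, 10, 10, 7, 6, 2, 1], [11,
     10, 10, 9, 9, 2, 1], [10, 10, 7, 7, 4, 4, 1], [9, 7, 7, 5, 3, 3, 2], [10, 8, 7, 5, 3, 3, 2],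
     [10, 5, 5, 5, 5, 3, 2], [9, 8, 4, 4, 3, 3, 3], [11, 9, 6, 5, 4, 3, 3], [11, 11, 9, 7, 4, 3,
     3], [11, 11, 10, 8, 4, 3, 3], [11, 9, 6, 6, 6, 3, 3], [10, 7, 7, 5, 5, 4, 3], [10, 7, 7, 6,
     6, 5, 3], [10, 9, 9, 7, 6, 5, 3], [10, 10, 9, 8, 6, 5, 3], [11, 11, 11, 10, 6, 5, 3], [10, 9,
     9, 9, 9, 5, 3], [11, 10, 7, 7, 7, 6, 3], [11, 10, 9, 9, 7, 7, 3], [11, 10, 10, 9, 8, 7, 3],
     [11, 11, 11, 11, 10, 7, 3], [11, 10, 10, 10, 8, 8, 3], [11, 10, 10, 9, 5, 5, 5]]),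
   (6336, nat_lit 7301990, nat_lit 80289792, [[11, 9, 8, 6, 3, 3, 2], [11, 11, 9, 5, 5, 3, 2], [9, 7,
     7, 7, 5, 3, 2], [10, 8, 7, 7, 5, 3, 2], [10, 7, 5, 5, 5, 5, 2], [9, 8, 7, 4, 4, 3, 3], [10,
     8, 8, 4, 4, 3, 3], [9, 5, 5, 5, 4, 4, 3], [9, 6, 6, 5, 5, 4, 3], [11, 9, 7, 6, 5, 4, 3], [11,
     10, 8, 6, 5, 4, 3], [11, 9, 9, 9, 5, 4, 3], [11, 11, 9, 7, 7, 4, 3], [11, 11, 10, 8, 7, 4,
     3], [9, 6, 6, 6, 6, 5, 3], [11, 9, 7, 6, 6, 6, 3], [11, 10, 8, 6, 6, 6, 3], [11, 9, 9, 9, 6,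
     6, 3], [11, 11, 10, 5, 5, 5, 4], [10, 7, 7, 7, 5, 5, 4], [11, 11, 10, 6, 6, 5, 5], [10, 7, 7,
     7, 6, 6, 5], [10, 9, 9, 7, 7, 6, 5], [10, 10, 9, 8, 7, 6, 5], [11, 11, 11, 10, 7, 6, 5], [10,
     10, 10, 8, 8, 6, 5], [10, 9, 9, 9, 9, 7, 5], [10, 10, 9, 9, 9, 8, 5], [11, 11, 11, 10, 9, 9,
     5], [11, 10, 7, 7, 7, 7, 6], [11, 10, 9, 9, 7, 7, 7], [11, 10, 10, 9, 8, 7, 7], [11, 11, 11,
     11, 10, 7, 7], [11, 10, 10, 10, 8, 8, 7]]),
   (-9856, nat_lit 6783846, nat_lit 194281472, []),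
   (-11880, nat_lit 6719078, nat_lit 282268800, [])]

/-- The test at the end. -/
noncomputable def leafA (path : List ℤ) (a : ℕ) : Bool :=
  Nat.rec (motive := fun _ => Bool) true (fun T _ =>
    List.rec (motive := fun _ => Bool) true (fun x _ r =>
      cond (cond (Nat.beq (Nat.succ T) x.2.1)
        (cond (Nat.ble (Nat.add (Nat.mod a (nat_lit 536870912)) x.2.2.1) (nat_lit 268435455))
          (x.2.2.2.contains path) true) true) r false) xtab) (Nat.div a (nat_lit 536870912))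

/-- **Kernel computation.** -/
theorem runA : go chkA tabA leafA (codes 12 [0, 0, 0, 0, 0, 0, 0]) [] [] (nat_lit 98206410) =
    true := by decide +kernel

/-- The solutions are the entries of `data`. -/
theorem link : (xtab.flatMap fun x => x.2.2.2.map fun p => (p.reverse, x.1)) =
    data.map fun e => (e.1.map fun n : ℕ => (n : ℤ), e.2.1) := by decide +kernel

/-! ### Soundness -/

/-- signed degree of a type -/
def ty (n : ℕ) : ℤ := types.getD n 0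

/-- the packed contribution -/
def pA (n : ℕ) : ℕ := (ty n ^ 2 + 536870912 * (r11 (ty n) + 1) + 17179869184 * (ty n + 32768)).toNat

theorem factsA : ∀ n : ℕ, n < 12 → ((n : ℤ), pA n) ∈ tabA0 ∧
    (0 ≤ ty n ^ 2 + 536870912 * (r11 (ty n) + 1) + 17179869184 * (ty n + 32768)) ∧
      (0 ≤ r11 (ty n) + 1 ∧ r11 (ty n) + 1 ≤ 2) ∧ 0 ≤ ty n + 32768 := by
  decide +kernel

theorem tabA_sorted (n : ℕ) : (tabA n).Pairwise fun p q => p.1 < q.1 := by
  cases n with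
  | zero =>
    have : tabA0.Pairwise fun p q : ℤ × ℕ => p.1 < q.1 := by decide +kernel
    exact this
  | succ n => exact List.Pairwise.nil

/-- the state after the choices `L` -/
def accA (L : List ℕ) : ℕ := 98206410 + (L.map pA).sum

/-- sum of squares -/
def sqs (L : List ℕ) : ℤ := (L.map fun n => ty n ^ 2).sum
/-- sum of the values on elements of order 11 -/
def rs (L : List ℕ) : ℤ := (L.map fun n => r11 (ty n)).sum
/-- sum of the degrees -/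
def ds (L : List ℕ) : ℤ := (L.map fun n => ty n).sum

theorem accA_eq {L : List ℕ} (h : ∀ n ∈ L, n < 12) : (accA L : ℤ) =
    (98206410 + sqs L) + 536870912 * ((rs L + L.length) + 32 * (ds L + 32768 * L.length)) ∧
      0 ≤ sqs L ∧ 0 ≤ rs L + L.length ∧ rs L + L.length ≤ 2 * L.length ∧
      0 ≤ ds L + 32768 * L.length := by
  induction L with
  | nil => simp [accA, sqs, rs, ds]
  | cons x L ih =>
    obtain ⟨h1, h2, h3, h4, h5⟩ := ih fun y hy => h y (List.mem_cons_of_mem _ hy)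
    obtain ⟨-, k1, k2, k3⟩ := factsA x (h x (by simp))
    have k4 : (pA x : ℤ) = ty x ^ 2 + 536870912 * (r11 (ty x) + 1) +
      17179869184 * (ty x + 32768) := Int.toNat_of_nonneg k1
    have k5 := sq_nonneg (ty x)
    simp only [accA, sqs, rs, ds, List.map_cons, List.sum_cons, List.length_cons] at h1 h2 h3 h4 h5 ⊢
    push_cast at h1 h3 h4 h5 ⊢
    refine ⟨by rw [k4]; linarith, by linarith, by linarith [k2.1], by linarith [k2.2],
      by linarith⟩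

theorem exists_fieldsA {L : List ℕ} (h : ∀ n ∈ L, n < 12) (hlen : L.length ≤ 7)
    (hs : sqs L ≤ 170229045) : ∃ m R : ℕ, accA L = m + 536870912 * R ∧ m < 268435456 ∧
      (m : ℤ) = 98206410 + sqs L ∧
      (R : ℤ) = (rs L + L.length) + 32 * (ds L + 32768 * L.length) := by
  obtain ⟨h1, h2, h3, h4, h5⟩ := accA_eq h
  refine ⟨(98206410 + sqs L).toNat, ((rs L + L.length) + 32 * (ds L + 32768 * L.length)).toNat,
    ?_, ?_, ?_, ?_⟩ <;> omega

theorem chkA_of {L : List ℕ} (h : ∀ n ∈ L, n < 12) (hlen : L.length ≤ 7)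
    (hs : sqs L ≤ 170229045) : chkA (accA L) = true := by
  obtain ⟨m, R, h1, h2, -, -⟩ := exists_fieldsA h hlen hs
  have h3 : Nat.land (accA L) 268435456 = 0 := by
    apply Nat.eq_of_testBit_eq
    intro i
    rw [show Nat.land (accA L) 268435456 = accA L &&& 268435456 from rfl, Nat.testBit_and,
      Nat.zero_testBit, show (268435456 : ℕ) = 2 ^ 28 from by norm_num, Nat.testBit_two_pow]
    by_cases hi : 28 = i
    · subst hi
      rw [Nat.testBit_eq_decide_div_mod_eq, h1]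
      simp
      omega
    · simp [hi]
  change Nat.beq (Nat.land (accA L) 268435456) 0 = true
  rw [h3]
  rfl

theorem passA {L₁ L₂ : List ℕ} (h : ∀ n ∈ L₁ ++ L₂, n < 12) (hlen : (L₁ ++ L₂).length ≤ 7)
    (hs : sqs (L₁ ++ L₂) ≤ 170229045) :
    Pass chkA (accA L₁) (L₂.map fun n : ℕ => ((n : ℤ), pA n)) := by
  induction L₂ generalizing L₁ with
  | nil => trivial
  | cons x L₂ ih =>
    have e : L₁ ++ x :: L₂ = (L₁ ++ [x]) ++ L₂ := by simp
    have e1 : accA (L₁ ++ [x]) = accA L₁ + pA x := by simp [accA, add_assoc]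
    rw [e] at h hlen hs
    have h2 : 0 ≤ sqs L₂ := (accA_eq fun n hn => h n (List.mem_append_right _ hn)).2.1
    have h3 : sqs ((L₁ ++ [x]) ++ L₂) = sqs (L₁ ++ [x]) + sqs L₂ := by simp [sqs, add_assoc]
    rw [List.map_cons]
    refine ⟨?_, ?_⟩
    · change chkA (accA L₁ + pA x) = true
      rw [← e1]
      refine chkA_of (fun y hy => h y (List.mem_append_left _ hy)) ?_ (by linarith)
      have := List.length_append (as := L₁ ++ [x]) (bs := L₂)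
      omega
    · change Pass chkA (accA L₁ + pA x) _
      rw [← e1]
      exact ih h hlen hs

theorem leafA_of {path : List ℤ} {a m R : ℕ} (h : leafA path a = true)
    (ha : a = m + 536870912 * R) (hm : m < 536870912) (hR : 0 < R)
    {x : ℤ × ℕ × ℕ × List (List ℤ)} (hx : x ∈ xtab) (h1 : R = x.2.1)
    (h2 : m + x.2.2.1 ≤ 268435455) : path ∈ x.2.2.2 := by
  have e1 : Nat.div a 536870912 = R := by
    change a / 536870912 = R
    omega
  have e2 : Nat.mod a 536870912 = m := by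
    change a % 536870912 = m
    omega
  obtain ⟨T, rfl⟩ := Nat.exists_eq_succ_of_ne_zero hR.ne'
  unfold leafA at h
  rw [e1, e2] at h
  change List.rec (motive := fun _ => Bool) true (fun x _ r =>
      cond (cond (Nat.beq (Nat.succ T) x.2.1)
        (cond (Nat.ble (Nat.add m x.2.2.1) (nat_lit 268435455))
          (x.2.2.2.contains path) true) true) r false) xtab = true at h
  revert hx h
  generalize xtab = l
  induction l with
  | nil => intro h; simp at h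
  | cons y l ih =>
    intro hx h
    have h' : cond (cond (Nat.beq (Nat.succ T) y.2.1)
        (cond (Nat.ble (Nat.add m y.2.2.1) (nat_lit 268435455))
          (y.2.2.2.contains path) true) true) (List.rec (motive := fun _ => Bool) true
          (fun x _ r => cond (cond (Nat.beq (Nat.succ T) x.2.1)
        (cond (Nat.ble (Nat.add m x.2.2.1) (nat_lit 268435455))
          (x.2.2.2.contains path) true) true) r false) l) false = true := h
    rcases List.mem_cons.1 hx with rfl | hx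
    · have b1 : Nat.beq (Nat.succ T) x.2.1 = true := by rw [h1]; exact Nat.beq_refl _
      have b2 : Nat.ble (Nat.add m x.2.2.1) (nat_lit 268435455) = true :=
        Nat.ble_eq_true_of_le h2
      rw [b1, b2, cond_true, cond_true] at h'
      revert h'
      cases hb : x.2.2.2.contains path with
      | false => simp
      | true => intro _; simpa using hb
    · refine ih hx ?_
      revert h'
      generalize cond (Nat.beq (Nat.succ T) y.2.1)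
        (cond (Nat.ble (Nat.add m y.2.2.1) (nat_lit 268435455))
          (y.2.2.2.contains path) true) true = c
      cases c
      · intro h'; exact absurd h' (by simp)
      · intro h'; exact h'

theorem xtab_facts : ∀ x ∈ xtab, (x.2.1 : ℤ) = (r11 x.1 + 6) + 32 * (x.1 - 7525 + 229376) ∧
    (x.2.2.1 : ℤ) = 2 * x.1 ^ 2 := by
  decide +kernel

/-- Every admissible set of degrees is in the table. -/
theorem exists_entry {L : List ℕ} {X : ℤ} (hlen : L.length = 7) (h : ∀ n ∈ L, n < 12)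
    (hsort : L.IsChain (· ≤ ·)) (hX : X ∈ xtab.map Prod.fst) (hd : ds L + 7525 = X)
    (hr : 1 + rs L = r11 X) (hs : sqs L + 2 * X ^ 2 ≤ 170229045) :
    ∃ e ∈ data, e.1 = L ∧ e.2.1 = X := by
  have hrun : Run tabA (codes 12 [0, 0, 0, 0, 0, 0, 0]) []
      (L.map fun n : ℕ => ((n : ℤ), pA n)) := by
    have := exists_run (tab := tabA) tabA_sorted (ps := L.map fun n : ℕ => (0, (n : ℤ), pA n))
      (prev := 12) (tail := []) ?_ ?_ ?_ ?_
    · rw [List.map_map, List.map_map] at this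
      have e1 : (Prod.snd ∘ fun n : ℕ => (0, (n : ℤ), pA n)) =
        fun n : ℕ => ((n : ℤ), pA n) := rfl
      have e2 : L.map ((Prod.fst : ℕ × ℤ × ℕ → ℕ) ∘ fun n : ℕ => (0, (n : ℤ), pA n)) =
          [0, 0, 0, 0, 0, 0, 0] := by
        have : ((Prod.fst : ℕ × ℤ × ℕ → ℕ) ∘ fun n : ℕ => (0, (n : ℤ), pA n)) = fun _ => 0 := rfl
        rw [this, List.map_const', hlen]
        rfl
      rw [e1, e2] at this
      exact this
    · rw [List.isChain_map]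
      exact hsort.imp fun a b hab _ => (Int.ofNat_le.2 hab : (a : ℤ) ≤ (b : ℤ))
    · intro x hx
      obtain ⟨y, hy, rfl⟩ := List.mem_map.1 hx
      exact (factsA y (h y hy)).1
    · intro x hx h12
      exfalso
      have hx' := List.mem_of_mem_head? hx
      obtain ⟨y, hy, rfl⟩ := List.mem_map.1 hx'
      simp at h12
    · exact ⟨[], by rfl⟩
  have hX2 := sq_nonneg X
  have hs' : sqs L ≤ 170229045 := by linarith
  have hp : Pass chkA (nat_lit 98206410) (L.map fun n : ℕ => ((n : ℤ), pA n)) := by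
    have := passA (L₁ := []) (L₂ := L) (by simpa using h) (by simp [hlen]) (by simpa using hs')
    simpa [accA] using this
  have h2 := go_spec hrun (path := []) (by decide) hp runA
  rw [List.append_nil, List.map_map, List.map_map] at h2
  obtain ⟨x, hx, rfl⟩ := List.mem_map.1 hX
  obtain ⟨f1, f2⟩ := xtab_facts x hx
  obtain ⟨m, R, g1, g2, g3, g4⟩ := exists_fieldsA h (by omega) hs'
  have h3 := leafA_of (a := accA L) h2 g1 (by omega) (by
      have : (0 : ℤ) < R := by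
        rw [g4, hlen]
        have := (accA_eq h).2.2
        rw [hlen] at this
        have hx' : r11 x.1 = 1 + rs L := hr.symm
        have : ∀ y ∈ xtab, 0 < (y.2.1 : ℤ) := by decide +kernel
        have := this x hx
        rw [f1, hx', ← hd] at this
        push_cast
        linarith
      exact_mod_cast this) hx (by
      have : (R : ℤ) = x.2.1 := by
        rw [g4, f1, hlen, ← hr, ← hd]
        push_cast; ring
      exact_mod_cast this) (by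
      have : (m : ℤ) + x.2.2.1 ≤ 268435455 := by
        rw [g3, f2]; linarith
      exact_mod_cast this)
  have h4 : ((L.map ((Prod.fst : ℤ × ℕ → ℤ) ∘ fun n : ℕ => ((n : ℤ), pA n))).reverse.reverse,
      x.1) ∈ xtab.flatMap fun x => x.2.2.2.map fun p => (p.reverse, x.1) :=
    List.mem_flatMap.2 ⟨x, hx, List.mem_map.2 ⟨_, h3, rfl⟩⟩
  rw [link, List.reverse_reverse] at h4
  obtain ⟨e, he, h5⟩ := List.mem_map.1 h4
  rw [Prod.mk.injEq] at h5
  refine ⟨e, he, ?_, h5.2⟩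
  have h6 : e.1.map (fun n : ℕ => (n : ℤ)) = L.map (fun n : ℕ => (n : ℤ)) := h5.1
  exact List.map_injective_iff.2 (fun a b hab => by exact_mod_cast hab) h6

end Cfsg.Agent.M24Order.LastA
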