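import Cfsg.Agent.M24Order.LastData

/-!
# Kernel computation, part 1
-/

set_option autoImplicit false
set_option maxRecDepth 100000

namespace Cfsg.Agent.M24Order.LastRun1

open Cfsg.Agent.M24Order.LastB Cfsg.Agent.M24Order.LastData

theorem run7 : data7.all test = true := by decide +kernel

theorem run8 : data8.all test = true := by decide +kernel

theorem run9 : data9.all test = true := by decide +kernel

theorem run10 : data10.all test = true := by decide +kernel

theorem run11 : data11.all test = true := by decide +kernel

theorem run12 : data12.all test = true := by decide +kernel

theorem run13 : data13.all test = true := by decide +kernel

end Cfsg.Agent.M24Order.LastRun1
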