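import Cfsg.Agent.M24Order.LastData

/-!
# Kernel computation, part 2
-/

set_option autoImplicit false
set_option maxRecDepth 100000

namespace Cfsg.Agent.M24Order.LastRun2

open Cfsg.Agent.M24Order.LastB Cfsg.Agent.M24Order.LastData

theorem run14 : data14.all test = true := by decide +kernel

theorem run15 : data15.all test = true := by decide +kernel

theorem run16 : data16.all test = true := by decide +kernel

theorem run17 : data17.all test = true := by decide +kernel

theorem run18 : data18.all test = true := by decide +kernel

theorem run19 : data19.all test = true := by decide +kernel

theorem run20 : data20.all test = true := by decide +kernel

end Cfsg.Agent.M24Order.LastRun2
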