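import Cfsg.Agent.M24Order.LastData

/-!
# Kernel computation, part 3
-/

set_option autoImplicit false
set_option maxRecDepth 100000

namespace Cfsg.Agent.M24Order.LastRun3

open Cfsg.Agent.M24Order.LastB Cfsg.Agent.M24Order.LastData

theorem run21 : data21.all test = true := by decide +kernel

theorem run22 : data22.all test = true := by decide +kernel

theorem run23 : data23.all test = true := by decide +kernel

theorem run24 : data24.all test = true := by decide +kernel

theorem run25 : data25.all test = true := by decide +kernel

theorem run26 : data26.all test = true := by decide +kernel

theorem run27 : data27.all test = true := by decide +kernel

end Cfsg.Agent.M24Order.LastRun3
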