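import Cfsg.Agent.M24Order.LastData

/-!
# Kernel computation, part 4
-/

set_option autoImplicit false
set_option maxRecDepth 100000

namespace Cfsg.Agent.M24Order.LastRun4

open Cfsg.Agent.M24Order.LastB Cfsg.Agent.M24Order.LastData

theorem run28 : data28.all test = true := by decide +kernel

theorem run29 : data29.all test = true := by decide +kernel

theorem run30 : data30.all test = true := by decide +kernel

theorem run31 : data31.all test = true := by decide +kernel

end Cfsg.Agent.M24Order.LastRun4
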