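import Cfsg.Agent.M24Order.LastRun0
import Cfsg.Agent.M24Order.LastRun1
import Cfsg.Agent.M24Order.LastRun2
import Cfsg.Agent.M24Order.LastRun3
import Cfsg.Agent.M24Order.LastRun4

/-!
# Kernel computation: collection
-/

set_option autoImplicit false

namespace Cfsg.Agent.M24Order.LastRun

open Cfsg.Agent.M24Order.LastB Cfsg.Agent.M24Order.LastData

theorem cons_all {l₁ l₂ : List (List ℕ × ℤ × ℕ × List (List ℤ))} (h₁ : ∀ e ∈ l₁, test e = true)
    (h₂ : l₂.all test = true) : ∀ e ∈ l₁ ++ l₂, test e = true := by
  intro e he
  rcases List.mem_append.1 he with h | h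
  · exact h₁ e h
  · exact List.all_eq_true.1 h₂ e h

theorem test_all : ∀ e ∈ data, test e = true :=
  cons_all (cons_all (cons_all (cons_all (cons_all (cons_all (cons_all (cons_all (cons_all (cons_all
    (cons_all (cons_all (cons_all (cons_all (cons_all (cons_all (cons_all (cons_all (cons_all
    (cons_all (cons_all (cons_all (cons_all (cons_all (cons_all (cons_all (cons_all (cons_all
    (cons_all (cons_all (cons_all (List.all_eq_true.1 LastRun0.run0) LastRun0.run1) LastRun0.run2)
    LastRun0.run3) LastRun0.run4) LastRun0.run5) LastRun0.run6) LastRun1.run7) LastRun1.run8)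
    LastRun1.run9) LastRun1.run10) LastRun1.run11) LastRun1.run12) LastRun1.run13) LastRun2.run14)
    LastRun2.run15) LastRun2.run16) LastRun2.run17) LastRun2.run18) LastRun2.run19)
    LastRun2.run20) LastRun3.run21) LastRun3.run22) LastRun3.run23) LastRun3.run24)
    LastRun3.run25) LastRun3.run26) LastRun3.run27) LastRun4.run28) LastRun4.run29)
    LastRun4.run30) LastRun4.run31

end Cfsg.Agent.M24Order.LastRun
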