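import Cfsg.Agent.M24Order.LastCol
import Cfsg.Agent.M24Order.LastA
import Cfsg.Agent.M24Order.LastRun

/-!
# The last case, first step: the principal 23-block
-/

set_option autoImplicit false
set_option linter.unusedSectionVars false
set_option linter.dupNamespace false

open Cfsg Subgroup
open Cfsg.Agent.Characters.Core
open Cfsg.Agent.SmallSimple
open Cfsg.Agent.M23Order.Base
open Cfsg.Agent.M24Order.Setup
open Cfsg.Agent.M24Order.Last
open Cfsg.Agent.M24Order.LastB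
open Cfsg.Agent.M24Order.LastA
open Cfsg.Agent.M24Order.LastData

namespace Cfsg.Agent.M24Order.Last23

universe u

section Arith

theorem arith_types : ∀ d ∈ A, d ≠ 1 → (d % 23 = 1 → (d : ℤ) ∈ types) ∧
    (d % 23 = 22 → (-(d : ℤ)) ∈ types) := by
  decide +kernel

theorem arith_X : ∀ d ∈ A, d ≠ 11 → (d % 23 = 11 → (d : ℤ) ∈ xtab.map Prod.fst) ∧
    (d % 23 = 12 → (-(d : ℤ)) ∈ xtab.map Prod.fst) := by
  decide +kernel

/-- value on elements of order 11 in terms of the signed degree -/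
def u11 (s : ℤ) : ℤ := if s.natAbs % 11 = 1 then 1 else if s.natAbs % 11 = 10 then -1 else 0

/-- Conditions for a signed value. -/
def okval (s B : ℤ) : Bool :=
  decide (s ∣ 31878 * B) && decide (4 ∣ s - B) && (!decide (5 ∣ s) || decide (5 ∣ B)) &&
    decide (11 * (B.natAbs : ℤ) ≤ (s.natAbs : ℤ) + 10 * u11 s) && decide (B ^ 2 ≤ 3685)

theorem arith_vals : ∀ i : ℕ, i < 12 → ∀ k : ℕ, k < 121 →
    okval (types.getD i 0) ((k : ℤ) - 60) = true → ((k : ℤ) - 60) ∈ vals.getD i [] := by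
  decide +kernel

theorem mem_vals {i : ℕ} (hi : i < 12) {B : ℤ} (h : okval (types.getD i 0) B = true) :
    B ∈ vals.getD i [] := by
  have h1 : B ^ 2 ≤ 3685 := by
    unfold okval at h
    simp only [Bool.and_eq_true, decide_eq_true_eq] at h
    exact h.2
  have h2 : -60 ≤ B ∧ B ≤ 60 := by constructor <;> nlinarith
  obtain ⟨k, hk⟩ := Int.eq_ofNat_of_zero_le (by omega : 0 ≤ B + 60)
  obtain rfl : B = (k : ℤ) - 60 := by omega
  exact arith_vals i hi k (by omega) h

theorem types_idx : ∀ s ∈ types, types.idxOf s < 12 ∧ types.getD (types.idxOf s) 0 = s := by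
  decide +kernel

theorem data_g : ∀ e ∈ data, (e.2.2.1 : ℤ) * |e.2.1| = 244823040 ∧ e.2.1 ≠ 0 := by
  decide +kernel

/-- Row of a solution. -/
def row (ns : List ℕ) (p : List ℤ) (X : ℤ) : List (ℤ × ℤ) × ℤ × ℤ :=
  (ns.zipWith (fun n B => (ty n, B)) p, X, 5 + p.sum)

/-- Conditions for the values of the exceptional characters. -/
def okrow (ns : List ℕ) (p : List ℤ) (X : ℤ) : Bool :=
  let BX := 5 + p.sum
  decide (X ∣ 31878 * BX) && (!decide (5 ∣ X) || decide (5 ∣ BX)) &&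
    decide (11 * (BX.natAbs : ℤ) ≤ (X.natAbs : ℤ) + 10 * u11 X) &&
    decide (3995 + (p.map (· ^ 2)).sum + 2 * BX ^ 2 ≤ 7680) &&
    decide ((ns.zipWith (fun n B => (B - ty n) ^ 2 % 5) p).sum + 2 * ((BX - X) ^ 2 % 5) ≤ 5) &&
    decide ((ns.zipWith (fun n B => (2 * B - ty n) ^ 2 % 5) p).sum +
      2 * ((2 * BX - X) ^ 2 % 5) ≤ 10) &&
    decide ((426195 + (ns.zipWith (fun n B => ty n * B) p).sum + 2 * (X * BX)) ^ 2 ≤
      (170229045 - (ns.map fun n => ty n ^ 2).sum - 2 * X ^ 2) *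
        (3685 - (p.map (· ^ 2)).sum - 2 * BX ^ 2))

theorem filter_rows : ∀ e ∈ data, ∀ p ∈ e.2.2.2, okrow e.1 p.reverse e.2.1 = true →
    row e.1 p.reverse e.2.1 ∈ rows := by
  decide +kernel

end Arith

variable {G : Type u} [Group G] [Finite G] [IsSimpleGroup G] {H : Hyp G} {t : G}
  {b : IrrCharacter G → ℤ} {c1035 c5796 c1771 c2024 c5544 c990 c990' : IrrCharacter G}

/-- signed degree -/
noncomputable def sd (H : Hyp G) (χ : IrrCharacter G) : ℤ := H.D.ε χ * (dg χ : ℤ)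

/-- signed value -/
noncomputable def bb (H : Hyp G) (b : IrrCharacter G → ℤ) (χ : IrrCharacter G) : ℤ :=
  H.D.ε χ * b χ

/-- type and signed value -/
noncomputable def pr (H : Hyp G) (b : IrrCharacter G → ℤ) (χ : IrrCharacter G) : ℕ × ℤ :=
  (types.idxOf (sd H χ), bb H b χ)

/-- the unknown nonexceptional characters -/
structure Lst (H : Hyp G) (b : IrrCharacter G → ℤ) (c5544 c990 c990' : IrrCharacter G)
    (l : List (IrrCharacter G)) : Prop where
  nodup : ([H.D.one, c5544, c990, c990'] ++ l).Nodup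
  NE : ∀ χ, χ ∈ H.D.NE ↔ χ ∈ [H.D.one, c5544, c990, c990'] ++ l
  len : l.length = 7
  sort : (l.map fun χ => (((pr H b χ).1 : ℤ) * 1000 + (pr H b χ).2)).Pairwise (· ≤ ·)

theorem exists_lst (K : Last H t b c1035 c5796 c1771 c2024 c5544 c990 c990') :
    ∃ l, Lst H b c5544 c990 c990' l := by
  classical
  have hne : ∀ {χ ψ : IrrCharacter G}, dg χ ≠ dg ψ → χ ≠ ψ := fun h h' => h (by rw [h'])
  have h1 : H.D.one ∈ H.D.NE := H.D.one_mem
  have h2 : c5544 ∈ H.D.NE := mem_NE23 H (by rw [K.d5544]; norm_num)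
  have h3 : c990 ∈ H.D.NE := mem_NE23 H (by rw [K.d990]; norm_num)
  have h4 : c990' ∈ H.D.NE := mem_NE23 H (by rw [K.d990']; norm_num)
  have hnd : [H.D.one, c5544, c990, c990'].Nodup := by
    simp only [List.nodup_cons, List.mem_cons, List.not_mem_nil, or_false, not_or,
      not_false_eq_true, List.nodup_nil, and_true]
    refine ⟨⟨hne ?_, hne ?_, hne ?_⟩, ⟨hne ?_, hne ?_⟩, K.ne990⟩ <;>
      simp only [dg_one, K.d5544, K.d990, K.d990'] <;> norm_num
  set S := H.D.NE \ [H.D.one, c5544, c990, c990'].toFinset with hS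
  have hsub : [H.D.one, c5544, c990, c990'].toFinset ⊆ H.D.NE := by
    intro χ hχ
    simp only [List.mem_toFinset, List.mem_cons, List.not_mem_nil, or_false] at hχ
    rcases hχ with rfl | rfl | rfl | rfl <;> assumption
  have hcard : S.card = 7 := by
    rw [hS, Finset.card_sdiff_of_subset hsub, H.D.card_NE, List.toFinset_card_of_nodup hnd]
    rfl
  obtain ⟨l, hl1, hl2, hl3⟩ := DegreeData.exists_sorted S
    (fun χ => (((pr H b χ).1 : ℤ) * 1000 + (pr H b χ).2))
  have hmem : ∀ χ, χ ∈ l ↔ χ ∈ H.D.NE ∧ χ ∉ [H.D.one, c5544, c990, c990'] := by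
    intro χ
    rw [← List.mem_toFinset, hl2, hS, Finset.mem_sdiff, List.mem_toFinset]
  refine ⟨l, List.nodup_append.2 ⟨hnd, hl1, ?_⟩, ?_, ?_, hl3⟩
  · intro χ hχ ψ hψ h
    subst h
    exact ((hmem χ).1 hψ).2 hχ
  · intro χ
    rw [List.mem_append, hmem]
    constructor
    · intro h
      by_cases h' : χ ∈ [H.D.one, c5544, c990, c990']
      · exact Or.inl h'
      · exact Or.inr ⟨h, h'⟩
    · rintro (h | h)
      · exact hsub (List.mem_toFinset.2 h)
      · exact h.1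
  · rw [← hcard, ← hl2, List.toFinset_card_of_nodup hl1]

theorem exists_X (H : Hyp G) : ∃ Θ Θ' : IrrCharacter G, Θ ≠ Θ' ∧
    ∀ χ, χ ∈ H.D.X ↔ χ = Θ ∨ χ = Θ' := by
  classical
  obtain ⟨Θ, Θ', h, h'⟩ := Finset.card_eq_two.1 H.D.card_X
  exact ⟨Θ, Θ', h, fun χ => by rw [h']; simp⟩

section Facts

variable (K : Last H t b c1035 c5796 c1771 c2024 c5544 c990 c990') {l : List (IrrCharacter G)}
  (hl : Lst H b c5544 c990 c990' l)

include K hl

theorem mem_l {χ : IrrCharacter G} (hχ : χ ∈ l) : χ ∈ H.D.NE ∧ χ ≠ H.D.one ∧ χ ≠ c5544 ∧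
    χ ≠ c990 ∧ χ ≠ c990' := by
  refine ⟨(hl.NE χ).2 (List.mem_append_right _ hχ), ?_, ?_, ?_, ?_⟩ <;>
  · rintro rfl
    have h := (List.nodup_append.1 hl.nodup).2.2
    exact h _ (by simp) _ hχ rfl

theorem eps {χ : IrrCharacter G} (hχ : χ ∈ l) : H.D.ε χ = 1 ∨ H.D.ε χ = -1 :=
  H.D.ε_mem χ (mem_l K hl hχ).1

theorem sd_mem {χ : IrrCharacter G} (hχ : χ ∈ l) : sd H χ ∈ types := by
  have hA := arith_types _ (dg_mem_A H χ) (fun h' => (mem_l K hl hχ).2.1 (eq_one_of_dg H h'))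
  rcases mod23_NE H (mem_l K hl hχ).1 with ⟨h9, h10⟩ | ⟨h9, h10⟩
  · unfold sd; rw [h9, one_mul]; exact hA.1 h10
  · unfold sd; rw [h9, neg_one_mul]; exact hA.2 h10

theorem sg_pr {χ : IrrCharacter G} (hχ : χ ∈ l) : sg (pr H b χ) = sd H χ :=
  (types_idx _ (sd_mem K hl hχ)).2

theorem ty_idx {χ : IrrCharacter G} (hχ : χ ∈ l) : ty (types.idxOf (sd H χ)) = sd H χ :=
  (types_idx _ (sd_mem K hl hχ)).2

omit K hl in
theorem uu_eq {χ : IrrCharacter G} {ε : ℤ} (hε : ε = 1 ∨ ε = -1) :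
    u11 (ε * (dg χ : ℤ)) = uu χ := by
  have : (ε * (dg χ : ℤ)).natAbs = dg χ := by
    rcases hε with rfl | rfl <;> simp
  unfold u11 uu
  rw [this]

omit K hl in
theorem r11_eq (H : Hyp G) {χ : IrrCharacter G} {ε : ℤ} (hε : ε = 1 ∨ ε = -1) :
    r11 (ε * (dg χ : ℤ)) = ε * uu χ := by
  unfold r11
  rcases mod11 H χ with h | h | h
  · rw [uu_of_zero h]
    rcases hε with rfl | rfl <;> split_ifs <;> omega
  · rw [uu_of_one h]
    rcases hε with rfl | rfl <;> split_ifs <;> omega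
  · rw [uu_of_ten h]
    rcases hε with rfl | rfl <;> split_ifs <;> omega

omit hl in
theorem okval_facts {χ : IrrCharacter G} {ε : ℤ} (hε : ε = 1 ∨ ε = -1)
    (h1 : χ ≠ H.D.one) : (ε * (dg χ : ℤ) ∣ 31878 * (ε * b χ)) ∧
      ((4 : ℤ) ∣ ε * (dg χ : ℤ) - ε * b χ) ∧
      ((5 : ℤ) ∣ ε * (dg χ : ℤ) → (5 : ℤ) ∣ ε * b χ) ∧
      11 * ((ε * b χ).natAbs : ℤ) ≤ ((ε * (dg χ : ℤ)).natAbs : ℤ) +
        10 * u11 (ε * (dg χ : ℤ)) := by
  have a1 := K.dvd χ
  have a2 := K.four h1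
  have a3 := K.five χ
  have a4 := K.le χ
  rw [uu_eq hε]
  have e1 : (ε * (dg χ : ℤ)).natAbs = dg χ := by rcases hε with rfl | rfl <;> simp
  have e2 : ((ε * b χ).natAbs : ℤ) = |b χ| := by
    rcases hε with rfl | rfl <;> simp
  rw [e1, e2]
  refine ⟨?_, ?_, ?_, a4⟩
  · rcases hε with rfl | rfl
    · simpa using a1
    · rw [neg_one_mul, neg_one_mul, mul_neg, neg_dvd, dvd_neg]; exact a1
  · rw [← mul_sub]; exact dvd_mul_of_dvd_right a2 _
  · intro h5
    have : (5 : ℤ) ∣ (dg χ : ℤ) := by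
      rcases hε with rfl | rfl
      · simpa using h5
      · rw [neg_one_mul, dvd_neg] at h5; exact h5
    exact dvd_mul_of_dvd_right (a3 (by exact_mod_cast this)) _

theorem ok_pr {χ : IrrCharacter G} (hχ : χ ∈ l) : Ok (pr H b χ) := by
  have h1 := types_idx _ (sd_mem K hl hχ)
  obtain ⟨f1, f2, f3, f4⟩ := okval_facts K (eps K hl hχ) (mem_l K hl hχ).2.1
  refine ⟨h1.1, mem_vals h1.1 ?_⟩
  change okval (types.getD (types.idxOf (sd H χ)) 0) (bb H b χ) = true
  rw [h1.2]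
  have hb2 : (H.D.ε χ * b χ) ^ 2 ≤ 3685 := by
    classical
    have hm := mem_l K hl hχ
    have hne : ∀ {ψ : IrrCharacter G}, dg ψ % 23 = 0 → χ ≠ ψ := by
      rintro ψ h rfl
      rcases mod23_NE H hm.1 with h' | h' <;> omega
    have hnd : [χ, H.D.one, c5544, c990, c990', c1035, c5796, c1771, c2024].Nodup := by
      have hne' : ∀ {χ ψ : IrrCharacter G}, dg χ ≠ dg ψ → χ ≠ ψ := fun h h' => h (by rw [h'])
      simp only [List.nodup_cons, List.mem_cons, List.not_mem_nil, or_false, not_or,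
        not_false_eq_true, List.nodup_nil, and_true]
      refine ⟨⟨hm.2.1, hm.2.2.1, hm.2.2.2.1, hm.2.2.2.2, hne (by rw [K.d1035]),
        hne (by rw [K.d5796]), hne (by rw [K.d1771]), hne (by rw [K.d2024])⟩,
        ⟨hne' ?_, hne' ?_, hne' ?_, hne' ?_, hne' ?_, hne' ?_, hne' ?_⟩,
        ⟨hne' ?_, hne' ?_, hne' ?_, hne' ?_, hne' ?_, hne' ?_⟩,
        ⟨K.ne990, hne' ?_, hne' ?_, hne' ?_, hne' ?_⟩, ⟨hne' ?_, hne' ?_, hne' ?_, hne' ?_⟩,
        ⟨hne' ?_, hne' ?_, hne' ?_⟩, ⟨hne' ?_, hne' ?_⟩, hne' ?_⟩ <;>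
      simp only [dg_one, K.d5544, K.d990, K.d990', K.d1035, K.d5796, K.d1771, K.d2024] <;>
      norm_num
    have h2 := K.norm [χ, H.D.one, c5544, c990, c990', c1035, c5796, c1771, c2024].toFinset
    rw [List.sum_toFinset _ hnd] at h2
    simp only [List.map_cons, List.map_nil, List.sum_cons, List.sum_nil, K.one, K.b5544, K.b990,
      K.b990', K.b1035, K.b5796, K.b1771, K.b2024] at h2
    have : (H.D.ε χ * b χ) ^ 2 = b χ ^ 2 := by
      rcases eps K hl hχ with h | h <;> rw [h] <;> ring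
    rw [this]
    linarith
  unfold okval
  simp only [Bool.and_eq_true, Bool.or_eq_true, Bool.not_eq_true', decide_eq_true_eq,
    decide_eq_false_iff_not]
  refine ⟨⟨⟨⟨f1, f2⟩, ?_⟩, f4⟩, hb2⟩
  by_cases h5 : (5 : ℤ) ∣ sd H χ
  · exact Or.inr (f3 h5)
  · exact Or.inl h5

omit hl in
theorem known_nodup : [H.D.one, c5544, c990, c990', c1035, c5796, c1771, c2024].Nodup := by
  have hne' : ∀ {χ ψ : IrrCharacter G}, dg χ ≠ dg ψ → χ ≠ ψ := fun h h' => h (by rw [h'])
  simp only [List.nodup_cons, List.mem_cons, List.not_mem_nil, or_false, not_or,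
    not_false_eq_true, List.nodup_nil, and_true]
  refine ⟨⟨hne' ?_, hne' ?_, hne' ?_, hne' ?_, hne' ?_, hne' ?_, hne' ?_⟩,
    ⟨hne' ?_, hne' ?_, hne' ?_, hne' ?_, hne' ?_, hne' ?_⟩,
    ⟨K.ne990, hne' ?_, hne' ?_, hne' ?_, hne' ?_⟩, ⟨hne' ?_, hne' ?_, hne' ?_, hne' ?_⟩,
    ⟨hne' ?_, hne' ?_, hne' ?_⟩, ⟨hne' ?_, hne' ?_⟩, hne' ?_⟩ <;>
  simp only [dg_one, K.d5544, K.d990, K.d990', K.d1035, K.d5796, K.d1771, K.d2024] <;>
  norm_num

/-- The whole list of known characters and of the principal 23-block has no duplicates. -/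
theorem full_nodup {Θ Θ' : IrrCharacter G} (hΘ : Θ ≠ Θ') (hX : ∀ χ, χ ∈ H.D.X ↔ χ = Θ ∨ χ = Θ') :
    ([H.D.one, c5544, c990, c990', c1035, c5796, c1771, c2024] ++ (l ++ [Θ, Θ'])).Nodup := by
  classical
  have hXd : ∀ {ψ : IrrCharacter G}, ψ ∈ [Θ, Θ'] → dg ψ % 23 = 11 ∨ dg ψ % 23 = 12 := by
    intro ψ hψ
    simp only [List.mem_cons, List.not_mem_nil, or_false] at hψ
    rcases mod23_X H ((hX ψ).2 hψ) with h | h
    · exact Or.inl h.2
    · exact Or.inr h.2
  have hld : ∀ {ψ : IrrCharacter G}, ψ ∈ l → dg ψ % 23 = 1 ∨ dg ψ % 23 = 22 := by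
    intro ψ hψ
    rcases mod23_NE H (mem_l K hl hψ).1 with h | h
    · exact Or.inl h.2
    · exact Or.inr h.2
  refine List.nodup_append.2 ⟨known_nodup K, List.nodup_append.2
    ⟨(List.nodup_append.1 hl.nodup).2.1, by simp [hΘ], ?_⟩, ?_⟩
  · rintro χ hχ ψ hψ rfl
    have h1 := hld hχ
    have h2 := hXd hψ
    omega
  · rintro χ hχ ψ hψ rfl
    rcases List.mem_append.1 hψ with h | h
    · have h1 := hld h
      have h2 := mem_l K hl h
      simp only [List.mem_cons, List.not_mem_nil, or_false] at hχ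
      rcases hχ with rfl | rfl | rfl | rfl | rfl | rfl | rfl | rfl
      · exact h2.2.1 rfl
      · exact h2.2.2.1 rfl
      · exact h2.2.2.2.1 rfl
      · exact h2.2.2.2.2 rfl
      · rw [K.d1035] at h1; omega
      · rw [K.d5796] at h1; omega
      · rw [K.d1771] at h1; omega
      · rw [K.d2024] at h1; omega
    · have h1 := hXd h
      simp only [List.mem_cons, List.not_mem_nil, or_false] at hχ
      rcases hχ with rfl | rfl | rfl | rfl | rfl | rfl | rfl | rfl
      · rw [dg_one] at h1; omega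
      · rw [K.d5544] at h1; omega
      · rw [K.d990] at h1; omega
      · rw [K.d990'] at h1; omega
      · rw [K.d1035] at h1; omega
      · rw [K.d5796] at h1; omega
      · rw [K.d1771] at h1; omega
      · rw [K.d2024] at h1; omega

omit hl in
/-- The inequalities for a list of further characters. -/
theorem ineq {A : List (IrrCharacter G)}
    (hA : ([H.D.one, c5544, c990, c990', c1035, c5796, c1771, c2024] ++ A).Nodup) :
    (A.map fun χ => b χ ^ 2).sum ≤ 3685 ∧ (A.map fun χ => (b χ - dg χ) ^ 2 % 5).sum ≤ 5 ∧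
    (A.map fun χ => (2 * b χ - dg χ) ^ 2 % 5).sum ≤ 10 ∧
    (A.map fun χ => (dg χ : ℤ) ^ 2).sum ≤ 170229045 ∧
    (426195 + (A.map fun χ => (dg χ : ℤ) * b χ).sum) ^ 2 ≤
      (170229045 - (A.map fun χ => (dg χ : ℤ) ^ 2).sum) *
        (3685 - (A.map fun χ => b χ ^ 2).sum) := by
  classical
  have hA' := (List.nodup_append.1 hA).2.1
  have hdisj := (List.nodup_append.1 hA).2.2
  have hnot : ∀ ψ ∈ [H.D.one, c5544, c990, c990', c1035, c5796, c1771, c2024], ψ ∉ A.toFinset :=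
    fun ψ hψ h => hdisj ψ hψ ψ (List.mem_toFinset.1 h) rfl
  have h1 := K.norm ([H.D.one, c5544, c990, c990', c1035, c5796, c1771, c2024] ++ A).toFinset
  have h2 := K.wt A.toFinset (hnot _ (by simp)) (hnot _ (by simp)) (hnot _ (by simp))
    (hnot _ (by simp)) (hnot _ (by simp))
  have h3 := K.wt' A.toFinset (hnot _ (by simp)) (hnot _ (by simp)) (hnot _ (by simp))
    (hnot _ (by simp)) (hnot _ (by simp))
  have h4 := sum_dg_sq_le
    ([H.D.one, c5544, c990, c990', c1035, c5796, c1771, c2024] ++ A).toFinset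
  have h5 := K.gram ([H.D.one, c5544, c990, c990', c1035, c5796, c1771, c2024] ++ A).toFinset
  rw [H.hcard] at h4
  have h4' : ∑ χ ∈ ([H.D.one, c5544, c990, c990', c1035, c5796, c1771, c2024] ++ A).toFinset,
      (dg χ : ℤ) ^ 2 ≤ 244823040 := by exact_mod_cast h4
  rw [List.sum_toFinset _ hA] at h1 h4'
  rw [List.sum_toFinset _ hA, List.sum_toFinset _ hA, List.sum_toFinset _ hA] at h5
  rw [List.sum_toFinset _ hA'] at h2 h3
  simp only [List.map_append, List.map_cons, List.map_nil, List.sum_append, List.sum_cons,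
    List.sum_nil, K.one, K.b5544, K.b990, K.b990', K.b1035, K.b5796, K.b1771, K.b2024, dg_one,
    K.d5544, K.d990, K.d990', K.d1035, K.d5796, K.d1771, K.d2024] at h1 h4' h5
  norm_num at h1 h4' h5
  refine ⟨by linarith, h2, h3, by linarith, ?_⟩
  have e1 : (426195 + (A.map fun χ => (dg χ : ℤ) * b χ).sum) ^ 2 ≤
      (244823040 - (74593995 + (A.map fun χ => (dg χ : ℤ) ^ 2).sum)) *
        (7680 - (3995 + (A.map fun χ => b χ ^ 2).sum)) := h5
  calc _ ≤ _ := e1
    _ = _ := by ring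

theorem map_sum_eq {A : List (IrrCharacter G)} (hA : ∀ χ ∈ A, χ ∈ l)
    {F : IrrCharacter G → ℤ} {F' : ℕ × ℤ → ℤ} (h : ∀ χ ∈ l, F' (pr H b χ) = F χ) :
    ((A.map (pr H b)).map F').sum = (A.map F).sum := by
  rw [List.map_map]
  congr 1
  exact List.map_congr_left fun χ hχ => h χ (hA χ hχ)

theorem good {A : List (IrrCharacter G)} (hA : ∀ χ ∈ A, χ ∈ l)
    (hnd : ([H.D.one, c5544, c990, c990', c1035, c5796, c1771, c2024] ++ A).Nodup) :
    Good (A.map (pr H b)) := by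
  obtain ⟨h1, h2, h3, h4, h5⟩ := ineq K hnd
  have e1 : nn (A.map (pr H b)) = (A.map fun χ => b χ ^ 2).sum := by
    refine map_sum_eq K hl hA fun χ hχ => ?_
    change (H.D.ε χ * b χ) ^ 2 = b χ ^ 2
    rcases eps K hl hχ with h | h <;> rw [h] <;> ring
  have e2 : cc (A.map (pr H b)) = (A.map fun χ => (b χ - dg χ) ^ 2 % 5).sum := by
    refine map_sum_eq K hl hA fun χ hχ => ?_
    rw [sg_pr K hl hχ]
    change (H.D.ε χ * b χ - H.D.ε χ * (dg χ : ℤ)) ^ 2 % 5 = (b χ - dg χ) ^ 2 % 5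
    congr 1
    rcases eps K hl hχ with h | h <;> rw [h] <;> ring
  have e3 : ww (A.map (pr H b)) = (A.map fun χ => (2 * b χ - dg χ) ^ 2 % 5).sum := by
    refine map_sum_eq K hl hA fun χ hχ => ?_
    rw [sg_pr K hl hχ]
    change (2 * (H.D.ε χ * b χ) - H.D.ε χ * (dg χ : ℤ)) ^ 2 % 5 = (2 * b χ - dg χ) ^ 2 % 5
    congr 1
    rcases eps K hl hχ with h | h <;> rw [h] <;> ring
  have e4 : DD (A.map (pr H b)) = (A.map fun χ => (dg χ : ℤ) ^ 2).sum := by
    refine map_sum_eq K hl hA fun χ hχ => ?_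
    rw [sg_pr K hl hχ]
    change (H.D.ε χ * (dg χ : ℤ)) ^ 2 = (dg χ : ℤ) ^ 2
    rcases eps K hl hχ with h | h <;> rw [h] <;> ring
  have e5 : CC (A.map (pr H b)) = (A.map fun χ => (dg χ : ℤ) * b χ).sum := by
    refine map_sum_eq K hl hA fun χ hχ => ?_
    rw [sg_pr K hl hχ]
    change (H.D.ε χ * (dg χ : ℤ)) * (H.D.ε χ * b χ) = (dg χ : ℤ) * b χ
    rcases eps K hl hχ with h | h <;> rw [h] <;> ring
  exact ⟨by rw [e1]; exact h1, by rw [e2]; exact h2, by rw [e3]; exact h3,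
    by rw [e4]; exact h4, by rw [e1, e4, e5]; exact h5⟩

omit K in
/-- Sums over the nonexceptional characters. -/
theorem sum_NE (F : IrrCharacter G → ℤ) : ∑ χ ∈ H.D.NE, F χ =
    F H.D.one + F c5544 + F c990 + F c990' + (l.map F).sum := by
  classical
  have h1 : H.D.NE = ([H.D.one, c5544, c990, c990'] ++ l).toFinset := by
    ext χ
    rw [List.mem_toFinset]
    exact hl.NE χ
  rw [h1, List.sum_toFinset _ hl.nodup]
  simp only [List.map_append, List.map_cons, List.map_nil, List.sum_append, List.sum_cons,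
    List.sum_nil]
  ring

omit hl in
theorem eps_known : H.D.ε c5544 = 1 ∧ H.D.ε c990 = 1 ∧ H.D.ε c990' = 1 := by
  refine ⟨?_, ?_, ?_⟩
  · rcases mod23_NE H (mem_NE23 H (χ := c5544) (by rw [K.d5544]; norm_num)) with h | h <;>
      rw [K.d5544] at h <;> omega
  · rcases mod23_NE H (mem_NE23 H (χ := c990) (by rw [K.d990]; norm_num)) with h | h <;>
      rw [K.d990] at h <;> omega
  · rcases mod23_NE H (mem_NE23 H (χ := c990') (by rw [K.d990']; norm_num)) with h | h <;>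
      rw [K.d990'] at h <;> omega

/-- degree relation -/
theorem rel_d {Θ : IrrCharacter G} (hΘ : Θ ∈ H.D.X) :
    (l.map (sd H)).sum + 7525 = H.D.d * (H.D.f : ℤ) := by
  have h := H.D.rel_deg (by norm_num) hΘ
  rw [sum_NE hl] at h
  obtain ⟨e1, e2, e3⟩ := eps_known K
  rw [H.D.ε_one, e1, e2, e3, dg_one, K.d5544, K.d990, K.d990'] at h
  have h' : (l.map fun χ => H.D.ε χ * (dg χ : ℤ)).sum = (l.map (sd H)).sum := rfl
  rw [h'] at h
  push_cast at h
  linarith

/-- relation at elements of order 11 -/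
theorem rel_u {Θ : IrrCharacter G} (hΘ : Θ ∈ H.D.X) :
    1 + (l.map fun χ => r11 (sd H χ)).sum = r11 (H.D.d * (H.D.f : ℤ)) := by
  obtain ⟨y, hy, hy1⟩ : ∃ x ∈ (H.Q : Subgroup G), x ≠ 1 := by
    by_contra h
    push Not at h
    have h1 : (H.Q : Subgroup G) = ⊥ := (Subgroup.eq_bot_iff_forall _).2 h
    have h2 : Nat.card (H.Q : Subgroup G) = 11 := H.hQ
    rw [h1] at h2
    simp at h2
  have hy23 : ¬ 23 ∣ orderOf y := by
    intro h
    have h1 : orderOf y ∣ 11 := by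
      have h2 : orderOf (⟨y, hy⟩ : (H.Q : Subgroup G)) ∣ Nat.card (H.Q : Subgroup G) :=
        orderOf_dvd_natCard _
      have h3 : Nat.card (H.Q : Subgroup G) = 11 := H.hQ
      rw [h3, Subgroup.orderOf_mk] at h2
      exact h2
    have := h.trans h1
    omega
  have h := H.D.rel Θ hΘ y hy23
  rw [val_u H Θ hy hy1, Finset.sum_congr rfl fun χ _ => by rw [val_u H χ hy hy1]] at h
  have h' : ∑ χ ∈ H.D.NE, H.D.ε χ * uu χ = H.D.d * uu Θ := by exact_mod_cast h
  rw [sum_NE hl] at h'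
  obtain ⟨e1, e2, e3⟩ := eps_known K
  rw [H.D.ε_one, e1, e2, e3, uu_of_one (by rw [dg_one]), uu_of_zero (by rw [K.d5544]),
    uu_of_zero (by rw [K.d990]), uu_of_zero (by rw [K.d990'])] at h'
  rw [← H.D.deg_X Θ hΘ, r11_eq H H.D.d_mem, ← h']
  have : (l.map fun χ => r11 (sd H χ)) = l.map fun χ => H.D.ε χ * uu χ :=
    List.map_congr_left fun χ hχ => r11_eq H (eps K hl hχ)
  rw [this]
  ring

/-- (R1) -/
theorem rel_b {Θ : IrrCharacter G} (hΘ : Θ ∈ H.D.X) :
    5 + (l.map (bb H b)).sum = H.D.d * b Θ := by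
  have h := K.rel23 hΘ
  rw [sum_NE hl] at h
  obtain ⟨e1, e2, e3⟩ := eps_known K
  rw [H.D.ε_one, e1, e2, e3, K.one, K.b5544, K.b990, K.b990'] at h
  have h' : (l.map fun χ => H.D.ε χ * b χ).sum = (l.map (bb H b)).sum := rfl
  rw [h'] at h
  linarith

/-- (R2) -/
theorem rel_q {Θ : IrrCharacter G} (hΘ : Θ ∈ H.D.X) :
    319718400 + (l.map fun χ => bb H b χ ^ 2 * (244823040 / sd H χ)).sum =
      H.D.d * (b Θ ^ 2 * (244823040 / (H.D.f : ℤ))) := by
  have h := K.rel23' hΘ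
  rw [sum_NE hl] at h
  obtain ⟨e1, e2, e3⟩ := eps_known K
  rw [H.D.ε_one, e1, e2, e3, K.one, K.b5544, K.b990, K.b990', dg_one, K.d5544, K.d990, K.d990',
    H.D.deg_X Θ hΘ] at h
  have h' : (l.map fun χ => H.D.ε χ * (b χ ^ 2 * (244823040 / (dg χ : ℤ)))) =
      l.map fun χ => bb H b χ ^ 2 * (244823040 / sd H χ) := by
    refine List.map_congr_left fun χ hχ => ?_
    unfold bb sd
    rcases eps K hl hχ with h' | h' <;> rw [h']
    · ring_nf
    · rw [neg_one_mul, neg_one_mul, neg_one_mul, Int.ediv_neg]; ring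
  rw [h'] at h
  rw [← h]
  norm_num

end Facts

theorem zipWith_map_map {α β γ δ : Type*} (f : α → β → γ) (g : δ → α) (h : δ → β) (l : List δ) :
    List.zipWith f (l.map g) (l.map h) = l.map fun x => f (g x) (h x) := by
  induction l with
  | nil => rfl
  | cons x l ih => simp [ih]

/-- **The principal 23-block.** -/
theorem exists_block (K : Last H t b c1035 c5796 c1771 c2024 c5544 c990 c990') :
    ∃ l r, Block H b c5544 c990 c990' l r := by
  obtain ⟨l, hl⟩ := exists_lst K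
  obtain ⟨Θ, Θ', hne, hX⟩ := exists_X H
  have hΘ : Θ ∈ H.D.X := (hX Θ).2 (Or.inl rfl)
  have hΘ' : Θ' ∈ H.D.X := (hX Θ').2 (Or.inr rfl)
  have hfull := full_nodup K hl hne hX
  have hbd : ∀ χ ∈ l, -60 ≤ (pr H b χ).2 ∧ (pr H b χ).2 ≤ 60 := by
    intro χ hχ
    have h1 := ok_pr K hl hχ
    exact (ok_facts _ h1.1 _ h1.2).2.2.1
  have hb : b Θ' = b Θ := K.b_X hΘ' hΘ
  have hd1 : dg Θ = H.D.f := H.D.deg_X Θ hΘ
  have hd2 : dg Θ' = H.D.f := H.D.deg_X Θ' hΘ'
  have hdd : H.D.d = 1 ∨ H.D.d = -1 := H.D.d_mem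
  have hdsq : H.D.d ^ 2 = 1 := by rcases hdd with h | h <;> rw [h] <;> norm_num
  have hf0 : (0 : ℤ) < H.D.f := by
    rw [← hd1]
    exact_mod_cast Nat.pos_of_ne_zero (dg_ne_zero Θ)
  obtain ⟨i1, i2, i3, i4, i5⟩ := ineq K hfull
  simp only [List.map_append, List.map_cons, List.map_nil, List.sum_append, List.sum_cons,
    List.sum_nil, hb, hd1, hd2] at i1 i2 i3 i4 i5
  -- sortedness
  have hsort : l.IsChain fun χ ψ => ((pr H b χ).1 ≤ (pr H b ψ).1) ∧
      ((pr H b χ).1 = (pr H b ψ).1 → (pr H b χ).2 ≤ (pr H b ψ).2) := by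
    have h1 := hl.sort
    rw [List.pairwise_map] at h1
    have h2 : l.Pairwise fun χ ψ => ((pr H b χ).1 ≤ (pr H b ψ).1) ∧
        ((pr H b χ).1 = (pr H b ψ).1 → (pr H b χ).2 ≤ (pr H b ψ).2) := by
      refine List.Pairwise.imp_of_mem ?_ h1
      intro χ ψ hχ hψ h
      have b1 := hbd χ hχ
      have b2 := hbd ψ hψ
      refine ⟨?_, ?_⟩
      · by_contra hcon
        have : ((pr H b ψ).1 : ℤ) + 1 ≤ (pr H b χ).1 := by exact_mod_cast (not_le.1 hcon)
        omega
      · intro h3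
        rw [h3] at h
        omega
    exact h2.isChain
  -- step A
  have hXX : H.D.d * (H.D.f : ℤ) ∈ xtab.map Prod.fst := by
    have hA := arith_X _ (dg_mem_A H Θ) (dg_ne_eleven H Θ)
    rw [hd1] at hA
    have hm := mod23_X H hΘ
    rw [hd1] at hm
    rcases hm with ⟨h1, h2⟩ | ⟨h1, h2⟩
    · rw [h1, one_mul]; exact hA.1 h2
    · rw [h1, neg_one_mul]; exact hA.2 h2
  have hsq : (l.map fun χ => ty (types.idxOf (sd H χ)) ^ 2) = l.map fun χ => (dg χ : ℤ) ^ 2 := by
    refine List.map_congr_left fun χ hχ => ?_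
    rw [ty_idx K hl hχ]
    unfold sd
    rcases eps K hl hχ with h | h <;> rw [h] <;> ring
  obtain ⟨e, he, he1, he2⟩ := exists_entry (L := l.map fun χ => types.idxOf (sd H χ))
    (X := H.D.d * (H.D.f : ℤ)) (by rw [List.length_map, hl.len])
    (by
      intro n hn
      obtain ⟨χ, hχ, rfl⟩ := List.mem_map.1 hn
      exact (ok_pr K hl hχ).1)
    (by
      rw [List.isChain_map]
      exact hsort.imp fun χ ψ h => h.1) hXX
    (by
      have h := rel_d K hl hΘ
      rw [← h]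
      congr 1
      unfold ds
      rw [List.map_map]
      congr 1
      exact List.map_congr_left fun χ hχ => ty_idx K hl hχ)
    (by
      have h := rel_u K hl hΘ
      rw [← h]
      congr 1
      unfold rs
      rw [List.map_map]
      congr 1
      exact List.map_congr_left fun χ hχ => by
        change r11 (ty (types.idxOf (sd H χ))) = _
        rw [ty_idx K hl hχ])
    (by
      have e1 : sqs (l.map fun χ => types.idxOf (sd H χ)) =
          (l.map fun χ => (dg χ : ℤ) ^ 2).sum := by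
        unfold sqs
        rw [List.map_map, ← hsq]
        rfl
      rw [e1]
      have e2 : (H.D.d * (H.D.f : ℤ)) ^ 2 = (H.D.f : ℤ) ^ 2 := by rw [mul_pow, hdsq, one_mul]
      rw [e2]
      linarith)
  -- step B
  have hOk : ∀ x ∈ l.map (pr H b), Ok x := by
    intro x hx
    obtain ⟨χ, hχ, rfl⟩ := List.mem_map.1 hx
    exact ok_pr K hl hχ
  have eSS : SS (l.map (pr H b)) = (l.map (bb H b)).sum := by
    unfold SS; rw [List.map_map]; rfl
  have eQQ : QQ (l.map (pr H b)) =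
      (l.map fun χ => bb H b χ ^ 2 * (244823040 / sd H χ)).sum := by
    refine map_sum_eq K hl (fun χ h => h) fun χ hχ => ?_
    rw [sg_pr K hl hχ]
    rfl
  have hR1 := rel_b K hl hΘ
  have hR2 := rel_q K hl hΘ
  have hpath := test_spec (LastRun.test_all e he) (L := l.map (pr H b))
    (by rw [he1, List.map_map]; rfl) hOk (by rw [List.length_map, hl.len])
    (by
      rw [List.isChain_map]
      exact hsort.imp fun χ ψ h => h.2)
    (by
      intro A' B' hAB
      obtain ⟨l₁, l₂, h1, rfl, rfl⟩ := List.map_eq_append_iff.1 hAB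
      refine good K hl (fun χ hχ => by rw [h1]; exact List.mem_append_left _ hχ) ?_
      rw [h1] at hfull
      refine List.Nodup.sublist ?_ hfull
      refine List.Sublist.append_left ?_ _
      rw [List.append_assoc]
      exact List.sublist_append_left _ _)
    (by
      obtain ⟨g1, g2⟩ := data_g e he
      rw [he2] at g1 ⊢
      rw [eSS, eQQ, hR1, hR2]
      have hfd : (H.D.f : ℤ) ∣ 244823040 := by
        have := dg_dvd Θ
        rw [hd1, H.hcard] at this
        exact_mod_cast this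
      obtain ⟨q, hq⟩ := hfd
      have hq' : (244823040 : ℤ) / (H.D.f : ℤ) = q := by
        rw [hq, Int.mul_ediv_cancel_left _ hf0.ne']
      rw [hq']
      rcases hdd with h | h
      · left
        rw [h, one_mul, abs_of_pos hf0] at g1
        have : (e.2.2.1 : ℤ) = q := by
          have : (H.D.f : ℤ) * e.2.2.1 = H.D.f * q := by rw [← hq, ← g1]; ring
          exact mul_left_cancel₀ hf0.ne' this
        rw [h, one_mul, this]
        exact ⟨hf0, by ring⟩
      · right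
        rw [h, neg_one_mul, abs_neg, abs_of_pos hf0] at g1
        have : (e.2.2.1 : ℤ) = q := by
          have : (H.D.f : ℤ) * e.2.2.1 = H.D.f * q := by rw [← hq, ← g1]; ring
          exact mul_left_cancel₀ hf0.ne' this
        rw [h, neg_one_mul, this]
        exact ⟨by linarith, by ring⟩)
  have hbbl : (l.map (pr H b)).map Prod.snd = l.map (bb H b) := by
    rw [List.map_map]; rfl
  rw [hbbl] at hpath
  -- the exceptional characters
  have hrow := filter_rows e he _ hpath ?_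
  · rw [List.reverse_reverse, he1, he2] at hrow
    refine ⟨l, _, hrow, hl.nodup, hl.NE, ?_, rfl, ?_⟩
    · unfold row
      simp only
      rw [zipWith_map_map]
      refine List.map_congr_left fun χ hχ => ?_
      rw [ty_idx K hl hχ]
      rfl
    · intro Θ₁ hΘ₁
      unfold row
      simp only
      rw [rel_b K hl hΘ₁]
  · rw [List.reverse_reverse, he1, he2]
    unfold okrow
    simp only [zipWith_map_map]
    rw [hR1]
    obtain ⟨f1, f2, f3, f4⟩ := okval_facts K (χ := Θ) hdd (fun h => by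
      have := mod23_X H hΘ
      rw [h, dg_one] at this
      omega)
    rw [hd1] at f1 f2 f3 f4
    have e1 : (H.D.d * b Θ) ^ 2 = b Θ ^ 2 := by rw [mul_pow, hdsq, one_mul]
    have e2 : (H.D.d * b Θ - H.D.d * (H.D.f : ℤ)) ^ 2 = (b Θ - H.D.f) ^ 2 := by
      rw [← mul_sub, mul_pow, hdsq, one_mul]
    have e3 : (2 * (H.D.d * b Θ) - H.D.d * (H.D.f : ℤ)) ^ 2 = (2 * b Θ - H.D.f) ^ 2 := by
      have : 2 * (H.D.d * b Θ) - H.D.d * (H.D.f : ℤ) = H.D.d * (2 * b Θ - H.D.f) := by ring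
      rw [this, mul_pow, hdsq, one_mul]
    have e4 : (H.D.d * (H.D.f : ℤ)) ^ 2 = (H.D.f : ℤ) ^ 2 := by rw [mul_pow, hdsq, one_mul]
    have e5 : H.D.d * (H.D.f : ℤ) * (H.D.d * b Θ) = H.D.f * b Θ := by
      have : H.D.d * (H.D.f : ℤ) * (H.D.d * b Θ) = H.D.d ^ 2 * (H.D.f * b Θ) := by ring
      rw [this, hdsq, one_mul]
    have m1 : ((l.map (bb H b)).map (· ^ 2)) = l.map fun χ => b χ ^ 2 := by
      rw [List.map_map]
      refine List.map_congr_left fun χ hχ => ?_
      change (H.D.ε χ * b χ) ^ 2 = b χ ^ 2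
      rcases eps K hl hχ with h | h <;> rw [h] <;> ring
    have m2 : (l.map fun χ => (bb H b χ - ty (types.idxOf (sd H χ))) ^ 2 % 5) =
        l.map fun χ => (b χ - dg χ) ^ 2 % 5 := by
      refine List.map_congr_left fun χ hχ => ?_
      rw [ty_idx K hl hχ]
      change (H.D.ε χ * b χ - H.D.ε χ * (dg χ : ℤ)) ^ 2 % 5 = (b χ - dg χ) ^ 2 % 5
      congr 1
      rcases eps K hl hχ with h | h <;> rw [h] <;> ring
    have m3 : (l.map fun χ => (2 * bb H b χ - ty (types.idxOf (sd H χ))) ^ 2 % 5) =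
        l.map fun χ => (2 * b χ - dg χ) ^ 2 % 5 := by
      refine List.map_congr_left fun χ hχ => ?_
      rw [ty_idx K hl hχ]
      change (2 * (H.D.ε χ * b χ) - H.D.ε χ * (dg χ : ℤ)) ^ 2 % 5 = (2 * b χ - dg χ) ^ 2 % 5
      congr 1
      rcases eps K hl hχ with h | h <;> rw [h] <;> ring
    have m4 : (l.map fun χ => ty (types.idxOf (sd H χ)) * bb H b χ) =
        l.map fun χ => (dg χ : ℤ) * b χ := by
      refine List.map_congr_left fun χ hχ => ?_
      rw [ty_idx K hl hχ]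
      change (H.D.ε χ * (dg χ : ℤ)) * (H.D.ε χ * b χ) = (dg χ : ℤ) * b χ
      rcases eps K hl hχ with h | h <;> rw [h] <;> ring
    have m5 : ((l.map fun χ => types.idxOf (sd H χ)).map fun n => ty n ^ 2) =
        l.map fun χ => (dg χ : ℤ) ^ 2 := by
      rw [List.map_map, ← hsq]; rfl
    rw [m1, m2, m3, m4, m5, e1, e2, e3, e4, e5]
    simp only [Bool.and_eq_true, Bool.or_eq_true, Bool.not_eq_true', decide_eq_true_eq,
      decide_eq_false_iff_not]
    refine ⟨⟨⟨⟨⟨⟨f1, ?_⟩, f4⟩, by linarith⟩, by linarith⟩, by linarith⟩, ?_⟩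
    · by_cases h5 : (5 : ℤ) ∣ H.D.d * (H.D.f : ℤ)
      · exact Or.inr (f3 h5)
      · exact Or.inl h5
    · calc _ = (426195 + ((l.map fun χ => (dg χ : ℤ) * b χ).sum +
            (H.D.f * b Θ + (H.D.f * b Θ + 0)))) ^ 2 := by ring
        _ ≤ _ := i5
        _ = _ := by ring

end Cfsg.Agent.M24Order.Last23
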