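import Cfsg.Agent.M24Order.LastEngine

/-!
# The search over the `t`-column of the principal 23-block: tables and soundness

Types: the twelve possible signed degrees of the unknown nonexceptional characters. An option of a
type is a (signed) value together with the packed contributions to: the norm, the two weights, the
sum of the values, the sum `∑ B² |G|/s`, the sums `∑ s B` and `∑ s²`.
-/

set_option autoImplicit false

namespace Cfsg.Agent.M24Order.LastB

open Cfsg.Agent.M24Order.LastEngine

/-- The signed degrees. -/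
def types : List ℤ := [-12672, -10395, 5544, -3840, 3520, -1540, 990, -528, -252, 231, -45, -22]

/-- The possible signed values. -/
def vals : List (List ℤ) :=
  [[0], [-15, 45], [-60, -56, -52, -48, -44, -40, -36, -32, -28, -24, -20, -16, -12, -8, -4, 0, 4,
    8, 12, 16, 20, 24, 28, 32, 36, 40, 44, 48, 52, 56, 60], [0], [0], [-60, -40, -20, 0, 20, 40,
    60], [-50, -30, -10, 10, 30, 50], [-48, -40, -32, -24, -16, -8, 0, 8, 16, 24, 32, 40, 48],
    [-20, -16, -12, -8, -4, 0, 4, 8, 12, 16, 20], [-21, -17, -13, -9, -5, -1, 3, 7, 11, 15, 19],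
    [-5], [-2, 2]]

/-- Packed contribution. -/
def pkZ (s B : ℤ) : ℤ :=
  B ^ 2 + 16384 * ((B - s) ^ 2 % 5) + 262144 * ((2 * B - s) ^ 2 % 5) +
    8388608 * (B + 2048 * (B ^ 2 * (244823040 / s) + 137438953472 * (s * B + 16777216 * s ^ 2)))

/-- The table of options. -/
def tab0 : List (List (ℤ × ℕ)) :=
  [[(0, nat_lit 6361212688812480698403424315336884224)], [(-15, nat_lit
    4280540155040872556637897620119879905), (45, nat_lit 4280540153568202568226682258493278185)],
    [(-60, nat_lit 1217575865432589892979087926307868176), (-56, nat_lit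
    1217575865484951492189126909722102848), (-52, nat_lit 1217575865537313091423443109878450832),
    (-48, nat_lit 1217575865589674690682036526774290688), (-44, nat_lit
    1217575865642036289964907160413472656), (-40, nat_lit 1217575865694397889272055010792064576),
    (-36, nat_lit 1217575865746759488603480077912769808), (-32, nat_lit
    1217575865799121087959182361775588352), (-28, nat_lit 1217575865851482687339161862377898768),
    (-24, nat_lit 1217575865903844286743418579723551296), (-20, nat_lit
    1217575865956205886171952513808613776), (-16, nat_lit 1217575866008567485624763664635789568),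
    (-12, nat_lit 1217575866060929085101852032205078672), (-8, nat_lit
    1217575866113290684603217616513859648), (-4, nat_lit 1217575866165652284128860417565982736),
    (0, nat_lit 1217575866218013883678780435357515776), (4, nat_lit
    1217575866270375483252977669891162128), (8, nat_lit 1217575866322737082851452121166921792),
    (12, nat_lit 1217575866375098682474203789182173328), (16, nat_lit
    1217575866427460282121232673940766976), (20, nat_lit 1217575866479821881792538775438770576),
    (24, nat_lit 1217575866532183481488122093678887488), (28, nat_lit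
    1217575866584545081207982628661117712), (32, nat_lit 1217575866636906680952120380382839808),
    (36, nat_lit 1217575866689268280720535348847904016), (40, nat_lit
    1217575866741629880513227534052378176), (44, nat_lit 1217575866793991480330196935998965648),
    (48, nat_lit 1217575866846353080171443554687666432), (52, nat_lit
    1217575866898714680036967390115859088), (56, nat_lit 1217575866951076279926768442287393856),
    (60, nat_lit 1217575867003437879840846711198338576)], [(0, nat_lit
    584133396585168108209680837037260800)], [(0, nat_lit 490834312408370424259523481121587200)],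
    [(-60, nat_lit 93948755327587973194729244453768720), (-40, nat_lit
    93948755254863534820910475121788480), (-20, nat_lit 93948755182139094262142199073341840), (0,
    nat_lit 93948755109414651518424416308428800), (20, nat_lit
    93948755036690206589757126827049360), (40, nat_lit 93948754963965759476140330629203520), (60,
    nat_lit 93948754891241310177574027714891280)], [(-50, nat_lit
    38825760923236678807974817719912900), (-30, nat_lit 38825760969988100190763617940931460),
    (-10, nat_lit 38825761016739524972362761943122020), (10, nat_lit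
    38825761063490953152772249726484580), (30, nat_lit 38825761110242384731992081291019140), (50,
    nat_lit 38825761156993819710022256636725700)], [(-48, nat_lit
    11043772089030144263187565653264640), (-40, nat_lit 11043772079056511859403942268044864),
    (-32, nat_lit 11043772069082878435977215747572736), (-24, nat_lit
    11043772059109243992907386093322816), (-16, nat_lit 11043772049135608530194453305295104), (-8,
    nat_lit 11043772039161972047838417383325760), (0, nat_lit
    11043772029188334545839278326349824), (8, nat_lit 11043772019214696024197036134121536), (16,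
    nat_lit 11043772009241056482911690808115456), (24, nat_lit
    11043771999267415921983242348331584), (32, nat_lit 11043771989293774341411690754606080), (40,
    nat_lit 11043771979320131741197036025873984), (48, nat_lit
    11043771969346488121339278161889536)], [(-20, nat_lit 2515652628053278107867109427052944),
    (-16, nat_lit 2515652625673207803945265659920640), (-12, nat_lit
    2515652623293136965924653586448528), (-8, nat_lit 2515652620913065593805273202704448), (-4,
    nat_lit 2515652618532993687587124511309840), (0, nat_lit 2515652616152921247270207512182784),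
    (4, nat_lit 2515652613772848272854522202701840), (8, nat_lit
    2515652611392774764340068586881088), (12, nat_lit 2515652609012700721726846660788368), (16,
    nat_lit 2515652606632626145014856427045120), (20, nat_lit
    2515652604252551034204097885569424)], [(-21, nat_lit 2113846978507737784653661909090745),
    (-17, nat_lit 2113846980689468332136729522798881), (-13, nat_lit
    2113846982871199462272998929612969), (-9, nat_lit 2113846985052931175062470125682769), (-5,
    nat_lit 2113846987234663470505143113629721), (-1, nat_lit 2113846989416396348601017893453825),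
    (3, nat_lit 2113846991598129809350094462451721), (7, nat_lit
    2113846993779863852752372824555569), (11, nat_lit 2113846995961598478807852975915129), (15,
    nat_lit 2113846998143333687516534919151841), (19, nat_lit
    2113847000325069478878418654265705)], [(-5, nat_lit 80218515076956534454186944757785)], [(-2,
    nat_lit 19173215432343267588442464190468), (2, nat_lit 19173215224559142342178107572228)]]

/-- The `n`-th entry. -/
noncomputable def nth (l : List (List (ℤ × ℕ))) (n : ℕ) : List (ℤ × ℕ) :=
  List.rec (motive := fun _ => ℕ → List (ℤ × ℕ)) (fun _ => [])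
    (fun x _ ih => fun n => Nat.rec (motive := fun _ => List (ℤ × ℕ)) x (fun m _ => ih m) n) l n

/-- The options of a type. -/
noncomputable def tab (n : ℕ) : List (ℤ × ℕ) := nth tab0 n

/-- The Gram inequality. -/
def gramTest (e m : ℕ) : Bool :=
  Nat.ble (Nat.add (Nat.mul (Nat.mod e (nat_lit 16777216)) (Nat.mod e (nat_lit 16777216))) (nat_lit 70368744177664))
    (Nat.add (Nat.mul (Nat.sub (nat_lit 244823040) (Nat.div e (nat_lit 16777216))) (Nat.sub (nat_lit 8191) m))
      (Nat.mul (nat_lit 16777216) (Nat.mod e (nat_lit 16777216))))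

/-- The pruning test: three guard bits and the Gram inequality. -/
noncomputable def chk (a : ℕ) : Bool :=
  cond (Nat.beq (Nat.land a (nat_lit 4333568)) (nat_lit 0))
    (Nat.rec (motive := fun _ => Bool) true (fun e _ =>
      gramTest (Nat.succ e) (Nat.mod a (nat_lit 8192))) (Nat.div a (nat_lit 2361183241434822606848))) false

/-- The test at the end, positive exceptional sign. -/
noncomputable def leafP (g : ℕ) (al : List (List ℤ)) (path : List ℤ) (a : ℕ) : Bool :=
  Nat.rec (motive := fun _ => Bool) true (fun T _ =>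
    cond (Nat.beq (Nat.add (Nat.mod (Nat.div a (nat_lit 17179869184)) (nat_lit 137438953472))
        (Nat.mul (Nat.mul (nat_lit 2048) g) (Nat.succ T)))
      (Nat.add (Nat.mul (Nat.mul g (Nat.succ T)) (Nat.succ T))
        (Nat.add (nat_lit 68719476736) (Nat.mul (nat_lit 1048576) g))))
     (al.contains path) true) (Nat.mod (Nat.div a (nat_lit 8388608)) (nat_lit 2048))

/-- The test at the end, negative exceptional sign. -/
noncomputable def leafN (g : ℕ) (al : List (List ℤ)) (path : List ℤ) (a : ℕ) : Bool :=
  Nat.rec (motive := fun _ => Bool) true (fun T _ =>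
    cond (Nat.beq (Nat.add (Nat.mul (Nat.mul (nat_lit 2048) g) (Nat.succ T)) (nat_lit 68719476736))
      (Nat.add (Nat.add (Nat.mod (Nat.div a (nat_lit 17179869184)) (nat_lit 137438953472))
        (Nat.mul (Nat.mul g (Nat.succ T)) (Nat.succ T))) (Nat.mul (nat_lit 1048576) g)))
     (al.contains path) true) (Nat.mod (Nat.div a (nat_lit 8388608)) (nat_lit 2048))

/-- The test at the end. -/
noncomputable def leaf (X : ℤ) (g : ℕ) (al : List (List ℤ)) (path : List ℤ) (a : ℕ) : Bool :=
  Int.rec (motive := fun _ => Bool) (fun _ => leafP g al path a) (fun _ => leafN g al path a) X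

/-- The initial state: the known characters. -/
def init : ℕ := (nat_lit 2954972600037477019799304364895801754)

/-- The search for one set of degrees. -/
noncomputable def test (e : List ℕ × ℤ × ℕ × List (List ℤ)) : Bool :=
  go chk tab (leaf e.2.1 e.2.2.1 e.2.2.2) (codes 12 e.1) [] [] init

/-! ### Tables -/

theorem nth_eq (l : List (List (ℤ × ℕ))) (n : ℕ) : nth l n = l.getD n [] := by
  induction l generalizing n with
  | nil => cases n <;> rfl
  | cons x l ih =>
    cases n with
    | zero => rfl
    | succ n => exact ih n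

theorem tab_eq (n : ℕ) : tab n = tab0.getD n [] := nth_eq _ _

theorem tab_sorted (n : ℕ) : (tab n).Pairwise fun p q => p.1 < q.1 := by
  have key : ∀ l ∈ tab0, l.Pairwise fun p q : ℤ × ℕ => p.1 < q.1 := by decide +kernel
  rw [tab_eq]
  by_cases h : n < tab0.length
  · rw [List.getD_eq_getElem _ _ h]
    exact key _ (List.getElem_mem h)
  · rw [List.getD_eq_default _ _ (by omega)]
    exact List.Pairwise.nil

/-- A pair (type, value). -/
def Ok (x : ℕ × ℤ) : Prop := x.1 < 12 ∧ x.2 ∈ vals.getD x.1 []

/-- The signed degree. -/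
def sg (x : ℕ × ℤ) : ℤ := types.getD x.1 0

theorem ok_facts : ∀ n < 12, ∀ B ∈ vals.getD n [],
    (B, (pkZ (types.getD n 0) B).toNat) ∈ tab0.getD n [] ∧ 0 ≤ pkZ (types.getD n 0) B ∧
      (-60 ≤ B ∧ B ≤ 60) ∧ (-2147483648 ≤ B ^ 2 * (244823040 / types.getD n 0) ∧
        B ^ 2 * (244823040 / types.getD n 0) ≤ 2147483648) ∧
      (-524288 ≤ types.getD n 0 * B ∧ types.getD n 0 * B ≤ 524288) := by
  decide +kernel

/-- The option of a pair. -/
def opt (x : ℕ × ℤ) : ℤ × ℕ := (x.2, (pkZ (sg x) x.2).toNat)

theorem opt_mem {x : ℕ × ℤ} (hx : Ok x) : opt x ∈ tab x.1 := by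
  rw [tab_eq]
  exact (ok_facts x.1 hx.1 x.2 hx.2).1

/-! ### Sums -/

/-- the norm -/
def nn (L : List (ℕ × ℤ)) : ℤ := (L.map fun x => x.2 ^ 2).sum
/-- the first weight -/
def cc (L : List (ℕ × ℤ)) : ℤ := (L.map fun x => (x.2 - sg x) ^ 2 % 5).sum
/-- the second weight -/
def ww (L : List (ℕ × ℤ)) : ℤ := (L.map fun x => (2 * x.2 - sg x) ^ 2 % 5).sum
/-- the sum of the values -/
def SS (L : List (ℕ × ℤ)) : ℤ := (L.map fun x => x.2).sum
/-- the quadratic sum -/
def QQ (L : List (ℕ × ℤ)) : ℤ := (L.map fun x => x.2 ^ 2 * (244823040 / sg x)).sum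
/-- the inner product with the degrees -/
def CC (L : List (ℕ × ℤ)) : ℤ := (L.map fun x => sg x * x.2).sum
/-- the norm of the degrees -/
def DD (L : List (ℕ × ℤ)) : ℤ := (L.map fun x => sg x ^ 2).sum

/-- The state after the choices `L`. -/
def acc (L : List (ℕ × ℤ)) : ℕ := init + (L.map fun x => (opt x).2).sum

theorem acc_eq {L : List (ℕ × ℤ)} (h : ∀ x ∈ L, Ok x) : (acc L : ℤ) =
    (4506 + nn L) + 16384 * (2 + cc L) + 262144 * (5 + ww L) +
      8388608 * ((1029 + SS L) + 2048 * ((69039195136 + QQ L) +
        137438953472 * ((8814803 + CC L) + 16777216 * (74593995 + DD L)))) := by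
  induction L with
  | nil =>
    simp only [acc, nn, cc, ww, SS, QQ, CC, DD, List.map_nil, List.sum_nil, add_zero]
    decide +kernel
  | cons x L ih =>
    have h1 := ih fun y hy => h y (List.mem_cons_of_mem _ hy)
    have h2 := (ok_facts x.1 (h x (by simp)).1 x.2 (h x (by simp)).2).2.1
    simp only [acc, nn, cc, ww, SS, QQ, CC, DD, List.map_cons, List.sum_cons] at h1 ⊢
    push_cast at h1 ⊢
    have h3 : ((opt x).2 : ℤ) = pkZ (sg x) x.2 := Int.toNat_of_nonneg h2
    rw [h3]
    unfold pkZ
    linarith

theorem bounds {L : List (ℕ × ℤ)} (h : ∀ x ∈ L, Ok x) :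
    0 ≤ nn L ∧ 0 ≤ cc L ∧ 0 ≤ ww L ∧ 0 ≤ DD L ∧
    (-60 * (L.length : ℤ) ≤ SS L ∧ SS L ≤ 60 * (L.length : ℤ)) ∧
    (-2147483648 * (L.length : ℤ) ≤ QQ L ∧ QQ L ≤ 2147483648 * (L.length : ℤ)) ∧
    (-524288 * (L.length : ℤ) ≤ CC L ∧ CC L ≤ 524288 * (L.length : ℤ)) := by
  induction L with
  | nil => simp [nn, cc, ww, SS, QQ, CC, DD]
  | cons x L ih =>
    obtain ⟨h1, h2, h3, h4, h5, h6, h7⟩ := ih fun y hy => h y (List.mem_cons_of_mem _ hy)
    obtain ⟨-, -, k1, k2, k3⟩ := ok_facts x.1 (h x (by simp)).1 x.2 (h x (by simp)).2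
    simp only [nn, cc, ww, SS, QQ, CC, DD, List.map_cons, List.sum_cons, List.length_cons]
      at h1 h2 h3 h4 h5 h6 h7 ⊢
    have e1 := sq_nonneg x.2
    have e2 := Int.emod_nonneg ((x.2 - sg x) ^ 2) (by norm_num : (5 : ℤ) ≠ 0)
    have e3 := Int.emod_nonneg ((2 * x.2 - sg x) ^ 2) (by norm_num : (5 : ℤ) ≠ 0)
    have e4 := sq_nonneg (sg x)
    have k2' : -2147483648 ≤ x.2 ^ 2 * (244823040 / sg x) ∧
      x.2 ^ 2 * (244823040 / sg x) ≤ 2147483648 := k2
    have k3' : -524288 ≤ sg x * x.2 ∧ sg x * x.2 ≤ 524288 := k3
    push_cast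
    refine ⟨by linarith, by linarith, by linarith, by linarith, ⟨by linarith [k1.1], by
      linarith [k1.2]⟩, ⟨by linarith [k2'.1], by linarith [k2'.2]⟩, ⟨by linarith [k3'.1], by
      linarith [k3'.2]⟩⟩

/-- The fields of the state. -/
theorem exists_fields {L : List (ℕ × ℤ)} (h : ∀ x ∈ L, Ok x) (hlen : L.length ≤ 7)
    (hn : nn L ≤ 3685) (hc : cc L ≤ 5) (hw : ww L ≤ 10) :
    ∃ n c w T Q C D : ℕ, (n : ℤ) = 4506 + nn L ∧ (T : ℤ) = 1029 + SS L ∧
      (Q : ℤ) = 69039195136 + QQ L ∧ (C : ℤ) = 8814803 + CC L ∧ (D : ℤ) = 74593995 + DD L ∧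
      n < 8192 ∧ c < 8 ∧ w < 16 ∧ 0 < T ∧ T < 2048 ∧ Q < 137438953472 ∧ C < 16777216 ∧
      acc L = n + 16384 * c + 262144 * w + 8388608 * (T + 2048 * (Q + 137438953472 *
        (C + 16777216 * D))) := by
  obtain ⟨h1, h2, h3, h4, h5, h6, h7⟩ := bounds h
  have hl : (L.length : ℤ) ≤ 7 := by exact_mod_cast hlen
  have e := acc_eq h
  refine ⟨(4506 + nn L).toNat, (2 + cc L).toNat, (5 + ww L).toNat, (1029 + SS L).toNat,
    (69039195136 + QQ L).toNat, (8814803 + CC L).toNat, (74593995 + DD L).toNat,
    by omega, by omega, by omega, by omega, by omega, by omega, by omega, by omega, by omega,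
    by omega, by omega, by omega, ?_⟩
  omega

/-! ### The pruning test -/

theorem land_guard {a : ℕ} (h1 : a % 16384 < 8192) (h2 : a / 16384 % 16 < 8)
    (h3 : a / 262144 % 32 < 16) : Nat.land a 4333568 = 0 := by
  apply Nat.eq_of_testBit_eq
  intro i
  rw [show Nat.land a 4333568 = a &&& 4333568 from rfl, Nat.testBit_and, Nat.zero_testBit]
  by_cases hi : i < 23
  · have e13 : a.testBit 13 = false := by
      rw [Nat.testBit_eq_decide_div_mod_eq]; simp; omega
    have e17 : a.testBit 17 = false := by
      rw [Nat.testBit_eq_decide_div_mod_eq]; simp; omega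
    have e22 : a.testBit 22 = false := by
      rw [Nat.testBit_eq_decide_div_mod_eq]; simp; omega
    interval_cases i <;> first
      | (rw [e13]; rfl) | (rw [e17]; rfl) | (rw [e22]; rfl)
      | (rw [show Nat.testBit 4333568 _ = false from by decide]; simp)
  · have : Nat.testBit 4333568 i = false := Nat.testBit_lt_two_pow (by
      calc 4333568 < 2 ^ 23 := by norm_num
        _ ≤ 2 ^ i := Nat.pow_le_pow_right (by norm_num) (by omega))
    rw [this]; simp

theorem gramTest_of {e m : ℕ}
    (h : e % 16777216 * (e % 16777216) + 70368744177664 ≤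
      (244823040 - e / 16777216) * (8191 - m) + 16777216 * (e % 16777216)) :
    gramTest e m = true := Nat.ble_eq_true_of_le h

theorem chk_eq (a : ℕ) : chk a = cond (Nat.beq (Nat.land a 4333568) 0)
    (Nat.rec (motive := fun _ => Bool) true (fun e _ => gramTest (Nat.succ e) (a % 8192))
      (a / 2361183241434822606848)) false := rfl

theorem rec_gram {e m : ℕ} (h : gramTest e m = true) :
    Nat.rec (motive := fun _ => Bool) true (fun e _ => gramTest (Nat.succ e) m) e = true := by
  cases e with
  | zero => rfl
  | succ e => exact h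

theorem chk_of {a n C D : ℕ} (h0 : Nat.land a 4333568 = 0)
    (h1 : a / 2361183241434822606848 = C + 16777216 * D) (hC : C < 16777216)
    (hn : a % 8192 = n)
    (hg : C * C + 70368744177664 ≤ (244823040 - D) * (8191 - n) + 16777216 * C) :
    chk a = true := by
  rw [chk_eq, h0, h1, hn]
  have e1 : (C + 16777216 * D) % 16777216 = C := by omega
  have e2 : (C + 16777216 * D) / 16777216 = D := by omega
  exact rec_gram (gramTest_of (by rw [e1, e2]; exact hg))

/-- The facts known about an initial segment. -/
structure Good (L : List (ℕ × ℤ)) : Prop where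
  nn : nn L ≤ 3685
  cc : cc L ≤ 5
  ww : ww L ≤ 10
  dd : DD L ≤ 170229045
  gram : (426195 + CC L) ^ 2 ≤ (170229045 - DD L) * (3685 - LastB.nn L)

theorem chk_acc {L : List (ℕ × ℤ)} (h : ∀ x ∈ L, Ok x) (hlen : L.length ≤ 7) (hg : Good L) :
    chk (acc L) = true := by
  obtain ⟨n, c, w, T, Q, C, D, e1, e2, e3, e4, e5, b1, b2, b3, -, b4, b5, b6, hacc⟩ :=
    exists_fields h hlen hg.nn hg.cc hg.ww
  have hR : ∃ R, R = T + 2048 * (Q + 137438953472 * (C + 16777216 * D)) := ⟨_, rfl⟩
  obtain ⟨R, hR⟩ := hR
  have hD : D ≤ 244823040 := by have := hg.dd; omega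
  refine chk_of (n := n) (C := C) (D := D) (land_guard ?_ ?_ ?_) ?_ b6 ?_ ?_
  · rw [hacc, ← hR]; omega
  · rw [hacc, ← hR]; omega
  · rw [hacc, ← hR]; omega
  · rw [hacc]
    have e : n + 16384 * c + 262144 * w + 8388608 * (T + 2048 * (Q + 137438953472 *
        (C + 16777216 * D))) = (n + 16384 * c + 262144 * w + 8388608 * (T + 2048 * Q)) +
          2361183241434822606848 * (C + 16777216 * D) := by ring
    rw [e, Nat.add_mul_div_left _ _ (by norm_num), Nat.div_eq_of_lt (by omega), zero_add]
  · rw [hacc, ← hR]; omega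
  · have h1 := hg.gram
    have h2 : (n : ℤ) ≤ 8191 := by omega
    zify [hD, (by omega : n ≤ 8191)]
    have e1' : LastB.nn L = n - 4506 := by linarith
    have e4' : CC L = C - 8814803 := by linarith
    have e5' : DD L = D - 74593995 := by linarith
    rw [e1', e4', e5'] at h1
    nlinarith [h1]

theorem leafP_of {g n c w T Q R : ℕ} {al : List (List ℤ)} {path : List ℤ} (b1 : n < 8192)
    (b2 : c < 8) (b3 : w < 16) (b0 : 0 < T) (b4 : T < 2048) (b5 : Q < 137438953472)
    (hQ : Q + 2048 * g * T = g * T * T + (68719476736 + 1048576 * g))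
    (h : leafP g al path (n + 16384 * c + 262144 * w + 8388608 * (T + 2048 * (Q +
      137438953472 * R))) = true) : path ∈ al := by
  unfold leafP at h
  have e1 : Nat.mod (Nat.div (n + 16384 * c + 262144 * w + 8388608 * (T + 2048 * (Q +
      137438953472 * R))) 8388608) 2048 = T := by
    change (n + 16384 * c + 262144 * w + 8388608 * (T + 2048 * (Q +
      137438953472 * R))) / 8388608 % 2048 = T
    omega
  have e2 : Nat.mod (Nat.div (n + 16384 * c + 262144 * w + 8388608 * (T + 2048 * (Q +
      137438953472 * R))) 17179869184) 137438953472 = Q := by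
    change (n + 16384 * c + 262144 * w + 8388608 * (T + 2048 * (Q +
      137438953472 * R))) / 17179869184 % 137438953472 = Q
    omega
  rw [e1, e2] at h
  obtain ⟨m, rfl⟩ := Nat.exists_eq_succ_of_ne_zero b0.ne'
  have h' : cond (Nat.beq (Q + 2048 * g * (Nat.succ m))
      (g * Nat.succ m * Nat.succ m + (68719476736 + 1048576 * g))) (al.contains path) true =
      true := h
  rw [hQ, show Nat.beq (g * Nat.succ m * Nat.succ m + (68719476736 + 1048576 * g))
    (g * Nat.succ m * Nat.succ m + (68719476736 + 1048576 * g)) = true from Nat.beq_refl _,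
    cond_true] at h'
  simpa using h'

theorem leafN_of {g n c w T Q R : ℕ} {al : List (List ℤ)} {path : List ℤ} (b1 : n < 8192)
    (b2 : c < 8) (b3 : w < 16) (b0 : 0 < T) (b4 : T < 2048) (b5 : Q < 137438953472)
    (hQ : 2048 * g * T + 68719476736 = Q + g * T * T + 1048576 * g)
    (h : leafN g al path (n + 16384 * c + 262144 * w + 8388608 * (T + 2048 * (Q +
      137438953472 * R))) = true) : path ∈ al := by
  unfold leafN at h
  have e1 : Nat.mod (Nat.div (n + 16384 * c + 262144 * w + 8388608 * (T + 2048 * (Q +
      137438953472 * R))) 8388608) 2048 = T := by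
    change (n + 16384 * c + 262144 * w + 8388608 * (T + 2048 * (Q +
      137438953472 * R))) / 8388608 % 2048 = T
    omega
  have e2 : Nat.mod (Nat.div (n + 16384 * c + 262144 * w + 8388608 * (T + 2048 * (Q +
      137438953472 * R))) 17179869184) 137438953472 = Q := by
    change (n + 16384 * c + 262144 * w + 8388608 * (T + 2048 * (Q +
      137438953472 * R))) / 17179869184 % 137438953472 = Q
    omega
  rw [e1, e2] at h
  obtain ⟨m, rfl⟩ := Nat.exists_eq_succ_of_ne_zero b0.ne'
  have h' : cond (Nat.beq (2048 * g * (Nat.succ m) + 68719476736)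
      (Q + g * Nat.succ m * Nat.succ m + 1048576 * g)) (al.contains path) true =
      true := h
  rw [hQ, show Nat.beq (Q + g * Nat.succ m * Nat.succ m + 1048576 * g)
    (Q + g * Nat.succ m * Nat.succ m + 1048576 * g) = true from Nat.beq_refl _,
    cond_true] at h'
  simpa using h'

theorem leaf_of {X : ℤ} {g : ℕ} {al : List (List ℤ)} {path : List ℤ} {L : List (ℕ × ℤ)}
    (h : ∀ x ∈ L, Ok x) (hlen : L.length ≤ 7) (hg : Good L)
    (hX : (0 < X ∧ 319718400 + QQ L = (5 + SS L) ^ 2 * g) ∨
      (X < 0 ∧ 319718400 + QQ L = -((5 + SS L) ^ 2 * g)))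
    (hl : leaf X g al path (acc L) = true) : path ∈ al := by
  obtain ⟨n, c, w, T, Q, C, D, e1, e2, e3, e4, e5, b1, b2, b3, b0, b4, b5, b6, hacc⟩ :=
    exists_fields h hlen hg.nn hg.cc hg.ww
  have s1 : SS L = T - 1029 := by linarith
  have s2 : QQ L = Q - 69039195136 := by linarith
  rw [s1, s2] at hX
  rw [hacc] at hl
  rcases hX with ⟨hX, hq⟩ | ⟨hX, hq⟩
  · obtain ⟨m, rfl⟩ := Int.eq_ofNat_of_zero_le hX.le
    refine leafP_of b1 b2 b3 b0 b4 b5 ?_ hl
    zify
    linear_combination hq
  · obtain ⟨m, rfl⟩ : ∃ m : ℕ, X = Int.negSucc m := by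
      cases X with
      | ofNat m => exact absurd hX (by simp)
      | negSucc m => exact ⟨m, rfl⟩
    refine leafN_of b1 b2 b3 b0 b4 b5 ?_ hl
    zify
    linear_combination (-1 : ℤ) * hq

theorem pass_acc {L₁ L₂ : List (ℕ × ℤ)} (h : ∀ x ∈ L₁ ++ L₂, Ok x)
    (hlen : (L₁ ++ L₂).length ≤ 7) (hg : ∀ A B, L₁ ++ L₂ = A ++ B → Good A) :
    Pass chk (acc L₁) (L₂.map opt) := by
  induction L₂ generalizing L₁ with
  | nil => trivial
  | cons x L₂ ih =>
    have e : L₁ ++ x :: L₂ = (L₁ ++ [x]) ++ L₂ := by simp
    have e1 : acc (L₁ ++ [x]) = acc L₁ + (opt x).2 := by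
      simp [acc, add_assoc]
    rw [e] at h hlen hg
    rw [List.map_cons]
    refine ⟨?_, ?_⟩
    · rw [← e1]
      refine chk_acc (fun y hy => h y (List.mem_append_left _ hy)) ?_ (hg _ _ rfl)
      have := List.length_append (as := L₁ ++ [x]) (bs := L₂)
      omega
    · rw [← e1]
      exact ih h hlen hg

/-- Correctness of the search for one set of degrees. -/
theorem test_spec {e : List ℕ × ℤ × ℕ × List (List ℤ)} (ht : test e = true)
    {L : List (ℕ × ℤ)} (h1 : L.map Prod.fst = e.1) (h : ∀ x ∈ L, Ok x) (hlen : L.length ≤ 7)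
    (hc : L.IsChain fun x y => x.1 = y.1 → x.2 ≤ y.2) (hg : ∀ A B, L = A ++ B → Good A)
    (hX : (0 < e.2.1 ∧ 319718400 + QQ L = (5 + SS L) ^ 2 * e.2.2.1) ∨
      (e.2.1 < 0 ∧ 319718400 + QQ L = -((5 + SS L) ^ 2 * e.2.2.1))) :
    (L.map Prod.snd).reverse ∈ e.2.2.2 := by
  unfold test at ht
  have hr : Run tab (codes 12 e.1) [] (L.map opt) := by
    have := exists_run (tab := tab) tab_sorted (ps := L.map fun x => (x.1, opt x))
      (prev := 12) (tail := []) ?_ ?_ ?_ ?_
    · rw [List.map_map, List.map_map] at this
      have e1 : (Prod.fst ∘ fun x : ℕ × ℤ => (x.1, opt x)) = Prod.fst := rfl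
      have e2 : (Prod.snd ∘ fun x : ℕ × ℤ => (x.1, opt x)) = opt := rfl
      rw [e1, e2, h1] at this
      exact this
    · rw [List.isChain_map]
      exact hc
    · intro x hx
      obtain ⟨y, hy, rfl⟩ := List.mem_map.1 hx
      exact opt_mem (h y hy)
    · intro x hx h12
      exfalso
      have hx' := List.mem_of_mem_head? hx
      obtain ⟨y, hy, rfl⟩ := List.mem_map.1 hx'
      have := (h y hy).1
      omega
    · exact ⟨tab 12, by simp⟩
  have hp : Pass chk init (L.map opt) := by
    have := pass_acc (L₁ := []) (L₂ := L) (by simpa using h) (by simpa using hlen)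
      (by simpa using hg)
    simpa [acc] using this
  have h2 := go_spec (leaf := leaf e.2.1 e.2.2.1 e.2.2.2) hr (path := []) (by decide) hp ht
  rw [List.append_nil, List.map_map, List.map_map] at h2
  have h3 := leaf_of (L := L) (path := (L.map (Prod.fst ∘ opt)).reverse) h hlen
    (hg L [] (by simp)) hX h2
  exact h3

end Cfsg.Agent.M24Order.LastB
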