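import Mathlib.Tactic

/-!
# The principal 11-block of a simple group of order 244823040, the last step: arithmetic

Five members of the principal 11-block have degrees `23 m` with unknown `m`; the columns of the two
classes of involutions show that the degree 23 occurs exactly once.
-/

set_option autoImplicit false

namespace Cfsg.Agent.M24Order.LastB11Arith

/-- The possible `m = χ(1) / 23`. -/
def ms : List ℕ := [1, 10, 12, 21, 32, 45, 54, 56, 120, 144, 210, 252, 320, 384, 540, 560, 672]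

/-- The sign. -/
def sg (m : ℕ) : ℤ := if m % 11 = 1 then 1 else -1

/-- The weight `120960 / m`. -/
def wt (m : ℕ) : ℤ := ((120960 / m : ℕ) : ℤ)

theorem sg_sq (m : ℕ) : sg m * sg m = 1 := by
  unfold sg; split_ifs <;> rfl

theorem sg_eq (m : ℕ) : sg m = 1 ∨ sg m = -1 := by
  unfold sg; split_ifs <;> simp

/-- The possible values at `u`, coded. -/
def rowsU : List (ℕ × List (ℕ × ℕ × ℕ)) :=
  [(1, [(32, 1, 268556416), (36, 9, 269524096)]), (10, [(43, 100, 267225856),
    (23, 100, 267225856)]), (12, [(9, 576, 274241536), (13, 400, 272467456),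
    (17, 256, 271015936), (21, 144, 269886976), (25, 64, 269080576), (29, 16, 268596736),
    (33, 0, 268435456), (37, 16, 268596736), (41, 64, 269080576), (45, 144, 269886976),
    (49, 256, 271015936), (53, 400, 272467456), (57, 576, 274241536)]),
    (21, [(66, 1089, 262162816), (62, 841, 263591296), (58, 625, 264835456),
    (54, 441, 265895296), (50, 289, 266770816), (46, 169, 267462016), (42, 81, 267968896),
    (38, 25, 268291456), (34, 1, 268429696), (30, 9, 268383616), (26, 49, 268153216),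
    (22, 121, 267738496), (18, 225, 267139456), (14, 361, 266356096), (10, 529, 265388416),
    (6, 729, 264236416), (2, 961, 262900096)]), (32, [(65, 1024, 264564736),
    (49, 256, 267467776), (33, 0, 268435456), (17, 256, 267467776), (1, 1024, 264564736)]),
    (45, [(8, 625, 270115456), (28, 25, 268502656), (48, 225, 269040256)]),
    (54, [(63, 900, 266419456), (51, 324, 267709696), (39, 36, 268354816), (27, 36, 268354816),
    (15, 324, 267709696), (3, 900, 266419456)]), (56, [(1, 1024, 270647296), (5, 784, 270128896),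
    (9, 576, 269679616), (13, 400, 269299456), (17, 256, 268988416), (21, 144, 268746496),
    (25, 64, 268573696), (29, 16, 268470016), (33, 0, 268435456), (37, 16, 268470016),
    (41, 64, 268573696), (45, 144, 268746496), (49, 256, 268988416), (53, 400, 269299456),
    (57, 576, 269679616), (61, 784, 270128896), (65, 1024, 270647296)]),
    (120, [(53, 400, 268032256), (33, 0, 268435456), (13, 400, 268032256)]),
    (144, [(1, 1024, 269295616), (9, 576, 268919296), (17, 256, 268650496), (25, 64, 268489216),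
    (33, 0, 268435456), (41, 64, 268489216), (49, 256, 268650496), (57, 576, 268919296),
    (65, 1024, 269295616)]), (210, [(3, 900, 268953856), (23, 100, 268493056),
    (43, 100, 268493056), (63, 900, 268953856)]), (252, [(65, 1024, 267943936),
    (61, 784, 268059136), (57, 576, 268158976), (53, 400, 268243456), (49, 256, 268312576),
    (45, 144, 268366336), (41, 64, 268404736), (37, 16, 268427776), (33, 0, 268435456),
    (29, 16, 268427776), (25, 64, 268404736), (21, 144, 268366336), (17, 256, 268312576),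
    (13, 400, 268243456), (9, 576, 268158976), (5, 784, 268059136), (1, 1024, 267943936)]),
    (320, [(33, 0, 268435456)]), (384, [(33, 0, 268435456)]), (540, [(33, 0, 268435456)]),
    (560, [(33, 0, 268435456)]), (672, [(1, 1024, 268619776), (17, 256, 268481536),
    (33, 0, 268435456), (49, 256, 268481536), (65, 1024, 268619776)])]

/-- The possible values at `z`, coded. -/
def rowsZ : List (ℕ × List (ℕ × ℕ × ℕ)) :=
  [(21, [(176, 5929, 2113332608), (148, 2401, 2133653888), (120, 441, 2144943488),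
    (92, 49, 2147201408), (64, 1225, 2140427648), (36, 3969, 2124622208),
    (8, 8281, 2099785088)]), (32, [(195, 9216, 2112647168), (163, 4096, 2132000768),
    (131, 1024, 2143612928), (99, 0, 2147483648), (67, 1024, 2143612928), (35, 4096, 2132000768),
    (3, 9216, 2112647168)]), (144, [(3, 9216, 2155225088), (19, 6400, 2152859648),
    (35, 4096, 2150924288), (51, 2304, 2149419008), (67, 1024, 2148343808),
    (83, 256, 2147698688), (99, 0, 2147483648), (115, 256, 2147698688), (131, 1024, 2148343808),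
    (147, 2304, 2149419008), (163, 4096, 2150924288), (179, 6400, 2152859648),
    (195, 9216, 2155225088)])]

/-- The possible coded values at `u`. -/
def rU (m : ℕ) : List (ℕ × ℕ × ℕ) := (rowsU.lookup m).getD []

/-- The possible coded values at `z`. -/
def rZ (m : ℕ) : List (ℕ × ℕ × ℕ) := (rowsZ.lookup m).getD []

/-- The code of a value at `u`. -/
def eU (m : ℕ) (x : ℤ) : ℕ × ℕ × ℕ :=
  ((33 + sg m * x).toNat, (x * x).toNat, (268435456 + sg m * (x * x) * wt m).toNat)

/-- The code of a value at `z`. -/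
def eZ (m : ℕ) (x : ℤ) : ℕ × ℕ × ℕ :=
  ((99 + sg m * x).toNat, (x * x).toNat, (2147483648 + sg m * (x * x) * wt m).toNat)

/-- The range for the values at `u`. -/
def ru : List ℤ := (List.range 67).map fun i : ℕ => (i : ℤ) - 33

/-- The range for the values at `z`. -/
def rz : List ℤ := (List.range 199).map fun i : ℕ => (i : ℤ) - 99

theorem mem_ru {x : ℤ} (h : x * x ≤ 1104) : x ∈ ru := by
  have h1 : x ≤ 33 := by nlinarith
  have h2 : -33 ≤ x := by nlinarith
  exact List.mem_map.2 ⟨(x + 33).toNat, List.mem_range.2 (by omega), by omega⟩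

theorem mem_rz {x : ℤ} (h : x * x ≤ 9872) : x ∈ rz := by
  have h1 : x ≤ 99 := by nlinarith
  have h2 : -99 ≤ x := by nlinarith
  exact List.mem_map.2 ⟨(x + 99).toNat, List.mem_range.2 (by omega), by omega⟩

theorem mem_rU' : ∀ m ∈ ms, ∀ x ∈ ru, (4 : ℤ) ∣ 23 * m - x → ((23 * m : ℕ) : ℤ) ∣ 31878 * x →
    (5 ∣ m → (5 : ℤ) ∣ x) → 11 * |x| ≤ 23 * m + 10 * sg m → eU m x ∈ rU m := by
  decide +kernel

theorem eU_spec : ∀ m ∈ ms, ∀ x ∈ ru, ((eU m x).1 : ℤ) = 33 + sg m * x ∧
    ((eU m x).2.1 : ℤ) = x * x ∧ ((eU m x).2.2 : ℤ) = 268435456 + sg m * (x * x) * wt m := by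
  decide +kernel

theorem mem_rZ' : ∀ m ∈ ([21, 32, 144] : List ℕ), ∀ x ∈ rz, (4 : ℤ) ∣ 23 * (m : ℤ) - x →
    ((23 * m : ℕ) : ℤ) ∣ 11385 * x → (7 ∣ m → (7 : ℤ) ∣ x) → eZ m x ∈ rZ m := by
  decide +kernel

theorem eZ_spec : ∀ m ∈ ([21, 32, 144] : List ℕ), ∀ x ∈ rz, ((eZ m x).1 : ℤ) = 99 + sg m * x ∧
    ((eZ m x).2.1 : ℤ) = x * x ∧ ((eZ m x).2.2 : ℤ) = 2147483648 + sg m * (x * x) * wt m := by
  decide +kernel

/-- `List.all` by the recursor. -/
noncomputable def allR {α : Type} (p : α → Bool) (l : List α) : Bool :=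
  List.rec true (fun h _ ih => bif p h then ih else false) l

theorem of_allR {α : Type} {p : α → Bool} {l : List α} (h : allR p l = true) {a : α} (ha : a ∈ l) :
    p a = true := by
  induction l with
  | nil => exact absurd ha List.not_mem_nil
  | cons b t ih =>
    have h' : (bif p b then allR p t else false) = true := h
    cases hb : p b with
    | false => rw [hb] at h'; exact absurd h' Bool.false_ne_true
    | true =>
      rw [hb] at h'
      rcases List.mem_cons.1 ha with rfl | h1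
      · exact hb
      · exact ih h' h1

/-- `true` if there is no solution for the fifth value. -/
def leaf (B T R : ℕ) (m S N Q : ℕ) : Bool :=
  Nat.blt B N || (bif Nat.beq (m % 11) 1 then
    (bif Nat.ble S T then !(Nat.beq (Q + (T - S) * (T - S) * (120960 / m)) R)
      else !(Nat.beq (Q + (S - T) * (S - T) * (120960 / m)) R))
    else (bif Nat.ble S T then !(Nat.beq Q (R + (T - S) * (T - S) * (120960 / m)))
      else !(Nat.beq Q (R + (S - T) * (S - T) * (120960 / m)))))

/-- The search. -/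
noncomputable def test (B T R : ℕ) (r : ℕ → List (ℕ × ℕ × ℕ)) (a b c d e : ℕ) : Bool :=
  allR (fun e1 => allR (fun e2 => bif Nat.blt B (e1.2.1 + e2.2.1) then true else
    allR (fun e3 => bif Nat.blt B (e1.2.1 + e2.2.1 + e3.2.1) then true else
      allR (fun e4 => leaf B T R e (e1.1 + e2.1 + e3.1 + e4.1)
        (e1.2.1 + e2.2.1 + e3.2.1 + e4.2.1) (e1.2.2 + e2.2.2 + e3.2.2 + e4.2.2)) (r d)) (r c))
          (r b)) (r a)

theorem leaf_false {B T R m S N Q : ℕ} {x : ℤ} (hS : (S : ℤ) + sg m * x = T)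
    (hN : (N : ℤ) + x * x ≤ B) (hQ : (Q : ℤ) + sg m * (x * x) * wt m = R) :
    leaf B T R m S N Q = false := by
  have h1 : Nat.blt B N = false := by
    rw [Bool.eq_false_iff, ne_eq, Nat.blt_eq]
    have := mul_self_nonneg x
    omega
  unfold leaf
  rw [h1, Bool.false_or]
  unfold sg at hS hQ
  by_cases hm : m % 11 = 1
  · rw [if_pos hm] at hS hQ
    rw [hm, Nat.beq_refl, cond_true]
    by_cases hle : S ≤ T
    · rw [Nat.ble_eq_true_of_le hle, cond_true, Bool.not_eq_false', Nat.beq_eq]
      have hx : ((T - S : ℕ) : ℤ) = x := by omega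
      have : ((Q + (T - S) * (T - S) * (120960 / m) : ℕ) : ℤ) = (R : ℤ) := by
        rw [← hQ, ← hx]; unfold wt; push_cast; ring
      exact_mod_cast this
    · rw [show Nat.ble S T = false by rw [Bool.eq_false_iff, ne_eq, Nat.ble_eq]; exact hle,
        cond_false, Bool.not_eq_false', Nat.beq_eq]
      have hx : ((S - T : ℕ) : ℤ) = -x := by omega
      have : ((Q + (S - T) * (S - T) * (120960 / m) : ℕ) : ℤ) = (R : ℤ) := by
        rw [← hQ, ← neg_mul_neg x x, ← hx]; unfold wt; push_cast; ring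
      exact_mod_cast this
  · rw [if_neg hm] at hS hQ
    rw [show Nat.beq (m % 11) 1 = false by rw [Bool.eq_false_iff, ne_eq, Nat.beq_eq]; exact hm,
      cond_false]
    by_cases hle : S ≤ T
    · rw [Nat.ble_eq_true_of_le hle, cond_true, Bool.not_eq_false', Nat.beq_eq]
      have hx : ((T - S : ℕ) : ℤ) = -x := by omega
      have : (Q : ℤ) = ((R + (T - S) * (T - S) * (120960 / m) : ℕ) : ℤ) := by
        push_cast [wt] at hQ ⊢
        rw [hx, ← hQ]; ring
      exact_mod_cast this
    · rw [show Nat.ble S T = false by rw [Bool.eq_false_iff, ne_eq, Nat.ble_eq]; exact hle,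
        cond_false, Bool.not_eq_false', Nat.beq_eq]
      have hx : ((S - T : ℕ) : ℤ) = x := by omega
      have : (Q : ℤ) = ((R + (S - T) * (S - T) * (120960 / m) : ℕ) : ℤ) := by
        push_cast [wt] at hQ ⊢
        rw [hx, ← hQ]; ring
      exact_mod_cast this

/-- A solution contradicts the search. -/
theorem test_false {B T R o Q0 : ℕ} {r : ℕ → List (ℕ × ℕ × ℕ)} {E : ℕ → ℤ → ℕ × ℕ × ℕ}
    {m : Fin 5 → ℕ} {x : Fin 5 → ℤ} (hr : ∀ i, E (m i) (x i) ∈ r (m i))
    (h1 : ∀ i, ((E (m i) (x i)).1 : ℤ) = o + sg (m i) * x i)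
    (h2 : ∀ i, ((E (m i) (x i)).2.1 : ℤ) = x i * x i)
    (h3 : ∀ i, ((E (m i) (x i)).2.2 : ℤ) = Q0 + sg (m i) * (x i * x i) * wt (m i))
    (hB : ∑ i, x i * x i ≤ (B : ℤ)) (hT : ∑ i, sg (m i) * x i + 4 * o = (T : ℤ))
    (hR : ∑ i, sg (m i) * (x i * x i) * wt (m i) + 4 * Q0 = (R : ℤ)) :
    test B T R r (m 0) (m 1) (m 2) (m 3) (m 4) ≠ true := by
  intro h
  rw [Fin.sum_univ_five] at hB hT hR
  have q1 := mul_self_nonneg (x 0)
  have q2 := mul_self_nonneg (x 1)
  have q3 := mul_self_nonneg (x 2)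
  have q4 := mul_self_nonneg (x 3)
  have q5 := mul_self_nonneg (x 4)
  have a1 := h1 0
  have a2 := h1 1
  have a3 := h1 2
  have a4 := h1 3
  have b1 := h2 0
  have b2 := h2 1
  have b3 := h2 2
  have b4 := h2 3
  have c1 := h3 0
  have c2 := h3 1
  have c3 := h3 2
  have c4 := h3 3
  unfold test at h
  have k1 := of_allR h (hr 0)
  have k2 := of_allR k1 (hr 1)
  have k3 : Nat.blt B ((E (m 0) (x 0)).2.1 + (E (m 1) (x 1)).2.1) = false := by
    rw [Bool.eq_false_iff, ne_eq, Nat.blt_eq]
    omega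
  rw [k3, cond_false] at k2
  have k4 := of_allR k2 (hr 2)
  have k5 : Nat.blt B ((E (m 0) (x 0)).2.1 + (E (m 1) (x 1)).2.1 + (E (m 2) (x 2)).2.1) =
      false := by
    rw [Bool.eq_false_iff, ne_eq, Nat.blt_eq]
    omega
  rw [k5, cond_false] at k4
  have k6 := of_allR k4 (hr 3)
  rw [leaf_false (x := x 4)] at k6
  · exact Bool.false_ne_true k6
  · push_cast
    rw [a1, a2, a3, a4, ← hT]; ring
  · push_cast
    rw [b1, b2, b3, b4]; linarith
  · push_cast
    rw [c1, c2, c3, c4, ← hR]; ring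

/-- The last signed number. -/
def l5 (a b c d : ℕ) : ℤ := 214 - sg a * a - sg b * b - sg c * c - sg d * d

/-- The claim about the multiset. -/
def good (a b : ℕ) : Bool := Nat.beq a 1 && Nat.ble 21 b

/-- The test. -/
noncomputable def chk (a b c d : ℕ) : Bool :=
  !(Nat.ble d (l5 a b c d).natAbs && (ms.contains (l5 a b c d).natAbs &&
    (sg (l5 a b c d).natAbs * ((l5 a b c d).natAbs : ℤ) == l5 a b c d &&
    Nat.ble (a * a + b * b + c * c + d * d + (l5 a b c d).natAbs * (l5 a b c d).natAbs) 91536))) ||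
    (good a b || (test 1104 134 1074160384 rU a b c d (l5 a b c d).natAbs ||
      (Nat.beq a 21 && (Nat.beq b 21 && (Nat.beq c 32 && (Nat.beq d 144 &&
        (Nat.beq (l5 a b c d).natAbs 144 &&
          test 9872 374 8593111808 rZ a b c d (l5 a b c d).natAbs)))))))

theorem check : ∀ a ∈ ms, ∀ b ∈ ms, a ≤ b → ∀ c ∈ ms, b ≤ c → ∀ d ∈ ms, c ≤ d →
    chk a b c d = true := by
  decide +kernel

/-- The conditions for a value at `u`. -/
structure CU (m : ℕ) (x : ℤ) : Prop where
  four : (4 : ℤ) ∣ 23 * m - x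
  dvd : ((23 * m : ℕ) : ℤ) ∣ 31878 * x
  five : 5 ∣ m → (5 : ℤ) ∣ x
  eleven : 11 * |x| ≤ 23 * m + 10 * sg m

/-- The conditions for a value at `z`. -/
structure CZ (m : ℕ) (x : ℤ) : Prop where
  four : (4 : ℤ) ∣ 23 * m - x
  dvd : ((23 * m : ℕ) : ℤ) ∣ 11385 * x
  seven : 7 ∣ m → (7 : ℤ) ∣ x

/-- **The degree 23 occurs exactly once**. -/
theorem main {m : Fin 5 → ℕ} {x y : Fin 5 → ℤ} (hm : ∀ i, m i ∈ ms) (hmono : Monotone m)
    (hsum : ∑ i, sg (m i) * m i = 214) (hsq : ∑ i, m i * m i ≤ 91536)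
    (hx : ∀ i, CU (m i) (x i)) (hxB : ∑ i, x i * x i ≤ 1104) (hxT : ∑ i, sg (m i) * x i = 2)
    (hxR : ∑ i, sg (m i) * (x i * x i) * wt (m i) = 418560)
    (hy : ∀ i, CZ (m i) (y i)) (hyB : ∑ i, y i * y i ≤ 9872) (hyT : ∑ i, sg (m i) * y i = -22)
    (hyR : ∑ i, sg (m i) * (y i * y i) * wt (m i) = 3177216) : m 0 = 1 ∧ 21 ≤ m 1 := by
  have hxi : ∀ i, x i * x i ≤ 1104 := fun i =>
    le_trans (Finset.single_le_sum (f := fun i => x i * x i)
      (fun i _ => mul_self_nonneg (x i)) (Finset.mem_univ i)) hxB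
  have hyi : ∀ i, y i * y i ≤ 9872 := fun i =>
    le_trans (Finset.single_le_sum (f := fun i => y i * y i)
      (fun i _ => mul_self_nonneg (y i)) (Finset.mem_univ i)) hyB
  have hl : l5 (m 0) (m 1) (m 2) (m 3) = sg (m 4) * m 4 := by
    rw [Fin.sum_univ_five] at hsum
    unfold l5
    linarith
  have hl' : (l5 (m 0) (m 1) (m 2) (m 3)).natAbs = m 4 := by
    rw [hl]
    rcases sg_eq (m 4) with h | h <;> rw [h] <;> omega
  have h := check _ (hm 0) _ (hm 1) (hmono (by decide)) _ (hm 2) (hmono (by decide)) _ (hm 3)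
    (hmono (by decide))
  unfold chk at h
  rw [hl', hl] at h
  rw [Fin.sum_univ_five] at hsq
  have e1 : Nat.ble (m 3) (m 4) = true := Nat.ble_eq_true_of_le (hmono (by decide))
  have e2 : ms.contains (m 4) = true := List.contains_iff_mem.2 (hm 4)
  have e3 : (sg (m 4) * ((m 4 : ℕ) : ℤ) == sg (m 4) * m 4) = true := beq_self_eq_true _
  have e4 : Nat.ble (m 0 * m 0 + m 1 * m 1 + m 2 * m 2 + m 3 * m 3 + m 4 * m 4) 91536 = true :=
    Nat.ble_eq_true_of_le hsq
  rw [e1, e2, e3, e4] at h
  have e5 : test 1104 134 1074160384 rU (m 0) (m 1) (m 2) (m 3) (m 4) = false := by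
    rw [Bool.eq_false_iff]
    refine test_false (o := 33) (Q0 := 268435456) (E := eU) (x := x) (fun i => ?_) (fun i => ?_)
      (fun i => ?_) (fun i => ?_) (by exact_mod_cast hxB) ?_ ?_
    · exact mem_rU' _ (hm i) _ (mem_ru (hxi i)) (hx i).four (hx i).dvd (hx i).five (hx i).eleven
    · exact (eU_spec _ (hm i) _ (mem_ru (hxi i))).1
    · exact (eU_spec _ (hm i) _ (mem_ru (hxi i))).2.1
    · exact (eU_spec _ (hm i) _ (mem_ru (hxi i))).2.2
    · rw [hxT]; norm_num
    · rw [hxR]; norm_num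
  rw [e5] at h
  simp only [Bool.and_self, Bool.not_true, Bool.false_or, Bool.or_eq_true, Bool.and_eq_true,
    Nat.beq_eq, good, Nat.ble_eq] at h
  rcases h with h | ⟨h0, h1, h2, h3, h4, h5⟩
  · exact h
  · exfalso
    have hm' : ∀ i, m i ∈ ([21, 32, 144] : List ℕ) := by
      intro i
      fin_cases i
      · change m 0 ∈ _; rw [h0]; decide
      · change m 1 ∈ _; rw [h1]; decide
      · change m 2 ∈ _; rw [h2]; decide
      · change m 3 ∈ _; rw [h3]; decide
      · change m 4 ∈ _; rw [h4]; decide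
    refine test_false (o := 99) (Q0 := 2147483648) (E := eZ) (x := y) (fun i => ?_) (fun i => ?_)
      (fun i => ?_) (fun i => ?_) (by exact_mod_cast hyB) ?_ ?_ h5
    · exact mem_rZ' _ (hm' i) _ (mem_rz (hyi i)) (hy i).four (hy i).dvd (hy i).seven
    · exact (eZ_spec _ (hm' i) _ (mem_rz (hyi i))).1
    · exact (eZ_spec _ (hm' i) _ (mem_rz (hyi i))).2.1
    · exact (eZ_spec _ (hm' i) _ (mem_rz (hyi i))).2.2
    · rw [hyT]; norm_num
    · rw [hyR]; norm_num

end Cfsg.Agent.M24Order.LastB11Arith
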