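import Cfsg.Agent.M24Order.LastSetup
import Cfsg.Agent.SmallSimple.InvolPairs
import Cfsg.Agent.Characters.Linear
import Cfsg.Agent.Characters.Clifford

/-!
# General properties of the column of the last case
-/

set_option autoImplicit false
set_option linter.unusedSectionVars false
set_option linter.dupNamespace false

open Cfsg Subgroup
open Cfsg.Agent.Characters.Core
open Cfsg.Agent.SmallSimple
open Cfsg.Agent.M23Order.Base
open Cfsg.Agent.M24Order.Setup
open scoped ComplexConjugate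

namespace Cfsg.Agent.M24Order.Last

universe u

/-! ### Involutions inverting a subgroup of odd order -/

section Invert

variable {G : Type u} [Group G] {Q : Subgroup G} {t : G}

/-- The subgroup `Q ∪ t Q`. -/
def dih (Q : Subgroup G) (t : G) (ht : t * t = 1) (hinv : ∀ x ∈ Q, t * x * t⁻¹ = x⁻¹) :
    Subgroup G where
  carrier := {g | g ∈ Q ∨ t * g ∈ Q}
  mul_mem' := by
    have htt : t⁻¹ = t := inv_eq_of_mul_eq_one_left ht
    rintro a b (ha | ha) (hb | hb)
    · exact Or.inl (Q.mul_mem ha hb)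
    · refine Or.inr ?_
      have : t * (a * b) = (t * a * t⁻¹) * (t * b) := by group
      rw [this, hinv a ha]
      exact Q.mul_mem (Q.inv_mem ha) hb
    · exact Or.inr (by rw [← mul_assoc]; exact Q.mul_mem ha hb)
    · refine Or.inl ?_
      have h2 := hinv _ ha
      have : a * b = (t * (t * a) * t⁻¹) * (t * b) := by
        calc a * b = (t * t) * a * b := by rw [ht, one_mul]
          _ = t * (t * a) * (t⁻¹ * t) * b := by group
          _ = _ := by group
      rw [this, h2]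
      exact Q.mul_mem (Q.inv_mem ha) hb
  one_mem' := Or.inl Q.one_mem
  inv_mem' := by
    have htt : t⁻¹ = t := inv_eq_of_mul_eq_one_left ht
    rintro a (ha | ha)
    · exact Or.inl (Q.inv_mem ha)
    · refine Or.inr ?_
      have h2 := hinv _ (Q.inv_mem ha)
      have : t * a⁻¹ = t * (t * a)⁻¹ * t⁻¹ := by
        rw [mul_inv_rev, htt]
        calc t * a⁻¹ = t * a⁻¹ * (t * t) := by rw [ht, mul_one]
          _ = _ := by group
      rw [this, h2, inv_inv]
      exact ha

variable {ht : t * t = 1} {hinv : ∀ x ∈ Q, t * x * t⁻¹ = x⁻¹}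

theorem mem_dih {g : G} : g ∈ dih Q t ht hinv ↔ g ∈ Q ∨ t * g ∈ Q := Iff.rfl

theorem mul_mem_iff (htQ : t ∉ Q) {a b : G} (ha : a ∈ dih Q t ht hinv)
    (hb : b ∈ dih Q t ht hinv) : a * b ∈ Q ↔ (a ∈ Q ↔ b ∈ Q) := by
  have hex : ∀ {g : G}, g ∈ Q → t * g ∈ Q → False := by
    intro g h1 h2
    apply htQ
    have := Q.mul_mem h2 (Q.inv_mem h1)
    simpa using this
  have key : ∀ {a b : G}, t * a ∈ Q → t * b ∈ Q → a * b ∈ Q := by
    intro a b ha hb
    have h2 := hinv _ ha
    have : a * b = (t * (t * a) * t⁻¹) * (t * b) := by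
      calc a * b = (t * t) * a * b := by rw [ht, one_mul]
        _ = t * (t * a) * (t⁻¹ * t) * b := by group
        _ = _ := by group
    rw [this, h2]
    exact Q.mul_mem (Q.inv_mem ha) hb
  rcases mem_dih.1 ha with ha | ha <;> rcases mem_dih.1 hb with hb | hb
  · exact iff_of_true (Q.mul_mem ha hb) (iff_of_true ha hb)
  · refine iff_of_false (fun h => ?_) (fun h => hex (h.1 ha) hb)
    exact hex ((Q.mul_mem_cancel_left ha).1 h) hb
  · refine iff_of_false (fun h => ?_) (fun h => hex (h.2 hb) ha)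
    exact hex ((Q.mul_mem_cancel_right hb).1 h) ha
  · exact iff_of_true (key ha hb) (iff_of_false (fun h => hex h ha) fun h => hex h hb)

open Classical in
/-- The sign character of `Q ∪ t Q`. -/
noncomputable def sgn (htQ : t ∉ Q) : dih Q t ht hinv →* ℂˣ where
  toFun g := if (g : G) ∈ Q then 1 else -1
  map_one' := by rw [if_pos]; exact Q.one_mem
  map_mul' := by
    intro a b
    have h := mul_mem_iff htQ a.2 b.2
    rw [Subgroup.coe_mul]
    by_cases h1 : (a : G) ∈ Q <;> by_cases h2 : (b : G) ∈ Q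
    · rw [if_pos (h.2 (iff_of_true h1 h2)), if_pos h1, if_pos h2, one_mul]
    · rw [if_neg (fun h' => h2 ((h.1 h').1 h1)), if_pos h1, if_neg h2, one_mul]
    · rw [if_neg (fun h' => h1 ((h.1 h').2 h2)), if_neg h1, if_pos h2, mul_one]
    · rw [if_pos (h.2 (iff_of_false h1 h2)), if_neg h1, if_neg h2]
      simp

variable [Finite G]

theorem isConj_of_mem_coset (hodd : Odd (Nat.card Q)) (ht : t * t = 1)
    (hinv : ∀ x ∈ Q, t * x * t⁻¹ = x⁻¹) {x : G} (hx : x ∈ Q) : IsConj t (t * x) := by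
  obtain ⟨k, hk⟩ := hodd
  have h1 : x ^ Nat.card Q = 1 :=
    congrArg Subtype.val (pow_card_eq_one' (x := (⟨x, hx⟩ : Q)))
  set y := x ^ (k + 1) with hy
  have hyQ : y ∈ Q := Q.pow_mem hx _
  have h2 : y * y = x := by
    rw [hy, ← pow_add]
    have : k + 1 + (k + 1) = Nat.card Q + 1 := by omega
    rw [this, pow_succ, h1, one_mul]
  refine isConj_iff.2 ⟨y⁻¹, ?_⟩
  have h3 := hinv _ (Q.inv_mem hyQ)
  rw [inv_inv] at h3
  have htt : t⁻¹ = t := inv_eq_of_mul_eq_one_left ht
  calc y⁻¹ * t * y⁻¹⁻¹ = y⁻¹ * t⁻¹ * y := by rw [htt, inv_inv]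
    _ = (t * t) * y⁻¹ * t⁻¹ * y := by rw [ht, one_mul]
    _ = t * (t * y⁻¹ * t⁻¹) * y := by group
    _ = t * x := by rw [h3, mul_assoc, h2]

theorem sum_dih [Fintype Q] (htQ : t ∉ Q) [Fintype (dih Q t ht hinv)] (f : G → ℂ) :
    ∑ g : dih Q t ht hinv, f g = ∑ x : Q, f x + ∑ x : Q, f (t * x) := by
  classical
  rw [← Finset.sum_filter_add_sum_filter_not (Finset.univ : Finset (dih Q t ht hinv))
    (fun g : dih Q t ht hinv => (g : G) ∈ Q) (fun g : dih Q t ht hinv => f g)]
  congr 1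
  · refine (Finset.sum_bij (fun (x : Q) _ => (⟨x, Or.inl x.2⟩ : dih Q t ht hinv)) ?_ ?_ ?_ ?_).symm
    · intro x _
      exact Finset.mem_filter.2 ⟨Finset.mem_univ _, x.2⟩
    · intro x _ y _ h
      have := congrArg Subtype.val h
      exact Subtype.ext this
    · intro g hg
      exact ⟨⟨g, (Finset.mem_filter.1 hg).2⟩, Finset.mem_univ _, rfl⟩
    · intro x _; rfl
  · have htt : ∀ x : G, t * (t * x) = x := fun x => by rw [← mul_assoc, ht, one_mul]
    refine (Finset.sum_bij (fun (x : Q) _ => (⟨t * x, Or.inr (by rw [htt]; exact x.2)⟩ :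
      dih Q t ht hinv)) ?_ ?_ ?_ ?_).symm
    · intro x _
      refine Finset.mem_filter.2 ⟨Finset.mem_univ _, fun h => htQ ?_⟩
      exact (Q.mul_mem_cancel_right x.2).1 h
    · intro x _ y _ h
      have := congrArg Subtype.val h
      exact Subtype.ext (mul_left_cancel this)
    · intro g hg
      have h2 := (Finset.mem_filter.1 hg).2
      have h3 := (mem_dih.1 g.2).resolve_left h2
      exact ⟨⟨t * g, h3⟩, Finset.mem_univ _, Subtype.ext (htt _)⟩
    · intro x _; rfl

/-- The value of a character at an involution inverting `Q`. -/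
theorem abs_le_of_inverts [Fintype Q] (hodd : Odd (Nat.card Q)) (ht1 : t ≠ 1) (ht : t * t = 1)
    (hinv : ∀ x ∈ Q, t * x * t⁻¹ = x⁻¹) {χ : G → ℂ} (hχ : IsCharacter G χ) {b s : ℤ}
    (hb : χ t = b) (hs : ∑ x : Q, χ x = s) : (Nat.card Q : ℤ) * |b| ≤ s := by
  classical
  have := Fintype.ofFinite (dih Q t ht hinv)
  have htQ : t ∉ Q := by
    intro h
    have h1 : t ^ Nat.card Q = 1 :=
      congrArg Subtype.val (pow_card_eq_one' (x := (⟨t, h⟩ : Q)))
    obtain ⟨k, hk⟩ := hodd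
    rw [hk, pow_succ, pow_mul, pow_two, ht, one_pow, one_mul] at h1
    exact ht1 h1
  have hcl : ∀ x : Q, χ (t * x) = b := by
    intro x
    rw [← hb]
    obtain ⟨c, hc⟩ := isConj_iff.1 (isConj_of_mem_coset hodd ht hinv x.2)
    rw [← hc]
    exact isCharacter_isClassFunction hχ _ _
  have hQ : ∑ x : Q, χ (t * x) = (Nat.card Q : ℂ) * b := by
    rw [Finset.sum_congr rfl fun x _ => hcl x, Finset.sum_const, Finset.card_univ,
      Nat.card_eq_fintype_card, nsmul_eq_mul]
  have hres := Characters.Clifford.isCharacter_restrict (dih Q t ht hinv) hχ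
  -- trivial character
  have e1 : (Nat.card (dih Q t ht hinv) : ℂ) * classInner (fun g : dih Q t ht hinv => χ g) 1 =
      s + (Nat.card Q : ℂ) * b := by
    rw [classInner_def, ← mul_assoc, mul_inv_cancel₀ card_ne_zero_complex, one_mul, ← hs, ← hQ,
      ← sum_dih htQ χ]
    refine Finset.sum_congr rfl fun g _ => ?_
    rw [Pi.one_apply, map_one, mul_one]
  have e2 : (Nat.card (dih Q t ht hinv) : ℂ) * classInner (fun g : dih Q t ht hinv => χ g)
      (fun g => ((sgn htQ g : ℂˣ) : ℂ)) = s - (Nat.card Q : ℂ) * b := by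
    have h3 : ∑ g : dih Q t ht hinv, χ g * (if (g : G) ∈ Q then 1 else -1) =
        ∑ x : Q, χ x * (if (x : G) ∈ Q then 1 else -1) +
          ∑ x : Q, χ (t * x) * (if (t * (x : G)) ∈ Q then 1 else -1) :=
      sum_dih htQ (fun g => χ g * (if g ∈ Q then 1 else -1))
    rw [classInner_def, ← mul_assoc, mul_inv_cancel₀ card_ne_zero_complex, one_mul, ← hs, ← hQ]
    have h4 : ∀ g : dih Q t ht hinv, χ g * conj ((sgn htQ g : ℂˣ) : ℂ) =
        χ g * (if (g : G) ∈ Q then 1 else -1) := by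
      intro g
      congr 1
      change conj (((if (g : G) ∈ Q then 1 else -1 : ℂˣ)) : ℂ) = _
      split_ifs <;> simp
    rw [Finset.sum_congr rfl fun g _ => h4 g, h3, sub_eq_add_neg, ← Finset.sum_neg_distrib]
    congr 1
    · refine Finset.sum_congr rfl fun x _ => ?_
      rw [if_pos x.2, mul_one]
    · refine Finset.sum_congr rfl fun x _ => ?_
      rw [if_neg (fun h => htQ ((Q.mul_mem_cancel_right x.2).1 h)), mul_neg_one]
  obtain ⟨n, hn⟩ := classInner_isNat hres isCharacter_one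
  obtain ⟨m, hm⟩ := classInner_isNat hres (Characters.Linear.isCharacter_hom (sgn htQ))
  rw [hn] at e1
  rw [hm] at e2
  have e1' : (Nat.card (dih Q t ht hinv) : ℤ) * n = s + Nat.card Q * b := by exact_mod_cast e1
  have e2' : (Nat.card (dih Q t ht hinv) : ℤ) * m = s - Nat.card Q * b := by exact_mod_cast e2
  have p1 : 0 ≤ (Nat.card (dih Q t ht hinv) : ℤ) * n := by positivity
  have p2 : 0 ≤ (Nat.card (dih Q t ht hinv) : ℤ) * m := by positivity
  rcases abs_cases b with ⟨h, -⟩ | ⟨h, -⟩ <;> rw [h] <;> linarith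

end Invert

/-! ### The column -/

variable {G : Type u} [Group G] [Finite G] [IsSimpleGroup G] {H : Hyp G} {t : G}
  {b : IrrCharacter G → ℤ} {c1035 c5796 c1771 c2024 c5544 c990 c990' : IrrCharacter G}

namespace Last

theorem one (K : Last H t b c1035 c5796 c1771 c2024 c5544 c990 c990') : b H.D.one = 1 := by
  have := K.val H.D.one
  rw [H.D.coe_one, Pi.one_apply] at this
  exact_mod_cast this.symm

theorem mul_self (K : Last H t b c1035 c5796 c1771 c2024 c5544 c990 c990') : t * t = 1 := by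
  rw [← pow_two]; exact K.ht

theorem exists_int (K : Last H t b c1035 c5796 c1771 c2024 c5544 c990 c990') {χ : IrrCharacter G}
    (hχ : χ ≠ H.D.one) : |b χ| < dg χ ∧ (4 : ℤ) ∣ dg χ - b χ := by
  obtain ⟨n, hn, hn', hn''⟩ := InvolColumn.exists_int H.hcomm χ.2 (fun h => hχ (Subtype.ext
    (by rw [H.D.coe_one]; exact h))) K.ht K.ht1
  have : b χ = n := by
    have h2 := K.val χ
    rw [hn] at h2; exact_mod_cast h2.symm
  rw [this]
  exact ⟨hn', hn''⟩

theorem four (K : Last H t b c1035 c5796 c1771 c2024 c5544 c990 c990') {χ : IrrCharacter G}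
    (hχ : χ ≠ H.D.one) : (4 : ℤ) ∣ dg χ - b χ := (K.exists_int hχ).2

theorem index (K : Last H t b c1035 c5796 c1771 c2024 c5544 c990 c990') :
    (centralizer ({t} : Set G)).index = 31878 := by
  have h := (centralizer ({t} : Set G)).card_mul_index
  rw [K.card, H.hcard] at h
  omega

theorem dvd (K : Last H t b c1035 c5796 c1771 c2024 c5544 c990 c990') (χ : IrrCharacter G) :
    (dg χ : ℤ) ∣ 31878 * b χ := by
  have := InvolColumn.dvd_index_mul χ.2 (K.val χ)
  rw [K.index] at this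
  exact_mod_cast this

theorem norm (K : Last H t b c1035 c5796 c1771 c2024 c5544 c990 c990')
    (S : Finset (IrrCharacter G)) : ∑ χ ∈ S, b χ ^ 2 ≤ 7680 := by
  have h2 := InvolColumn.sum_sq_le S t b (fun χ _ => K.val χ)
  rw [K.card] at h2
  exact_mod_cast h2

/-- The sum over `Q`. -/
theorem sum_Q (H : Hyp G) [Fintype (H.Q : Subgroup G)] (χ : IrrCharacter G) :
    ∑ x : (H.Q : Subgroup G), (χ : G → ℂ) x = ((dg χ + 10 * uu χ : ℤ) : ℂ) := by
  classical
  have h1 : ∀ x ∈ (Finset.univ : Finset (H.Q : Subgroup G)).erase 1, (χ : G → ℂ) x = uu χ :=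
    fun x hx => val_u H χ x.2 fun h' => Finset.ne_of_mem_erase hx (Subtype.ext h')
  rw [← Finset.add_sum_erase _ _ (Finset.mem_univ (1 : (H.Q : Subgroup G))), OneMemClass.coe_one,
    dg_eq, Finset.sum_congr rfl h1, Finset.sum_const, Finset.card_erase_of_mem
      (Finset.mem_univ _), Finset.card_univ, ← Nat.card_eq_fintype_card]
  have : Nat.card (H.Q : Subgroup G) = 11 := H.hQ
  rw [this]
  push_cast
  simp

theorem le (K : Last H t b c1035 c5796 c1771 c2024 c5544 c990 c990') (χ : IrrCharacter G) :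
    11 * |b χ| ≤ dg χ + 10 * uu χ := by
  have := Fintype.ofFinite (H.Q : Subgroup G)
  have hQ : Nat.card (H.Q : Subgroup G) = 11 := H.hQ
  have h := abs_le_of_inverts (Q := (H.Q : Subgroup G)) (by rw [hQ]; decide) K.ht1 K.mul_self
    K.inv (isIrr_isCharacter χ.2) (K.val χ) (sum_Q H χ)
  rw [hQ] at h
  exact_mod_cast h

theorem not_dvd (K : Last H t b c1035 c5796 c1771 c2024 c5544 c990 c990') {p : ℕ}
    (hp2 : p.Coprime 2) (hp1 : p ≠ 1) : ¬ p ∣ orderOf t := fun h => hp1 (by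
  have h2 : orderOf t ∣ 2 := orderOf_dvd_of_pow_eq_one K.ht
  exact Nat.dvd_one.1 (by rw [← hp2]; exact Nat.dvd_gcd dvd_rfl (h.trans h2)))

/-- (R1) for 23. -/
theorem rel23 (K : Last H t b c1035 c5796 c1771 c2024 c5544 c990 c990') {Θ : IrrCharacter G}
    (hΘ : Θ ∈ H.D.X) : ∑ χ ∈ H.D.NE, H.D.ε χ * b χ = H.D.d * b Θ := by
  have h1 := H.D.rel Θ hΘ t (K.not_dvd (by norm_num) (by norm_num))
  rw [K.val Θ, Finset.sum_congr rfl fun χ _ => by rw [K.val χ]] at h1
  exact_mod_cast h1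

/-- The exceptional characters have the same value. -/
theorem b_X (K : Last H t b c1035 c5796 c1771 c2024 c5544 c990 c990') {Θ Θ' : IrrCharacter G}
    (hΘ : Θ ∈ H.D.X) (hΘ' : Θ' ∈ H.D.X) : b Θ = b Θ' := by
  have h1 := K.rel23 hΘ
  rw [K.rel23 hΘ'] at h1
  have hd : H.D.d ≠ 0 := by rcases H.D.d_mem with h' | h' <;> rw [h'] <;> norm_num
  exact (mul_left_cancel₀ hd h1).symm

theorem cast_div (χ : IrrCharacter G) (hG : Nat.card G = 244823040) :
    (((244823040 : ℤ) / (dg χ : ℤ) : ℤ) : ℂ) = 244823040 / (dg χ : ℂ) := by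
  have h : (dg χ : ℤ) ∣ 244823040 := by
    have := dg_dvd χ
    rw [hG] at this
    exact_mod_cast this
  have h0 : ((dg χ : ℤ) : ℂ) ≠ 0 := by exact_mod_cast dg_ne_zero χ
  rw [Int.cast_div h h0]
  push_cast
  rfl

/-- (R2) for 23. -/
theorem rel23' (K : Last H t b c1035 c5796 c1771 c2024 c5544 c990 c990') {Θ : IrrCharacter G}
    (hΘ : Θ ∈ H.D.X) : ∑ χ ∈ H.D.NE, H.D.ε χ * (b χ ^ 2 * (244823040 / (dg χ : ℤ))) =
      H.D.d * (b Θ ^ 2 * (244823040 / (dg Θ : ℤ))) := by
  obtain ⟨x, hx, hx1⟩ : ∃ x ∈ (H.P : Subgroup G), x ≠ 1 := by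
    by_contra h
    push Not at h
    have h1 : (H.P : Subgroup G) = ⊥ := (Subgroup.eq_bot_iff_forall _).2 h
    have h2 : Nat.card (H.P : Subgroup G) = 23 := H.hP
    rw [h1] at h2
    simp at h2
  have hR := rel_of H (by norm_num) H.D hx hx1
  have ht := K.not_dvd (p := 23) (by norm_num) (by norm_num)
  have hPodd : Odd (Nat.card (H.P : Subgroup G)) := by
    have : Nat.card (H.P : Subgroup G) = 23 := H.hP
    rw [this]
    decide
  have h1 := hR.relTwo hΘ ht ht (fun u w hu hw => by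
    refine InvolColumn.ne_mul_of_odd (P := (H.P : Subgroup G)) H.heP (by decide)
      (InvolColumn.zpowers_eq_of_card_prime (by norm_num) H.hP) hPodd hx hx1 ?_ ?_
    · obtain ⟨g, rfl⟩ := isConj_iff.1 hu
      rw [conj_pow, K.ht]; group
    · obtain ⟨g, rfl⟩ := isConj_iff.1 hw
      rw [conj_pow, K.ht]; group)
  have h2 : ((∑ χ ∈ H.D.NE, H.D.ε χ * (b χ ^ 2 * (244823040 / (dg χ : ℤ))) : ℤ) : ℂ) =
      ((H.D.d * (b Θ ^ 2 * (244823040 / (dg Θ : ℤ))) : ℤ) : ℂ) := by
    rw [Int.cast_sum, Int.cast_mul, Int.cast_mul, cast_div Θ H.hcard]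
    have h3 : ∀ χ ∈ H.D.NE, ((H.D.ε χ * (b χ ^ 2 * (244823040 / (dg χ : ℤ))) : ℤ) : ℂ) =
        244823040 * (H.D.ε χ * ((χ : G → ℂ) t * (χ : G → ℂ) t / (χ : G → ℂ) 1)) := by
      intro χ _
      rw [Int.cast_mul, Int.cast_mul, cast_div χ H.hcard, K.val, dg_eq]
      push_cast
      ring
    rw [Finset.sum_congr rfl h3, ← Finset.mul_sum, h1, K.val, dg_eq]
    push_cast
    ring
  exact_mod_cast h2

/-- (R1) for 11. -/
theorem rel11 (K : Last H t b c1035 c5796 c1771 c2024 c5544 c990 c990') :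
    ∑ χ ∈ B11 H, uu χ * b χ = 0 := by
  have h1 := Setup.rel11 H (K.not_dvd (p := 11) (by norm_num) (by norm_num))
  rw [Finset.sum_congr rfl fun χ _ => by rw [K.val χ]] at h1
  exact_mod_cast h1

/-- The degree relation for 11. -/
theorem deg11 (H : Hyp G) : ∑ χ ∈ B11 H, uu χ * (dg χ : ℤ) = 0 := by
  have h1 := Setup.rel11 H (g := 1) (by rw [orderOf_one]; decide)
  rw [Finset.sum_congr rfl fun χ _ => by rw [dg_eq]] at h1
  exact_mod_cast h1

/-- Characters outside the principal 11-block vanish on `Q`. -/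
theorem uu_out (H : Hyp G) {χ : IrrCharacter G} (hχ : χ ∉ B11 H) : uu χ = 0 := by
  rw [mem_B11 H, not_not] at hχ
  exact uu_of_zero hχ

/-- The pair formula for 11. -/
theorem pair11 (K : Last H t b c1035 c5796 c1771 c2024 c5544 c990 c990') :
    ∑ χ ∈ B11 H, uu χ * (b χ ^ 2 * (244823040 / (dg χ : ℤ))) = 11 * 7680 ^ 2 := by
  classical
  have := Fintype.ofFinite G
  have := finite_irr (G := G)
  have := Fintype.ofFinite (IrrCharacter G)
  obtain ⟨y, hy, hy1⟩ : ∃ x ∈ (H.Q : Subgroup G), x ≠ 1 := by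
    by_contra h
    push Not at h
    have h1 : (H.Q : Subgroup G) = ⊥ := (Subgroup.eq_bot_iff_forall _).2 h
    have h2 : Nat.card (H.Q : Subgroup G) = 11 := H.hQ
    rw [h1] at h2
    simp at h2
  have hz : zpowers y = (H.Q : Subgroup G) :=
    (InvolColumn.zpowers_eq_of_card_prime (p := 11) (by norm_num) (P := (H.Q : Subgroup G))
      H.hQ y hy hy1).symm
  have hcent : InvolPairs.CentData 11 y ⊥ := by
    refine ⟨?_, by decide, ?_, ?_, ?_⟩
    · rw [← Nat.card_zpowers, hz]; exact H.hQ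
    · intro k hk; rw [Subgroup.mem_bot.1 hk, one_mul, mul_one]
    · intro c hc
      have h1 : c ∈ centralizer ((H.Q : Subgroup G) : Set G) := by
        rw [Subgroup.mem_centralizer_iff]
        intro q hq
        have hq' : q ∈ zpowers y := by rw [hz]; exact hq
        obtain ⟨i, rfl⟩ := Subgroup.mem_zpowers_iff.1 hq'
        have : Commute y c := hc.symm
        exact (this.zpow_left i).eq
      have h2 : c ∈ (H.Q : Subgroup G) := by
        have h3 := H.hCQ
        rw [← h3]; exact h1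
      rw [← hz] at h2
      obtain ⟨i, hi⟩ := Subgroup.mem_zpowers_iff.1 h2
      exact ⟨i, 1, Subgroup.one_mem _, by rw [hi, mul_one]⟩
    · intro k hk; rw [Subgroup.mem_bot.1 hk, orderOf_one]; exact Nat.coprime_one_left _
  have hinv : InvolPairs.InvData y ⊥ t := by
    refine ⟨K.mul_self, K.inv y hy, ?_⟩
    intro k hk; rw [Subgroup.mem_bot.1 hk]; simp
  have hcard := InvolPairs.card_pairs hcent hinv K.mul_self K.mul_self (Subgroup.one_mem ⊥)
  have hset : InvolPairs.invSet ⊥ t t = {t} := by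
    ext g
    rw [InvolPairs.mem_invSet, Finset.mem_singleton, Subgroup.mem_bot]
    constructor
    · rintro ⟨-, h⟩
      exact (eq_inv_of_mul_eq_one_right h).trans (inv_eq_of_mul_eq_one_left K.mul_self)
    · rintro rfl
      exact ⟨IsConj.refl _, K.mul_self⟩
  rw [hset, Finset.sum_singleton, Finset.sum_singleton, K.mul_self, if_pos rfl] at hcard
  have hs := InvolPairs.structSum_eq t t (y * 1)
  rw [hcard, K.card, H.hcard, mul_one, mul_one] at hs
  unfold InvolPairs.structSum at hs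
  have h2 : ((∑ χ ∈ B11 H, uu χ * (b χ ^ 2 * (244823040 / (dg χ : ℤ))) : ℤ) : ℂ) =
      244823040 * ∑ χ : IrrCharacter G, (χ : G → ℂ) t * (χ : G → ℂ) t *
        conj ((χ : G → ℂ) y) / (χ : G → ℂ) 1 := by
    rw [Int.cast_sum, Finset.mul_sum]
    rw [← Finset.sum_subset (Finset.subset_univ (B11 H))]
    · refine Finset.sum_congr rfl fun χ _ => ?_
      rw [Int.cast_mul, Int.cast_mul, cast_div χ H.hcard, K.val, dg_eq, val_u H χ hy hy1,
        map_intCast]
      push_cast
      ring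
    · intro χ _ hχ
      rw [val_u H χ hy hy1, uu_out H hχ]
      simp
  rw [hs] at h2
  have h3 : ((∑ χ ∈ B11 H, uu χ * (b χ ^ 2 * (244823040 / (dg χ : ℤ))) : ℤ) : ℂ) =
      ((11 * 7680 ^ 2 : ℤ) : ℂ) := by
    rw [h2]; push_cast; norm_num
  exact_mod_cast h3

/-- The Gram inequality. -/
theorem gram (K : Last H t b c1035 c5796 c1771 c2024 c5544 c990 c990')
    (S : Finset (IrrCharacter G)) : (∑ χ ∈ S, (dg χ : ℤ) * b χ) ^ 2 ≤
      (244823040 - ∑ χ ∈ S, (dg χ : ℤ) ^ 2) * (7680 - ∑ χ ∈ S, b χ ^ 2) := by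
  classical
  have := finite_irr (G := G)
  have := Fintype.ofFinite (IrrCharacter G)
  have h1 : ∑ χ : IrrCharacter G, (dg χ : ℤ) ^ 2 = 244823040 := by
    have := sum_dg_sq (G := G)
    rw [H.hcard] at this
    exact_mod_cast this
  have h2 : ∑ χ : IrrCharacter G, b χ ^ 2 = 7680 := by
    have h := (Cfsg.Agent.S0145.result t t).1 (IsConj.refl t)
    rw [finsum_eq_sum_of_fintype, K.card] at h
    have h' : ((∑ χ : IrrCharacter G, b χ ^ 2 : ℤ) : ℂ) = ((7680 : ℤ) : ℂ) := by
      rw [Int.cast_sum]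
      push_cast at h ⊢
      rw [← h]
      refine Finset.sum_congr rfl fun χ _ => ?_
      rw [K.val, map_intCast, pow_two]
    exact_mod_cast h'
  have h3 : ∑ χ : IrrCharacter G, (dg χ : ℤ) * b χ = 0 := by
    have h := (Cfsg.Agent.S0145.result (1 : G) t).2 (fun h => K.ht1 (isConj_one_right.1 h))
    rw [finsum_eq_sum_of_fintype] at h
    have h' : ((∑ χ : IrrCharacter G, (dg χ : ℤ) * b χ : ℤ) : ℂ) = ((0 : ℤ) : ℂ) := by
      rw [Int.cast_sum, Int.cast_zero, ← h]
      refine Finset.sum_congr rfl fun χ _ => ?_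
      rw [K.val, map_intCast, dg_eq]
      push_cast
      rfl
    exact_mod_cast h'
  have e1 := Finset.sum_add_sum_compl S (fun χ => (dg χ : ℤ) ^ 2)
  have e2 := Finset.sum_add_sum_compl S (fun χ => b χ ^ 2)
  have e3 := Finset.sum_add_sum_compl S (fun χ => (dg χ : ℤ) * b χ)
  have h4 := Finset.sum_mul_sq_le_sq_mul_sq Sᶜ (fun χ => (dg χ : ℤ)) (fun χ => b χ)
  have e1' : ∑ χ ∈ Sᶜ, (dg χ : ℤ) ^ 2 = 244823040 - ∑ χ ∈ S, (dg χ : ℤ) ^ 2 := by
    rw [← h1, ← e1]; ring
  have e2' : ∑ χ ∈ Sᶜ, b χ ^ 2 = 7680 - ∑ χ ∈ S, b χ ^ 2 := by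
    rw [← h2, ← e2]; ring
  have e3' : ∑ χ ∈ S, (dg χ : ℤ) * b χ = - ∑ χ ∈ Sᶜ, (dg χ : ℤ) * b χ := by
    rw [h3] at e3; linarith
  rw [e3', neg_sq, ← e1', ← e2']
  exact h4

end Last

end Cfsg.Agent.M24Order.Last
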