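import Cfsg.Agent.M24Order.LastB

/-!
# The 255 sets of degrees of the principal 23-block

Entries: types of the seven unknown characters, signed degree of the exceptional characters,
`|G|/|X|`, the lists of values (reversed) that satisfy the two relations.
-/

set_option autoImplicit false

namespace Cfsg.Agent.M24Order.LastData

/-- part 0 -/
def data0 : List (List ℕ × ℤ × ℕ × List (List ℤ)) :=
  [([1, 2, 3, 6, 9, 10, 11], -12, nat_lit 20401920, []),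
   ([1, 2, 5, 7, 7, 10, 10], -12, nat_lit 20401920, []),
   ([1, 3, 4, 4, 7, 9, 10], -12, nat_lit 20401920, []),
   ([1, 3, 4, 4, 8, 10, 10], -12, nat_lit 20401920, []),
   ([1, 4, 5, 6, 10, 10, 11], -12, nat_lit 20401920, []),
   ([1, 4, 7, 10, 10, 11, 11], -12, nat_lit 20401920, []),
   ([1, 6, 6, 6, 10, 10, 11], -12, nat_lit 20401920, []),
   ([2, 3, 3, 3, 5, 8, 9], -12, nat_lit 20401920, []),
   ([3, 3, 4, 5, 5, 7, 9], -12, nat_lit 20401920, []),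
   ([3, 3, 4, 5, 5, 8, 10], -12, nat_lit 20401920, []),
   ([3, 3, 5, 6, 6, 7, 9], -12, nat_lit 20401920, []),
   ([3, 3, 5, 6, 6, 8, 10], -12, nat_lit 20401920, []),
   ([3, 3, 5, 6, 9, 9, 9], -12, nat_lit 20401920, []),
   ([3, 3, 6, 7, 7, 9, 11], -12, nat_lit 20401920, [[2, -9, 16, -24, 10, 0, 0]]),
   ([3, 3, 6, 7, 8, 10, 11], -12, nat_lit 20401920, [])]

/-- part 1 -/
def data1 : List (List ℕ × ℤ × ℕ × List (List ℤ)) :=
  [([3, 3, 7, 9, 9, 9, 11], -12, nat_lit 20401920, []),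
   ([3, 3, 8, 9, 9, 10, 11], -12, nat_lit 20401920, []),
   ([3, 3, 9, 11, 11, 11, 11], -12, nat_lit 20401920, []),
   ([3, 5, 5, 5, 6, 10, 11], -12, nat_lit 20401920, []),
   ([3, 5, 5, 7, 10, 11, 11], -12, nat_lit 20401920, []),
   ([3, 5, 7, 7, 7, 7, 10], -12, nat_lit 20401920, []),
   ([1, 2, 3, 4, 5, 7, 11], 264, nat_lit 927360, []),
   ([1, 2, 3, 5, 6, 6, 6], 264, nat_lit 927360, []),
   ([1, 2, 3, 6, 6, 7, 11], 264, nat_lit 927360, []),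
   ([1, 2, 3, 6, 9, 9, 11], 264, nat_lit 927360, []),
   ([1, 2, 5, 7, 7, 9, 10], 264, nat_lit 927360, [[-5, 11, -8, -16, 0, -20, 45]]),
   ([1, 2, 5, 7, 8, 10, 10], 264, nat_lit 927360, [])]

/-- part 2 -/
def data2 : List (List ℕ × ℤ × ℕ × List (List ℤ)) :=
  [([1, 3, 4, 4, 6, 7, 7], 264, nat_lit 927360, []),
   ([1, 3, 4, 4, 7, 9, 9], 264, nat_lit 927360, []),
   ([1, 3, 4, 4, 8, 9, 10], 264, nat_lit 927360, []),
   ([1, 3, 4, 4, 11, 11, 11], 264, nat_lit 927360, []),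
   ([1, 4, 5, 6, 9, 10, 11], 264, nat_lit 927360, []),
   ([1, 4, 7, 9, 10, 11, 11], 264, nat_lit 927360, []),
   ([1, 4, 8, 10, 10, 11, 11], 264, nat_lit 927360, []),
   ([1, 6, 6, 6, 9, 10, 11], 264, nat_lit 927360, []),
   ([3, 3, 4, 5, 5, 8, 9], 264, nat_lit 927360, [[7, 16, 0, -20, 0, 0, 0]]),
   ([3, 3, 5, 6, 6, 8, 9], 264, nat_lit 927360, []),
   ([3, 3, 6, 7, 8, 9, 11], 264, nat_lit 927360, []),
   ([3, 3, 6, 8, 8, 10, 11], 264, nat_lit 927360, [[2, -5, -8, -8, 30, 0, 0]]),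
   ([3, 3, 8, 9, 9, 9, 11], 264, nat_lit 927360, []),
   ([3, 5, 5, 5, 6, 9, 11], 264, nat_lit 927360, [[-2, 11, -10, 20, -20, -20, 0], [2, -1, -10, 20, 0,
     0, 0]]),
   ([3, 5, 5, 7, 9, 11, 11], 264, nat_lit 927360, []),
   ([3, 5, 5, 8, 10, 11, 11], 264, nat_lit 927360, [])]

/-- part 3 -/
def data3 : List (List ℕ × ℤ × ℕ × List (List ℤ)) :=
  [([3, 5, 7, 7, 7, 7, 9], 264, nat_lit 927360, []),
   ([3, 5, 7, 7, 7, 8, 10], 264, nat_lit 927360, []),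
   ([5, 5, 5, 5, 7, 7, 10], 264, nat_lit 927360, []),
   ([1, 2, 3, 5, 6, 6, 9], -495, nat_lit 494592, []),
   ([1, 2, 3, 6, 7, 9, 11], -495, nat_lit 494592, []),
   ([1, 2, 3, 6, 8, 10, 11], -495, nat_lit 494592, []),
   ([1, 2, 3, 9, 9, 9, 11], -495, nat_lit 494592, []),
   ([1, 2, 5, 5, 10, 11, 11], -495, nat_lit 494592, [])]

/-- part 4 -/
def data4 : List (List ℕ × ℤ × ℕ × List (List ℤ)) :=
  [([1, 2, 5, 7, 7, 7, 10], -495, nat_lit 494592, []),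
   ([1, 3, 4, 4, 7, 7, 9], -495, nat_lit 494592, []),
   ([1, 3, 4, 4, 7, 8, 10], -495, nat_lit 494592, []),
   ([1, 4, 4, 5, 5, 5, 10], -495, nat_lit 494592, []),
   ([1, 4, 5, 5, 6, 6, 10], -495, nat_lit 494592, []),
   ([1, 4, 5, 6, 7, 10, 11], -495, nat_lit 494592, []),
   ([1, 4, 5, 9, 9, 10, 11], -495, nat_lit 494592, []),
   ([1, 4, 7, 7, 10, 11, 11], -495, nat_lit 494592, []),
   ([1, 5, 6, 6, 6, 6, 10], -495, nat_lit 494592, []),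
   ([1, 6, 6, 6, 7, 10, 11], -495, nat_lit 494592, [[2, -5, -32, 10, 10, -10, 45]]),
   ([1, 6, 6, 9, 9, 10, 11], -495, nat_lit 494592, []),
   ([2, 3, 3, 3, 5, 8, 8], -495, nat_lit 494592, []),
   ([3, 3, 4, 5, 5, 7, 8], -495, nat_lit 494592, [[-16, 16, 0, -20, 0, 0, 0]]),
   ([3, 3, 5, 6, 6, 7, 8], -495, nat_lit 494592, [[-12, 32, 10, 10, -20, 0, 0], [12, -32, 10, -30,
     20, 0, 0], [-12, 32, -10, -10, 20, 0, 0], [-16, -24, 30, -10, 20, 0, 0], [12, -32, 10, 10,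
     20, 0, 0]])]

/-- part 5 -/
def data5 : List (List ℕ × ℤ × ℕ × List (List ℤ)) :=
  [([3, 3, 5, 6, 8, 9, 9], -495, nat_lit 494592, []),
   ([3, 3, 6, 7, 7, 8, 11], -495, nat_lit 494592, [[2, 4, 8, -24, 10, 0, 0]]),
   ([3, 3, 7, 8, 9, 9, 11], -495, nat_lit 494592, []),
   ([3, 3, 8, 8, 9, 10, 11], -495, nat_lit 494592, []),
   ([3, 3, 8, 11, 11, 11, 11], -495, nat_lit 494592, []),
   ([3, 4, 5, 5, 5, 5, 5], -495, nat_lit 494592, []),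
   ([3, 5, 5, 5, 5, 6, 6], -495, nat_lit 494592, []),
   ([3, 5, 5, 5, 6, 7, 11], -495, nat_lit 494592, []),
   ([3, 5, 5, 5, 9, 9, 11], -495, nat_lit 494592, [])]

/-- part 6 -/
def data6 : List (List ℕ × ℤ × ℕ × List (List ℤ)) :=
  [([3, 5, 5, 7, 7, 11, 11], -495, nat_lit 494592, []),
   ([3, 5, 7, 7, 7, 7, 7], -495, nat_lit 494592, []),
   ([1, 2, 3, 4, 5, 8, 11], 540, nat_lit 453376, []),
   ([1, 2, 3, 6, 6, 8, 11], 540, nat_lit 453376, []),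
   ([1, 2, 5, 5, 6, 11, 11], 540, nat_lit 453376, []),
   ([1, 2, 5, 6, 7, 7, 7], 540, nat_lit 453376, [])]

/-- part 7 -/
def data7 : List (List ℕ × ℤ × ℕ × List (List ℤ)) :=
  [([1, 2, 5, 7, 7, 9, 9], 540, nat_lit 453376, [])]

/-- part 8 -/
def data8 : List (List ℕ × ℤ × ℕ × List (List ℤ)) :=
  [([1, 2, 5, 7, 8, 9, 10], 540, nat_lit 453376, []),
   ([1, 2, 5, 7, 11, 11, 11], 540, nat_lit 453376, []),
   ([1, 2, 5, 8, 8, 10, 10], 540, nat_lit 453376, [])]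

/-- part 9 -/
def data9 : List (List ℕ × ℤ × ℕ × List (List ℤ)) :=
  [([1, 2, 7, 7, 7, 7, 11], 540, nat_lit 453376, []),
   ([1, 3, 4, 4, 6, 7, 8], 540, nat_lit 453376, []),
   ([1, 3, 4, 4, 8, 9, 9], 540, nat_lit 453376, []),
   ([1, 4, 4, 5, 5, 5, 6], 540, nat_lit 453376, []),
   ([1, 4, 4, 5, 5, 7, 11], 540, nat_lit 453376, []),
   ([1, 4, 5, 5, 6, 6, 6], 540, nat_lit 453376, []),
   ([1, 4, 5, 6, 6, 7, 11], 540, nat_lit 453376, []),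
   ([1, 4, 5, 6, 9, 9, 11], 540, nat_lit 453376, []),
   ([1, 4, 6, 7, 7, 11, 11], 540, nat_lit 453376, []),
   ([1, 4, 7, 9, 9, 11, 11], 540, nat_lit 453376, []),
   ([1, 4, 8, 9, 10, 11, 11], 540, nat_lit 453376, []),
   ([1, 4, 11, 11, 11, 11, 11], 540, nat_lit 453376, []),
   ([1, 5, 6, 6, 6, 6, 6], 540, nat_lit 453376, []),
   ([1, 6, 6, 6, 6, 7, 11], 540, nat_lit 453376, []),
   ([1, 6, 6, 6, 9, 9, 11], 540, nat_lit 453376, []),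
   ([3, 3, 6, 8, 8, 9, 11], 540, nat_lit 453376, []),
   ([3, 5, 5, 8, 9, 11, 11], 540, nat_lit 453376, [])]

/-- part 10 -/
def data10 : List (List ℕ × ℤ × ℕ × List (List ℤ)) :=
  [([3, 5, 7, 7, 7, 8, 9], 540, nat_lit 453376, []),
   ([3, 5, 7, 7, 8, 8, 10], 540, nat_lit 453376, [[-5, 8, -8, 8, -8, 0, 0], [-5, -8, -8, 8, 8, 0,
     0]])]

/-- part 11 -/
def data11 : List (List ℕ × ℤ × ℕ × List (List ℤ)) :=
  [([5, 5, 5, 5, 7, 7, 9], 540, nat_lit 453376, []),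
   ([5, 5, 5, 5, 7, 8, 10], 540, nat_lit 453376, []),
   ([1, 2, 3, 4, 5, 11, 11], 770, nat_lit 317952, []),
   ([1, 2, 3, 4, 7, 7, 7], 770, nat_lit 317952, []),
   ([1, 2, 3, 6, 6, 11, 11], 770, nat_lit 317952, []),
   ([1, 2, 5, 5, 6, 9, 10], 770, nat_lit 317952, []),
   ([1, 2, 5, 7, 9, 10, 11], 770, nat_lit 317952, []),
   ([1, 2, 5, 8, 10, 10, 11], 770, nat_lit 317952, []),
   ([1, 3, 4, 4, 4, 5, 5], 770, nat_lit 317952, []),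
   ([1, 3, 4, 4, 5, 6, 6], 770, nat_lit 317952, []),
   ([1, 3, 4, 4, 6, 7, 11], 770, nat_lit 317952, []),
   ([1, 3, 4, 4, 9, 9, 11], 770, nat_lit 317952, []),
   ([1, 3, 4, 6, 6, 6, 6], 770, nat_lit 317952, []),
   ([1, 4, 6, 7, 7, 9, 10], 770, nat_lit 317952, [])]

/-- part 12 -/
def data12 : List (List ℕ × ℤ × ℕ × List (List ℤ)) :=
  [([1, 4, 6, 7, 8, 10, 10], 770, nat_lit 317952, []),
   ([1, 4, 7, 9, 9, 9, 10], 770, nat_lit 317952, []),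
   ([1, 4, 8, 9, 9, 10, 10], 770, nat_lit 317952, [[-5, -5, -9, -9, -12, 0, 45]]),
   ([1, 4, 9, 10, 11, 11, 11], 770, nat_lit 317952, []),
   ([3, 3, 6, 8, 9, 11, 11], 770, nat_lit 317952, []),
   ([3, 5, 5, 6, 7, 7, 9], 770, nat_lit 317952, [[11, -8, -8, 10, -20, -20, 0], [11, -8, -8, -10, 20,
     20, 0]]),
   ([3, 5, 5, 6, 7, 8, 10], 770, nat_lit 317952, [])]

/-- part 13 -/
def data13 : List (List ℕ × ℤ × ℕ × List (List ℤ)) :=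
  [([3, 5, 5, 7, 9, 9, 9], 770, nat_lit 317952, []),
   ([3, 5, 5, 8, 9, 9, 10], 770, nat_lit 317952, []),
   ([3, 5, 5, 9, 11, 11, 11], 770, nat_lit 317952, [])]

/-- part 14 -/
def data14 : List (List ℕ × ℤ × ℕ × List (List ℤ)) :=
  [([3, 5, 7, 7, 7, 9, 11], 770, nat_lit 317952, []),
   ([3, 5, 7, 7, 8, 10, 11], 770, nat_lit 317952, []),
   ([5, 5, 5, 5, 5, 6, 10], 770, nat_lit 317952, []),
   ([5, 5, 5, 5, 7, 10, 11], 770, nat_lit 317952, []),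
   ([1, 2, 3, 9, 10, 11, 11], -1024, nat_lit 239085, []),
   ([1, 2, 5, 5, 7, 10, 10], -1024, nat_lit 239085, []),
   ([1, 3, 4, 4, 5, 9, 10], -1024, nat_lit 239085, []),
   ([1, 3, 4, 6, 6, 9, 10], -1024, nat_lit 239085, []),
   ([1, 4, 5, 10, 10, 11, 11], -1024, nat_lit 239085, []),
   ([1, 4, 7, 7, 7, 10, 10], -1024, nat_lit 239085, []),
   ([1, 6, 6, 10, 10, 11, 11], -1024, nat_lit 239085, []),
   ([3, 3, 3, 4, 7, 8, 9], -1024, nat_lit 239085, []),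
   ([3, 3, 3, 4, 8, 8, 10], -1024, nat_lit 239085, []),
   ([3, 3, 4, 5, 5, 5, 9], -1024, nat_lit 239085, []),
   ([3, 3, 5, 5, 6, 6, 9], -1024, nat_lit 239085, []),
   ([3, 3, 5, 6, 7, 9, 11], -1024, nat_lit 239085, [[2, 15, -32, -10, 20, 0, 0]]),
   ([3, 3, 5, 6, 8, 10, 11], -1024, nat_lit 239085, []),
   ([3, 3, 5, 9, 9, 9, 11], -1024, nat_lit 239085, []),
   ([3, 3, 7, 7, 9, 11, 11], -1024, nat_lit 239085, []),
   ([3, 3, 7, 8, 10, 11, 11], -1024, nat_lit 239085, []),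
   ([3, 5, 5, 5, 10, 11, 11], -1024, nat_lit 239085, [])]

/-- part 15 -/
def data15 : List (List ℕ × ℤ × ℕ × List (List ℤ)) :=
  [([3, 5, 5, 7, 7, 7, 10], -1024, nat_lit 239085, []),
   ([0, 6, 6, 6, 9, 9, 10], -1760, nat_lit 139104, []),
   ([1, 2, 3, 5, 6, 11, 11], -1760, nat_lit 139104, []),
   ([1, 2, 3, 6, 7, 7, 7], -1760, nat_lit 139104, []),
   ([1, 2, 3, 7, 7, 9, 9], -1760, nat_lit 139104, []),
   ([1, 2, 3, 7, 8, 9, 10], -1760, nat_lit 139104, []),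
   ([1, 2, 3, 7, 11, 11, 11], -1760, nat_lit 139104, []),
   ([1, 2, 3, 8, 8, 10, 10], -1760, nat_lit 139104, []),
   ([1, 2, 5, 5, 5, 9, 10], -1760, nat_lit 139104, []),
   ([1, 3, 4, 4, 5, 5, 6], -1760, nat_lit 139104, []),
   ([1, 3, 4, 4, 5, 7, 11], -1760, nat_lit 139104, []),
   ([1, 3, 4, 5, 6, 6, 6], -1760, nat_lit 139104, []),
   ([1, 3, 4, 6, 6, 7, 11], -1760, nat_lit 139104, []),
   ([1, 3, 4, 6, 9, 9, 11], -1760, nat_lit 139104, []),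
   ([1, 3, 6, 6, 6, 6, 6], -1760, nat_lit 139104, []),
   ([1, 4, 5, 7, 7, 9, 10], -1760, nat_lit 139104, []),
   ([1, 4, 5, 7, 8, 10, 10], -1760, nat_lit 139104, [])]

/-- part 16 -/
def data16 : List (List ℕ × ℤ × ℕ × List (List ℤ)) :=
  [([1, 6, 6, 7, 7, 9, 10], -1760, nat_lit 139104, []),
   ([1, 6, 6, 7, 8, 10, 10], -1760, nat_lit 139104, []),
   ([1, 6, 7, 9, 9, 9, 10], -1760, nat_lit 139104, []),
   ([1, 6, 8, 9, 9, 10, 10], -1760, nat_lit 139104, []),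
   ([1, 6, 9, 10, 11, 11, 11], -1760, nat_lit 139104, []),
   ([1, 9, 9, 9, 9, 9, 10], -1760, nat_lit 139104, []),
   ([3, 3, 5, 8, 9, 11, 11], -1760, nat_lit 139104, []),
   ([3, 3, 7, 7, 7, 8, 9], -1760, nat_lit 139104, []),
   ([3, 3, 7, 7, 8, 8, 10], -1760, nat_lit 139104, [[-5, 8, -8, 8, -8, 0, 0], [-5, -8, -8, 8, 8, 0,
     0]])]

/-- part 17 -/
def data17 : List (List ℕ × ℤ × ℕ × List (List ℤ)) :=
  [([3, 5, 5, 5, 7, 7, 9], -1760, nat_lit 139104, []),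
   ([3, 5, 5, 5, 7, 8, 10], -1760, nat_lit 139104, []),
   ([5, 5, 5, 5, 5, 5, 10], -1760, nat_lit 139104, []),
   ([1, 2, 3, 7, 7, 7, 11], -2772, nat_lit 88320, [[-2, 16, 16, -24, 0, 0, 45]]),
   ([1, 3, 4, 4, 5, 5, 11], -2772, nat_lit 88320, []),
   ([1, 3, 4, 5, 6, 6, 11], -2772, nat_lit 88320, []),
   ([1, 3, 4, 6, 7, 11, 11], -2772, nat_lit 88320, []),
   ([1, 3, 4, 9, 9, 11, 11], -2772, nat_lit 88320, []),
   ([1, 3, 6, 6, 6, 6, 11], -2772, nat_lit 88320, []),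
   ([1, 4, 5, 5, 7, 9, 10], -2772, nat_lit 88320, []),
   ([1, 4, 5, 5, 8, 10, 10], -2772, nat_lit 88320, [[-5, -5, -12, 20, 0, 0, 45]]),
   ([1, 5, 6, 6, 7, 9, 10], -2772, nat_lit 88320, [[-5, -9, 32, -10, -10, 0, 45]]),
   ([1, 5, 6, 6, 8, 10, 10], -2772, nat_lit 88320, [[-5, -5, -16, 10, -30, 0, 45], [-5, -5, 20, 10,
     -30, 0, 45], [-5, -5, -8, -10, -10, 0, 45], [-5, -5, 12, -10, -10, 0, 45], [-5, -5, -20, 30,
     -10, 0, 45]]),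
   ([1, 5, 6, 9, 9, 9, 10], -2772, nat_lit 88320, []),
   ([1, 6, 7, 7, 9, 10, 11], -2772, nat_lit 88320, [[-2, -5, -13, 8, -24, -10, 45], [2, -5, 11, 16,
     -24, -10, 45], [-2, -5, 15, 16, -32, 10, 45], [-2, -5, -13, 16, -24, 10, 45]]),
   ([1, 6, 7, 8, 10, 10, 11], -2772, nat_lit 88320, [[-2, -5, -5, -4, 32, 10, 45]]),
   ([1, 7, 9, 9, 9, 10, 11], -2772, nat_lit 88320, [])]

/-- part 18 -/
def data18 : List (List ℕ × ℤ × ℕ × List (List ℤ)) :=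
  [([1, 8, 9, 9, 10, 10, 11], -2772, nat_lit 88320, [[2, -5, -5, -9, -9, -12, 45]]),
   ([1, 9, 10, 11, 11, 11, 11], -2772, nat_lit 88320, []),
   ([3, 3, 5, 7, 7, 8, 9], -2772, nat_lit 88320, [[11, -16, 16, -8, -20, 0, 0], [3, -12, 16, -8, -20,
     0, 0], [-5, -12, 16, 8, -20, 0, 0], [-9, 12, 16, 16, -20, 0, 0], [11, -8, 16, -24, 0, 0, 0],
     [-9, 4, 32, 16, 0, 0, 0], [7, 8, 8, -24, 20, 0, 0], [-13, 8, 16, -24, 20, 0, 0], [11, 12, 16,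
     -24, 20, 0, 0], [-17, -12, 32, 16, 20, 0, 0], [-9, 4, 32, 32, 20, 0, 0], [-9, 12, 32, 32, 20,
     0, 0], [11, -16, 16, -8, 40, 0, 0]]),
   ([3, 3, 5, 7, 8, 8, 10], -2772, nat_lit 88320, [[-5, 4, -8, 16, 0, 0, 0], [-5, 12, 4, 16, 0, 0,
     0], [-5, 8, 4, 32, 40, 0, 0]]),
   ([3, 5, 5, 5, 5, 7, 9], -2772, nat_lit 88320, [[7, -16, 20, 20, -20, -20, 0], [-13, 24, 20, 20,
     -20, -20, 0], [-9, 32, 0, 0, 0, 0, 0], [3, -24, 20, 0, 0, 0, 0]]),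
   ([3, 5, 5, 5, 5, 8, 10], -2772, nat_lit 88320, [[-5, -8, 20, 0, -20, -20, 0], [-5, 4, 20, 0, -20,
     -20, 0], [-5, -8, 20, 0, 0, -20, 0], [-5, 8, 20, 0, 0, -20, 0], [-5, -4, 20, 20, 0, -20, 0],
     [-5, 8, 20, 20, 0, -20, 0], [-5, -4, 40, 20, 20, -20, 0]]),
   ([1, 2, 5, 6, 6, 10, 10], 3024, nat_lit 80960, [[-5, -5, 30, -10, -20, 8, 45], [-5, -5, 10, -30,
     20, 8, 45]]),
   ([1, 2, 6, 7, 10, 10, 11], 3024, nat_lit 80960, []),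
   ([1, 2, 9, 9, 10, 10, 11], 3024, nat_lit 80960, [[2, -5, -5, -5, -13, 24, 45]]),
   ([1, 4, 4, 7, 7, 10, 10], 3024, nat_lit 80960, [])]

/-- part 19 -/
def data19 : List (List ℕ × ℤ × ℕ × List (List ℤ)) :=
  [([2, 3, 3, 5, 7, 7, 9], 3024, nat_lit 80960, []),
   ([2, 3, 3, 5, 7, 8, 10], 3024, nat_lit 80960, []),
   ([2, 3, 5, 5, 5, 5, 10], 3024, nat_lit 80960, [[-5, 20, 20, 20, -20, 0, -40], [-5, 40, 0, 0, 0, 0,
     -40]]),
   ([3, 3, 3, 4, 4, 8, 9], 3024, nat_lit 80960, [])]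

/-- part 20 -/
def data20 : List (List ℕ × ℤ × ℕ × List (List ℤ)) :=
  [([3, 3, 4, 5, 6, 9, 11], 3024, nat_lit 80960, []),
   ([3, 3, 4, 7, 9, 11, 11], 3024, nat_lit 80960, []),
   ([3, 3, 4, 8, 10, 11, 11], 3024, nat_lit 80960, []),
   ([3, 3, 6, 6, 6, 9, 11], 3024, nat_lit 80960, []),
   ([3, 4, 5, 5, 7, 7, 10], 3024, nat_lit 80960, []),
   ([3, 5, 6, 6, 7, 7, 10], 3024, nat_lit 80960, []),
   ([3, 5, 6, 7, 9, 9, 10], 3024, nat_lit 80960, []),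
   ([3, 5, 6, 8, 9, 10, 10], 3024, nat_lit 80960, []),
   ([3, 5, 6, 10, 11, 11, 11], 3024, nat_lit 80960, []),
   ([3, 5, 9, 9, 9, 9, 10], 3024, nat_lit 80960, [])]

/-- part 21 -/
def data21 : List (List ℕ × ℤ × ℕ × List (List ℤ)) :=
  [([3, 6, 7, 7, 7, 10, 11], 3024, nat_lit 80960, []),
   ([3, 7, 7, 9, 9, 10, 11], 3024, nat_lit 80960, []),
   ([3, 7, 8, 9, 10, 10, 11], 3024, nat_lit 80960, []),
   ([3, 7, 10, 11, 11, 11, 11], 3024, nat_lit 80960, []),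
   ([3, 8, 8, 10, 10, 10, 11], 3024, nat_lit 80960, []),
   ([5, 5, 5, 9, 10, 10, 11], 3024, nat_lit 80960, []),
   ([2, 3, 3, 6, 8, 9, 11], 6336, nat_lit 38640, [])]

/-- part 22 -/
def data22 : List (List ℕ × ℤ × ℕ × List (List ℤ)) :=
  [([2, 3, 5, 5, 9, 11, 11], 6336, nat_lit 38640, [[2, 2, 7, 20, 20, 0, 8]])]

/-- part 23 -/
def data23 : List (List ℕ × ℤ × ℕ × List (List ℤ)) :=
  [([2, 3, 5, 7, 7, 7, 9], 6336, nat_lit 38640, [[-13, 16, 16, -24, 0, 0, -32]])]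

/-- part 24 -/
def data24 : List (List ℕ × ℤ × ℕ × List (List ℤ)) :=
  [([2, 3, 5, 7, 7, 8, 10], 6336, nat_lit 38640, [])]

/-- part 25 -/
def data25 : List (List ℕ × ℤ × ℕ × List (List ℤ)) :=
  [([2, 5, 5, 5, 5, 7, 10], 6336, nat_lit 38640, [[-5, 16, 20, 0, 0, -20, -48], [-5, 0, 20, 20, 20,
     -20, -40], [-5, 0, 40, 0, 0, 0, -40]]),
   ([3, 3, 4, 4, 7, 8, 9], 6336, nat_lit 38640, []),
   ([3, 3, 4, 4, 8, 8, 10], 6336, nat_lit 38640, []),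
   ([3, 4, 4, 5, 5, 5, 9], 6336, nat_lit 38640, []),
   ([3, 4, 5, 5, 6, 6, 9], 6336, nat_lit 38640, []),
   ([3, 4, 5, 6, 7, 9, 11], 6336, nat_lit 38640, [[2, 15, -32, -10, 20, 0, 0]]),
   ([3, 4, 5, 6, 8, 10, 11], 6336, nat_lit 38640, [[-2, -5, -12, -30, -20, 0, 0], [2, -5, 12, 30, 20,
     0, 0]]),
   ([3, 4, 5, 9, 9, 9, 11], 6336, nat_lit 38640, []),
   ([3, 4, 7, 7, 9, 11, 11], 6336, nat_lit 38640, []),
   ([3, 4, 7, 8, 10, 11, 11], 6336, nat_lit 38640, []),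
   ([3, 5, 6, 6, 6, 6, 9], 6336, nat_lit 38640, []),
   ([3, 6, 6, 6, 7, 9, 11], 6336, nat_lit 38640, [[2, -9, -32, 10, -10, -30, 0]]),
   ([3, 6, 6, 6, 8, 10, 11], 6336, nat_lit 38640, [])]

/-- part 26 -/
def data26 : List (List ℕ × ℤ × ℕ × List (List ℤ)) :=
  [([3, 6, 6, 9, 9, 9, 11], 6336, nat_lit 38640, []),
   ([4, 5, 5, 5, 10, 11, 11], 6336, nat_lit 38640, []),
   ([4, 5, 5, 7, 7, 7, 10], 6336, nat_lit 38640, []),
   ([5, 5, 6, 6, 10, 11, 11], 6336, nat_lit 38640, []),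
   ([5, 6, 6, 7, 7, 7, 10], 6336, nat_lit 38640, [])]

/-- part 27 -/
def data27 : List (List ℕ × ℤ × ℕ × List (List ℤ)) :=
  [([5, 6, 7, 7, 9, 9, 10], 6336, nat_lit 38640, [])]

/-- part 28 -/
def data28 : List (List ℕ × ℤ × ℕ × List (List ℤ)) :=
  [([5, 6, 7, 8, 9, 10, 10], 6336, nat_lit 38640, [[-5, -5, -17, -8, 32, 30, 0], [-5, -5, -9, 4, -24,
     30, 20], [-5, -5, 7, -12, 8, 30, 20]])]

/-- part 29 -/
def data29 : List (List ℕ × ℤ × ℕ × List (List ℤ)) :=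
  [([5, 6, 7, 10, 11, 11, 11], 6336, nat_lit 38640, []),
   ([5, 6, 8, 8, 10, 10, 10], 6336, nat_lit 38640, []),
   ([5, 7, 9, 9, 9, 9, 10], 6336, nat_lit 38640, [[-5, 11, 11, 7, -9, -32, -20]])]

/-- part 30 -/
def data30 : List (List ℕ × ℤ × ℕ × List (List ℤ)) :=
  [([5, 8, 9, 9, 9, 10, 10], 6336, nat_lit 38640, [[-5, -5, 11, 11, -13, -12, -40], [-5, -5, 11, 7,
     7, 4, -40], [-5, -5, -9, -9, -13, 20, 0], [-5, -5, -5, -5, -13, 4, 40]]),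
   ([5, 9, 9, 10, 11, 11, 11], 6336, nat_lit 38640, []),
   ([6, 7, 7, 7, 7, 10, 11], 6336, nat_lit 38640, []),
   ([7, 7, 7, 9, 9, 10, 11], 6336, nat_lit 38640, [])]

/-- part 31 -/
def data31 : List (List ℕ × ℤ × ℕ × List (List ℤ)) :=
  [([7, 7, 8, 9, 10, 10, 11], 6336, nat_lit 38640, [[2, -5, -5, 11, -8, 8, 8]]),
   ([7, 7, 10, 11, 11, 11, 11], 6336, nat_lit 38640, []),
   ([7, 8, 8, 10, 10, 10, 11], 6336, nat_lit 38640, [])]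

/-- All parts. -/
def data : List (List ℕ × ℤ × ℕ × List (List ℤ)) :=
  data0 ++ data1 ++ data2 ++ data3 ++ data4 ++ data5 ++ data6 ++ data7 ++ data8 ++ data9 ++ data10
    ++ data11 ++ data12 ++ data13 ++ data14 ++ data15 ++ data16 ++ data17 ++ data18 ++ data19 ++
    data20 ++ data21 ++ data22 ++ data23 ++ data24 ++ data25 ++ data26 ++ data27 ++ data28 ++
    data29 ++ data30 ++ data31

end Cfsg.Agent.M24Order.LastData
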