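import Cfsg.Agent.M24Order.LastRest
import Cfsg.Agent.M24Order.Final

/-!
# The end of the last case

A simple group of order 244823040 with the column `Last` and a principal 23-block `Block` is `M₂₄`.
-/

set_option autoImplicit false

open Cfsg Subgroup
open Cfsg.Agent.Characters.Core
open Cfsg.Agent.M24Order.Setup
open Cfsg.Agent.M24Order.Last

namespace Cfsg.Agent.M24Order.LastEnd

universe u

variable {G : Type u} [Group G] [Finite G] [IsSimpleGroup G] {H : Hyp G} {t : G}
  {b : IrrCharacter G → ℤ} {c1035 c5796 c1771 c2024 c5544 c990 c990' : IrrCharacter G}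

/-- `Last` and `Block` identify `M₂₄`. -/
theorem mulEquiv_of_block (K : Last H t b c1035 c5796 c1771 c2024 c5544 c990 c990')
    {l : List (IrrCharacter G)} {r : List (ℤ × ℤ) × ℤ × ℤ}
    (B : Block H b c5544 c990 c990' l r) : Nonempty (G ≃* Cfsg.M24) := by
  obtain ⟨⟨χ, hχ, huniq⟩, hno⟩ := LastRest.unique_twentythree K B
  exact Final.mulEquiv_of_degree H hχ huniq fun ψ =>
    ⟨(hno ψ).2.1, (hno ψ).2.2.1, (hno ψ).2.2.2.1, (hno ψ).2.2.2.2⟩

/-- The same with the output of the search for the principal 23-block. -/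
theorem mulEquiv_of_exists (K : Last H t b c1035 c5796 c1771 c2024 c5544 c990 c990')
    (h : ∃ (l : List (IrrCharacter G)) (r : List (ℤ × ℤ) × ℤ × ℤ),
      Block H b c5544 c990 c990' l r) : Nonempty (G ≃* Cfsg.M24) := by
  obtain ⟨l, r, B⟩ := h
  exact mulEquiv_of_block K B

end Cfsg.Agent.M24Order.LastEnd
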