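import Mathlib

/-!
# A fast exhaustive search for the kernel

`go chk tab leaf ts tail path a` chooses, for every entry of `ts`, an option: for the entry `0` an
option of `tail` (the rest of the list of options beginning with the previous choice), for the entry
`n + 1` an option of `tab n`. The state `a` is a natural number (several bounded sums packed
together) to which the second component of the option is added; `chk` prunes; at the end `leaf` is
evaluated on the reversed list of the first components and on the final state.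

`Run tab ts tail ps` : `ps` is an admissible list of choices; `go_spec` : correctness;
`exists_run` : lists of choices that are sorted inside each type are admissible.
-/

set_option autoImplicit false

namespace Cfsg.Agent.M24Order.LastEngine

/-- The loop over the options. -/
noncomputable def loop (chk : ℕ → Bool) (sub : List (ℤ × ℕ) → List ℤ → ℕ → Bool) (path : List ℤ)
    (a : ℕ) (os : List (ℤ × ℕ)) : Bool :=
  List.rec (motive := fun _ => Bool) true (fun p rest r =>
    cond (Nat.rec (motive := fun _ => Bool) true (fun n _ =>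
      cond (chk (Nat.succ n)) (sub (p :: rest) (p.1 :: path) (Nat.succ n)) true)
        (Nat.add a p.2)) r false) os

/-- The search. -/
noncomputable def go (chk : ℕ → Bool) (tab : ℕ → List (ℤ × ℕ)) (leaf : List ℤ → ℕ → Bool)
    (ts : List ℕ) : List (ℤ × ℕ) → List ℤ → ℕ → Bool :=
  List.rec (motive := fun _ => List (ℤ × ℕ) → List ℤ → ℕ → Bool) (fun _ path a => leaf path a)
    (fun t _ ih => fun tail path a => loop chk ih path a
      (Nat.rec (motive := fun _ => List (ℤ × ℕ)) tail (fun n _ => tab n) t)) ts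

variable {chk : ℕ → Bool} {tab : ℕ → List (ℤ × ℕ)} {leaf : List ℤ → ℕ → Bool}

theorem loop_cons {sub : List (ℤ × ℕ) → List ℤ → ℕ → Bool} {path : List ℤ} {a : ℕ}
    (ha : a ≠ 0) (p : ℤ × ℕ) (rest : List (ℤ × ℕ)) :
    loop chk sub path a (p :: rest) =
      cond (cond (chk (a + p.2)) (sub (p :: rest) (p.1 :: path) (a + p.2)) true)
        (loop chk sub path a rest) false := by
  obtain ⟨m, rfl⟩ := Nat.exists_eq_succ_of_ne_zero ha
  have h : Nat.add m.succ p.2 = Nat.succ (m + p.2) := Nat.succ_add m p.2
  have h' : m.succ + p.2 = Nat.succ (m + p.2) := Nat.succ_add m p.2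
  change cond (Nat.rec (motive := fun _ => Bool) true (fun n _ =>
      cond (chk (Nat.succ n)) (sub (p :: rest) (p.1 :: path) (Nat.succ n)) true)
        (Nat.add m.succ p.2)) _ false = _
  rw [h, h']
  rfl

theorem loop_spec {sub : List (ℤ × ℕ) → List ℤ → ℕ → Bool} {path : List ℤ} {a : ℕ}
    (ha : a ≠ 0) {p : ℤ × ℕ} {l₂ : List (ℤ × ℕ)} (hc : chk (a + p.2) = true) :
    ∀ {l₁ : List (ℤ × ℕ)}, loop chk sub path a (l₁ ++ p :: l₂) = true →
      sub (p :: l₂) (p.1 :: path) (a + p.2) = true
  | [], h => by
    rw [List.nil_append, loop_cons ha, hc, cond_true] at h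
    revert h
    cases sub (p :: l₂) (p.1 :: path) (a + p.2) <;> simp
  | q :: l₁, h => by
    rw [List.cons_append, loop_cons ha] at h
    refine loop_spec ha hc (l₁ := l₁) ?_
    revert h
    cases cond (chk (a + q.2)) (sub (q :: (l₁ ++ p :: l₂)) (q.1 :: path) (a + q.2)) true <;> simp

theorem go_nil (tail : List (ℤ × ℕ)) (path : List ℤ) (a : ℕ) :
    go chk tab leaf [] tail path a = leaf path a := rfl

theorem go_zero (ts : List ℕ) (tail : List (ℤ × ℕ)) (path : List ℤ) (a : ℕ) :
    go chk tab leaf (0 :: ts) tail path a = loop chk (go chk tab leaf ts) path a tail := rfl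

theorem go_succ (n : ℕ) (ts : List ℕ) (tail : List (ℤ × ℕ)) (path : List ℤ) (a : ℕ) :
    go chk tab leaf ((n + 1) :: ts) tail path a = loop chk (go chk tab leaf ts) path a (tab n) :=
  rfl

/-- Admissible lists of choices. -/
inductive Run (tab : ℕ → List (ℤ × ℕ)) : List ℕ → List (ℤ × ℕ) → List (ℤ × ℕ) → Prop
  | nil (tail : List (ℤ × ℕ)) : Run tab [] tail []
  | same {ts : List ℕ} (l₁ : List (ℤ × ℕ)) {p : ℤ × ℕ} {l₂ ps : List (ℤ × ℕ)}
      (h : Run tab ts (p :: l₂) ps) : Run tab (0 :: ts) (l₁ ++ p :: l₂) (p :: ps)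
  | new {n : ℕ} {ts : List ℕ} {tail l₁ : List (ℤ × ℕ)} {p : ℤ × ℕ} {l₂ ps : List (ℤ × ℕ)}
      (hn : tab n = l₁ ++ p :: l₂) (h : Run tab ts (p :: l₂) ps) :
      Run tab ((n + 1) :: ts) tail (p :: ps)

/-- The states pass the test. -/
def Pass (chk : ℕ → Bool) : ℕ → List (ℤ × ℕ) → Prop
  | _, [] => True
  | a, p :: ps => chk (a + p.2) = true ∧ Pass chk (a + p.2) ps

/-- Correctness of the search. -/
theorem go_spec {ts : List ℕ} {tail ps : List (ℤ × ℕ)} (hr : Run tab ts tail ps) :
    ∀ {path : List ℤ} {a : ℕ}, a ≠ 0 → Pass chk a ps → go chk tab leaf ts tail path a = true →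
      leaf ((ps.map Prod.fst).reverse ++ path) (a + (ps.map Prod.snd).sum) = true := by
  induction hr with
  | nil tail => intro path a _ _ h; simpa [go_nil] using h
  | @same ts l₁ p l₂ ps _ ih =>
    intro path a ha hp h
    rw [go_zero] at h
    have h1 := ih (path := p.1 :: path) (a := a + p.2) (by omega) hp.2 (loop_spec ha hp.1 h)
    simpa [add_assoc] using h1
  | @new n ts tail l₁ p l₂ ps hn _ ih =>
    intro path a ha hp h
    rw [go_succ, hn] at h
    have h1 := ih (path := p.1 :: path) (a := a + p.2) (by omega) hp.2 (loop_spec ha hp.1 h)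
    simpa [add_assoc] using h1

/-- Types to codes. -/
def codes : ℕ → List ℕ → List ℕ
  | _, [] => []
  | prev, n :: ns => (if n = prev then 0 else n + 1) :: codes n ns

/-- Sorted lists of choices are admissible. -/
theorem exists_run (hsort : ∀ n, (tab n).Pairwise fun p q => p.1 < q.1) :
    ∀ {ps : List (ℕ × ℤ × ℕ)} {prev : ℕ} {tail : List (ℤ × ℕ)},
      List.IsChain (fun x y : ℕ × ℤ × ℕ => x.1 = y.1 → x.2.1 ≤ y.2.1) ps →
      (∀ x ∈ ps, x.2 ∈ tab x.1) →
      (∀ x ∈ ps.head?, x.1 = prev → x.2 ∈ tail) → (∃ l, tab prev = l ++ tail) →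
      Run tab (codes prev (ps.map Prod.fst)) tail (ps.map Prod.snd)
  | [], _, _, _, _, _, _ => .nil _
  | x :: ps, prev, tail, hc, hm, hh, ⟨l, hl⟩ => by
    -- the next tail
    have key : ∀ {l₁ l₂ : List (ℤ × ℕ)}, tab x.1 = l₁ ++ x.2 :: l₂ →
        Run tab (codes x.1 (ps.map Prod.fst)) (x.2 :: l₂) (ps.map Prod.snd) := by
      intro l₁ l₂ h
      refine exists_run hsort (List.isChain_cons.1 hc).2 (fun y hy => hm y (by simp [hy])) ?_
        ⟨l₁, h⟩
      intro y hy hyx
      have h1 := (List.isChain_cons.1 hc).1 y hy hyx.symm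
      have h2 : y ∈ ps := List.mem_of_mem_head? hy
      have h3 := hm y (by simp [h2])
      rw [hyx, h, List.mem_append] at h3
      rcases h3 with h3 | h3
      · exfalso
        have h4 := hsort x.1
        rw [h, List.pairwise_append] at h4
        have := h4.2.2 _ h3 x.2 (by simp)
        omega
      · exact h3
    rw [List.map_cons, List.map_cons, codes]
    by_cases hx : x.1 = prev
    · rw [if_pos hx]
      have h1 := hh x (by simp) hx
      obtain ⟨l₁, l₂, h2⟩ := List.append_of_mem h1
      rw [h2]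
      refine .same l₁ (key (l₁ := l ++ l₁) ?_)
      rw [hx, hl, h2, List.append_assoc]
    · rw [if_neg hx]
      obtain ⟨l₁, l₂, h2⟩ := List.append_of_mem (hm x (by simp))
      exact .new h2 (key h2)

end Cfsg.Agent.M24Order.LastEngine
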