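import Cfsg.Agent.M24Order.LastSetup

/-!
# The rest of the principal 11-block in the last case: arithmetic

For each of the 22 possible principal 23-blocks the other members of the principal 11-block have
degrees `23 m`; a search shows that only one of the 22 blocks survives, with
`m = 1, 21, 45, 45, 144`.
-/

set_option autoImplicit false

namespace Cfsg.Agent.M24Order.LastRestArith

/-! ### The search -/

/-- A possible value of a character of degree `23 m`, coded. -/
inductive It
  | mk (t q n x w w' : ℕ)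
  deriving DecidableEq

/-- A possible degree `23 m` with its values. -/
inductive Blk
  | mk (m v d : ℕ) (l : List It)

/-- The sums of `k` numbers `v`, as a bit mask. -/
noncomputable def reach (L : List Blk) : ℕ → ℕ :=
  List.rec (motive := fun _ => ℕ → ℕ) (fun k => Nat.rec (motive := fun _ => ℕ) 1 (fun _ _ => 0) k)
    (fun B _ ih => Blk.rec (motive := fun _ => ℕ → ℕ) (fun _ v _ _ k =>
      Nat.rec (motive := fun _ => ℕ) 1
        (fun j r => Nat.lor (ih (Nat.succ j)) (Nat.shiftLeft r v)) k) B) L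

/-- The loop over the values. -/
noncomputable def loopI (F : It → List It → Bool) (l : List It) : Bool :=
  List.rec (motive := fun _ => Bool) true
    (fun i l' ih => Bool.rec (motive := fun _ => Bool) false ih (F i l')) l

/-- The loop over the degrees. -/
noncomputable def loopB (F : Blk → List Blk → Bool) (L : List Blk) : Bool :=
  List.rec (motive := fun _ => Bool) true
    (fun B L' ih => Bool.rec (motive := fun _ => Bool) false ih (F B L')) L

/-- The Gram test. -/
def gr (D N n d x y : ℕ) : Bool :=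
  Nat.ble (Nat.add (Nat.mul y y) (Nat.mul x x))
    (Nat.add (Nat.mul 2 (Nat.mul y x)) (Nat.mul (Nat.sub D d) (Nat.sub N n)))

/-- The relation for the last value. -/
def rl (S T R s t q : ℕ) : Bool :=
  Nat.beq (Nat.add (Nat.mul R S) (Nat.add (Nat.mul q s) (Nat.mul 241920 (Nat.mul T t))))
    (Nat.add (Nat.mul R s) (Nat.add (Nat.mul q S)
      (Nat.mul 120960 (Nat.add (Nat.mul T T) (Nat.mul t t)))))

/-- The final test. -/
def fin (g : List ℕ → Bool) (S T R s t q : ℕ) (c : List ℕ) : Bool :=
  Bool.rec (motive := fun _ => Bool) true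
    (Bool.rec (motive := fun _ => Bool) true
      (Bool.rec (motive := fun _ => Bool) true (g c) (Nat.beq q R)) (Nat.beq t T)) (Nat.beq s S)

/-- One step of the search. -/
noncomputable def step (S T R D N W W' : ℕ) (k : ℕ)
    (ih : List Blk → ℕ → ℕ → ℕ → ℕ → ℕ → ℕ → ℕ → ℕ → ℕ → List ℕ → Bool)
    (L : List Blk) (s t q n d x y w w' : ℕ) (c : List ℕ) : Bool :=
  Bool.rec (motive := fun _ => Bool)
    (loopB (fun B L' => Blk.rec (motive := fun _ => Bool) (fun m v e l =>
      Bool.rec (motive := fun _ => Bool) true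
        (loopI (fun i l' => It.rec (motive := fun _ => Bool) (fun t0 q0 n0 x0 w0 w0' =>
          Bool.rec (motive := fun _ => Bool) true
            (Bool.rec (motive := fun _ => Bool) true
              (Bool.rec (motive := fun _ => Bool) true
                (ih (List.cons (Blk.mk m v e (List.cons i l')) L') (Nat.add s v)
                  (Nat.add t t0) (Nat.add q q0) (Nat.add n n0) (Nat.add d e) (Nat.add x x0)
                  (Nat.add y 65536) (Nat.add w w0) (Nat.add w' w0') (List.cons m c))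
                (gr D N (Nat.add n n0) (Nat.add d e) (Nat.add x x0) (Nat.add y 65536)))
              (Nat.ble (Nat.add w' w0') W'))
            (Nat.ble (Nat.add w w0) W)) i) l)
        (Nat.beq (Nat.land 1 (Nat.shiftRight (reach (List.cons B L') k)
          (Nat.sub S (Nat.add s v)))) 1)) B) L)
    true
    (Bool.rec (motive := fun _ => Bool) false
      (Bool.not (rl S T R (Nat.add s 672) (Nat.add t 64) (Nat.add q 536870912)))
      (Nat.beq k 0))

/-- The search. -/
noncomputable def srch (g : List ℕ → Bool) (S T R D N W W' : ℕ) (k : ℕ) :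
    List Blk → ℕ → ℕ → ℕ → ℕ → ℕ → ℕ → ℕ → ℕ → ℕ → List ℕ → Bool :=
  Nat.rec (motive := fun _ => List Blk → ℕ → ℕ → ℕ → ℕ → ℕ → ℕ → ℕ → ℕ → ℕ → List ℕ → Bool)
    (fun _ s t q _ _ _ _ _ _ c => fin g S T R s t q c)
    (fun k ih => step S T R D N W W' k ih) k

theorem srch_succ (g : List ℕ → Bool) (S T R D N W W' k : ℕ) :
    srch g S T R D N W W' (k + 1) = step S T R D N W W' k (srch g S T R D N W W' k) := rfl

/-- The table. -/
def blocks : List Blk :=
  [.mk 320 992 102400 [.mk 64 536870912 0 65536 0 0],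
    .mk 384 288 147456 [.mk 64 536870912 0 65536 4 4],
    .mk 540 1212 291600 [.mk 64 536870912 0 65536 0 0],
    .mk 1 673 1 [.mk 63 536991872 1 65535 1 0, .mk 67 537959552 9 65539 0 4],
    .mk 10 662 100 [.mk 74 535661312 100 65436 0 0, .mk 54 535661312 100 65636 0 0],
    .mk 560 112 313600 [.mk 104 536525312 1600 43136 0 0, .mk 64 536870912 0 65536 0 0, .mk 24
    536525312 1600 87936 0 0],
    .mk 120 552 14400 [.mk 104 535258112 1600 60736 0 0, .mk 84 536467712 400 63136 0 0, .mk 64
    536870912 0 65536 0 0, .mk 44 536467712 400 67936 0 0, .mk 24 535258112 1600 70336 0 0],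
    .mk 45 717 2025 [.mk 19 542314112 2025 63511 0 0, .mk 39 538550912 625 64411 0 0, .mk 59
    536938112 25 65311 0 0, .mk 79 537475712 225 66211 0 0, .mk 99 540163712 1225 67111 0 0, .mk
    119 545002112 3025 68011 0 0],
    .mk 210 882 44100 [.mk 14 538310912 2500 55036 0 0, .mk 34 537389312 900 59236 0 0, .mk 54
    536928512 100 63436 0 0, .mk 74 536928512 100 67636 0 0, .mk 94 537389312 900 71836 0 0, .mk
    114 538310912 2500 76036 0 0],
    .mk 32 640 1024 [.mk 112 528161792 2304 64000 1 4, .mk 96 533000192 1024 64512 4 0, .mk 80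
    535903232 256 65024 4 4, .mk 64 536870912 0 65536 1 1, .mk 48 535903232 256 66048 0 1, .mk 32
    533000192 1024 66560 1 4, .mk 16 528161792 2304 67072 4 0],
    .mk 672 1344 451584 [.mk 16 537285632 2304 33280 1 4, .mk 32 537055232 1024 44032 4 0, .mk 48
    536916992 256 54784 4 4, .mk 64 536870912 0 65536 1 1, .mk 80 536916992 256 76288 0 1, .mk 96
    537055232 1024 87040 1 4, .mk 112 537285632 2304 97792 4 0],
    .mk 54 618 2916 [.mk 118 530339072 2916 62620 1 0, .mk 106 532919552 1764 63268 1 1, .mk 94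
    534854912 900 63916 4 4, .mk 82 536145152 324 64564 0 4, .mk 70 536790272 36 65212 4 1, .mk 58
    536790272 36 65860 1 0, .mk 46 536145152 324 66508 1 1, .mk 34 534854912 900 67156 4 4, .mk 22
    532919552 1764 67804 0 4, .mk 10 530339072 2916 68452 4 1],
    .mk 12 684 144 [.mk 40 542676992 576 65248 0 1, .mk 44 540902912 400 65296 1 1, .mk 48
    539451392 256 65344 4 4, .mk 52 538322432 144 65392 4 0, .mk 56 537516032 64 65440 1 4, .mk 60
    537032192 16 65488 0 1, .mk 64 536870912 0 65536 1 1, .mk 68 537032192 16 65584 4 4, .mk 72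
    537516032 64 65632 4 0, .mk 76 538322432 144 65680 1 4, .mk 80 539451392 256 65728 0 1, .mk 84
    540902912 400 65776 1 1, .mk 88 542676992 576 65824 4 4],
    .mk 144 816 20736 [.mk 8 539505152 3136 57472 4 1, .mk 16 538806272 2304 58624 0 4, .mk 24
    538214912 1600 59776 4 4, .mk 32 537731072 1024 60928 1 1, .mk 40 537354752 576 62080 1 0, .mk
    48 537085952 256 63232 4 1, .mk 56 536924672 64 64384 0 4, .mk 64 536870912 0 65536 4 4, .mk
    72 536924672 64 66688 1 1, .mk 80 537085952 256 67840 1 0, .mk 88 537354752 576 68992 4 1, .mk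
    96 537731072 1024 70144 0 4, .mk 104 538214912 1600 71296 4 4, .mk 112 538806272 2304 72448 1
    1, .mk 120 539505152 3136 73600 1 0],
    .mk 21 651 441 [.mk 105 527188352 1681 64675 1 0, .mk 101 528985472 1369 64759 0 4, .mk 97
    530598272 1089 64843 1 1, .mk 93 532026752 841 64927 4 1, .mk 89 533270912 625 65011 4 4, .mk
    85 534330752 441 65095 1 0, .mk 81 535206272 289 65179 0 4, .mk 77 535897472 169 65263 1 1,
    .mk 73 536404352 81 65347 4 1, .mk 69 536726912 25 65431 4 4, .mk 65 536865152 1 65515 1 0,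
    .mk 61 536819072 9 65599 0 4, .mk 57 536588672 49 65683 1 1, .mk 53 536173952 121 65767 4 1,
    .mk 49 535574912 225 65851 4 4, .mk 45 534791552 361 65935 1 0, .mk 41 533823872 529 66019 0
    4, .mk 37 532671872 729 66103 1 1, .mk 33 531335552 961 66187 4 1, .mk 29 529814912 1225 66271
    4 4, .mk 25 528109952 1521 66355 1 0, .mk 21 526220672 1849 66439 0 4],
    .mk 56 728 3136 [.mk 8 543644672 3136 62400 1 0, .mk 12 542711552 2704 62624 0 4, .mk 16
    541847552 2304 62848 1 1, .mk 20 541052672 1936 63072 4 1, .mk 24 540326912 1600 63296 4 4,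
    .mk 28 539670272 1296 63520 1 0, .mk 32 539082752 1024 63744 0 4, .mk 36 538564352 784 63968 1
    1, .mk 40 538115072 576 64192 4 1, .mk 44 537734912 400 64416 4 4, .mk 48 537423872 256 64640
    1 0, .mk 52 537181952 144 64864 0 4, .mk 56 537009152 64 65088 1 1, .mk 60 536905472 16 65312
    4 1, .mk 64 536870912 0 65536 4 4, .mk 68 536905472 16 65760 1 0, .mk 72 537009152 64 65984 0
    4, .mk 76 537181952 144 66208 1 1, .mk 80 537423872 256 66432 4 1, .mk 84 537734912 400 66656
    4 4, .mk 88 538115072 576 66880 1 0, .mk 92 538564352 784 67104 0 4, .mk 96 539082752 1024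
    67328 1 1, .mk 100 539670272 1296 67552 4 1, .mk 104 540326912 1600 67776 4 4, .mk 108
    541052672 1936 68000 1 0, .mk 112 541847552 2304 68224 0 4, .mk 116 542711552 2704 68448 1 1,
    .mk 120 543644672 3136 68672 4 1],
    .mk 252 420 63504 [.mk 120 535365632 3136 51424 4 4, .mk 116 535572992 2704 52432 4 0, .mk 112
    535764992 2304 53440 1 4, .mk 108 535941632 1936 54448 0 1, .mk 104 536102912 1600 55456 1 1,
    .mk 100 536248832 1296 56464 4 4, .mk 96 536379392 1024 57472 4 0, .mk 92 536494592 784 58480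
    1 4, .mk 88 536594432 576 59488 0 1, .mk 84 536678912 400 60496 1 1, .mk 80 536748032 256
    61504 4 4, .mk 76 536801792 144 62512 4 0, .mk 72 536840192 64 63520 1 4, .mk 68 536863232 16
    64528 0 1, .mk 64 536870912 0 65536 1 1, .mk 60 536863232 16 66544 4 4, .mk 56 536840192 64
    67552 4 0, .mk 52 536801792 144 68560 1 4, .mk 48 536748032 256 69568 0 1, .mk 44 536678912
    400 70576 1 1, .mk 40 536594432 576 71584 4 4, .mk 36 536494592 784 72592 4 0, .mk 32
    536379392 1024 73600 1 4, .mk 28 536248832 1296 74608 0 1, .mk 24 536102912 1600 75616 1 1,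
    .mk 20 535941632 1936 76624 4 4, .mk 16 535764992 2304 77632 4 0, .mk 12 535572992 2704 78640
    1 4, .mk 8 535365632 3136 79648 0 1]]

/-- Parameters of a row. -/
inductive Par
  | mk (k S T R D N W W' Y : ℕ)
  deriving DecidableEq

/-- The parameters. -/
def pars : List Par :=
  [.mk 5 3574 326 2686009600 80162 322 2 10 68974,
    .mk 5 3574 318 2683889920 80162 1058 2 7 70990,
    .mk 7 4909 443 3758470784 85466 690 0 1 68490,
    .mk 5 3574 322 2684773120 88148 1012 2 1 70268,
    .mk 5 3574 322 2684773120 91536 1104 5 4 66704,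
    .mk 5 3244 336 2689100800 232083 2323 3 10 45213,
    .mk 5 3244 332 2687864320 231236 2668 0 2 44208,
    .mk 5 3244 312 2686981120 231236 1380 0 1 53780,
    .mk 5 3244 312 2686981120 231236 1932 0 0 51272,
    .mk 3 1909 191 1611870336 231740 3036 0 7 50212,
    .mk 3 1909 171 1612753536 231740 1196 0 7 55252,
    .mk 5 3244 336 2689100800 256283 1403 3 10 46973,
    .mk 4 2472 256 2149403648 255116 1932 0 5 47892,
    .mk 3 1909 187 1612400256 253036 3404 3 0 46996,
    .mk 3 1909 203 1612400256 253036 3404 1 6 47188,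
    .mk 5 3244 316 2686451200 262091 2875 1 8 46469,
    .mk 5 3409 323 2685435520 246812 2668 2 7 44980,
    .mk 4 2989 251 2147858048 183308 460 2 7 59316,
    .mk 4 2989 251 2147858048 183308 460 2 7 59316,
    .mk 7 4744 448 3760016384 278252 1748 5 3 46352,
    .mk 2 1357 123 1075529344 287036 3404 3 0 46996,
    .mk 2 1357 139 1075529344 287036 3404 1 6 47188]

/-- The true solution. -/
def good (c : List ℕ) : Bool := c == [21, 144, 45, 45, 1]

/-- The test of a row. -/
noncomputable def chk (p : Par) : Bool :=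
  Par.rec (motive := fun _ => Bool) (fun k S T R D N W W' Y =>
    srch (fun c => Nat.beq D 91536 && good c) S T R D N W W' k blocks 0 0 0 0 0 65536 Y 0 0 []) p

/-! ### Correctness of the search -/

/-- A coded value with its degree. -/
structure E where
  (m v d t q n x w w' : ℕ)

/-- The value. -/
def E.it (e : E) : It := .mk e.t e.q e.n e.x e.w e.w'

/-- Membership in a block. -/
def InB : Blk → E → Prop
  | .mk m v d l, e => e.m = m ∧ e.v = v ∧ e.d = d ∧ e.it ∈ l

instance (B : Blk) (e : E) : Decidable (InB B e) := by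
  cases B
  unfold InB
  infer_instance

/-- Membership in a list of blocks. -/
def InL (L : List Blk) (e : E) : Prop := ∃ B ∈ L, InB B e

instance (L : List Blk) (e : E) : Decidable (InL L e) := by
  unfold InL
  infer_instance

theorem and_rec {a b : Bool} (h : Bool.rec (motive := fun _ => Bool) false b a = true) :
    a = true ∧ b = true := by
  cases a
  · exact absurd h Bool.false_ne_true
  · exact ⟨rfl, h⟩

theorem imp_rec {a b : Bool} (h : Bool.rec (motive := fun _ => Bool) true b a = true)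
    (ha : a = true) : b = true := by
  subst ha; exact h

theorem loopI_spec {F : It → List It → Bool} {l : List It} (h : loopI F l = true)
    (P : It → Prop) (hP : ∃ i ∈ l, P i) : ∃ i l' l₁, l = l₁ ++ i :: l' ∧ F i l' = true ∧ P i ∧
      ∀ j ∈ l₁, ¬ P j := by
  induction l with
  | nil => obtain ⟨i, hi, -⟩ := hP; exact absurd hi List.not_mem_nil
  | cons i₀ l ih =>
    have h' : Bool.rec (motive := fun _ => Bool) false (loopI F l) (F i₀ l) = true := h
    obtain ⟨h1, h2⟩ := and_rec h'
    by_cases hi : P i₀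
    · exact ⟨i₀, l, [], rfl, h1, hi, fun j hj => absurd hj List.not_mem_nil⟩
    · obtain ⟨i, l', l₁, e1, e2, e3, e4⟩ := ih h2 (by
        obtain ⟨i, hi', hPi⟩ := hP
        rcases List.mem_cons.1 hi' with rfl | hi'
        · exact absurd hPi hi
        · exact ⟨i, hi', hPi⟩)
      refine ⟨i, l', i₀ :: l₁, by rw [e1]; rfl, e2, e3, fun j hj => ?_⟩
      rcases List.mem_cons.1 hj with rfl | hj
      · exact hi
      · exact e4 j hj

theorem loopB_spec {F : Blk → List Blk → Bool} {l : List Blk} (h : loopB F l = true)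
    (P : Blk → Prop) (hP : ∃ i ∈ l, P i) : ∃ i l' l₁, l = l₁ ++ i :: l' ∧ F i l' = true ∧ P i ∧
      ∀ j ∈ l₁, ¬ P j := by
  induction l with
  | nil => obtain ⟨i, hi, -⟩ := hP; exact absurd hi List.not_mem_nil
  | cons i₀ l ih =>
    have h' : Bool.rec (motive := fun _ => Bool) false (loopB F l) (F i₀ l) = true := h
    obtain ⟨h1, h2⟩ := and_rec h'
    by_cases hi : P i₀
    · exact ⟨i₀, l, [], rfl, h1, hi, fun j hj => absurd hj List.not_mem_nil⟩
    · obtain ⟨i, l', l₁, e1, e2, e3, e4⟩ := ih h2 (by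
        obtain ⟨i, hi', hPi⟩ := hP
        rcases List.mem_cons.1 hi' with rfl | hi'
        · exact absurd hPi hi
        · exact ⟨i, hi', hPi⟩)
      refine ⟨i, l', i₀ :: l₁, by rw [e1]; rfl, e2, e3, fun j hj => ?_⟩
      rcases List.mem_cons.1 hj with rfl | hj
      · exact hi
      · exact e4 j hj

theorem reach_nil_zero : reach [] 0 = 1 := rfl

theorem reach_cons_zero (B : Blk) (L : List Blk) : reach (B :: L) 0 = 1 := by cases B; rfl

theorem reach_cons_succ (m v d : ℕ) (l : List It) (L : List Blk) (k : ℕ) :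
    reach (.mk m v d l :: L) (k + 1) =
      reach L (k + 1) ||| (reach (.mk m v d l :: L) k) <<< v := rfl

variable {ι : Type*} [DecidableEq ι] {f : ι → E}

theorem reach_spec (L : List Blk) : ∀ a : Finset ι, (∀ i ∈ a, InL L (f i)) →
    (reach L a.card).testBit (∑ i ∈ a, (f i).v) = true := by
  induction L with
  | nil =>
    intro a ha
    have : a = ∅ := by
      rw [Finset.eq_empty_iff_forall_notMem]
      intro i hi
      obtain ⟨B, hB, -⟩ := ha i hi
      exact absurd hB List.not_mem_nil
    subst this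
    rw [Finset.card_empty, Finset.sum_empty, reach_nil_zero]
    rfl
  | cons B L ih =>
    obtain ⟨m, v, d, l⟩ := B
    intro a
    induction hk : a.card generalizing a with
    | zero =>
      intro ha
      have : a = ∅ := Finset.card_eq_zero.1 hk
      subst this
      rw [Finset.sum_empty, reach_cons_zero]
      rfl
    | succ k ihk =>
      intro ha
      rw [reach_cons_succ, Nat.testBit_or]
      by_cases h : ∃ i ∈ a, InB (.mk m v d l) (f i)
      · obtain ⟨i, hi, hi'⟩ := h
        have h1 := ihk (a.erase i) (by rw [Finset.card_erase_of_mem hi, hk]; rfl)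
          (fun j hj => ha j (Finset.mem_of_mem_erase hj))
        have h2 : (f i).v = v := hi'.2.1
        rw [← Finset.add_sum_erase a (fun i => (f i).v) hi, h2, Nat.testBit_shiftLeft,
          Nat.add_sub_cancel_left, h1, Bool.and_true, Bool.or_eq_true]
        right
        exact decide_eq_true (Nat.le_add_right v _)
      · have h1 := ih a (fun i hi => by
          obtain ⟨B, hB, hB'⟩ := ha i hi
          rcases List.mem_cons.1 hB with rfl | hB
          · exact absurd ⟨i, hi, hB'⟩ h
          · exact ⟨B, hB, hB'⟩)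
        rw [hk] at h1
        rw [h1, Bool.true_or]

theorem beq_of_testBit {M z : ℕ} (h : M.testBit z = true) :
    Nat.beq (Nat.land 1 (Nat.shiftRight M z)) 1 = true := by
  rw [Nat.testBit] at h
  have h1 : (1 &&& (M >>> z)) = (M >>> z) % 2 := Nat.one_and_eq_mod_two _
  have h2 : Nat.land 1 (Nat.shiftRight M z) = (M >>> z) % 2 := h1
  rw [h1] at h
  rw [Nat.beq_eq, h2]
  have h3 : (M >>> z) % 2 ≠ 0 := by
    intro h4
    rw [h4] at h
    exact absurd h (by decide)
  omega

/-- The relation between the numbers of a value. -/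
def Rel (e : E) : Prop :=
  ((e.q : ℤ) - 536870912) * ((e.v : ℤ) - 672) = 120960 * ((e.t : ℤ) - 64) ^ 2

/-- The hereditary conditions. -/
structure Her (f : ι → E) (D N W W' n d x y w w' : ℕ) (a : Finset ι) : Prop where
  w : w + ∑ i ∈ a, (f i).w ≤ W
  w' : w' + ∑ i ∈ a, (f i).w' ≤ W'
  gr : (y + a.card * 65536) * (y + a.card * 65536) + (x + ∑ i ∈ a, (f i).x) *
    (x + ∑ i ∈ a, (f i).x) ≤ 2 * ((y + a.card * 65536) * (x + ∑ i ∈ a, (f i).x)) +
      (D - (d + ∑ i ∈ a, (f i).d)) * (N - (n + ∑ i ∈ a, (f i).n))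

theorem srch_sound (hrel : ∀ i, Rel (f i)) {g : List ℕ → Bool} {Γ : Multiset ℕ → Prop}
    (hg : ∀ c : List ℕ, g c = true → Γ ↑c) {S T R D N W W' : ℕ} :
    ∀ (k : ℕ) (L : List Blk) (s t q n d x y w w' : ℕ) (c : List ℕ) (a : Finset ι),
      srch g S T R D N W W' k L s t q n d x y w w' c = true → a.card = k →
      (∀ i ∈ a, InL L (f i)) → s + ∑ i ∈ a, (f i).v = S → t + ∑ i ∈ a, (f i).t = T →
      q + ∑ i ∈ a, (f i).q = R → (∀ a' ⊆ a, Her f D N W W' n d x y w w' a') →
      Γ (a.val.map (fun i => (f i).m) + ↑c) := by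
  intro k
  induction k with
  | zero =>
    intro L s t q n d x y w w' c a h hk _ hS hT hR _
    have ha : a = ∅ := Finset.card_eq_zero.1 hk
    subst ha
    rw [Finset.sum_empty, add_zero] at hS hT hR
    subst hS hT hR
    have h' : fin g s t q s t q c = true := h
    unfold fin at h'
    have h1 := imp_rec (imp_rec (imp_rec h' (Nat.beq_refl _)) (Nat.beq_refl _)) (Nat.beq_refl _)
    have h2 := hg c h1
    simpa using h2
  | succ k ih =>
    intro L s t q n d x y w w' c a h hk hL hS hT hR hH
    -- the relation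
    have hne : a.Nonempty := by rw [← Finset.card_pos, hk]; omega
    have hlast : Bool.rec (motive := fun _ => Bool) false
        (Bool.not (rl S T R (Nat.add s 672) (Nat.add t 64) (Nat.add q 536870912)))
          (Nat.beq k 0) = false := by
      rw [Bool.eq_false_iff]
      intro h1
      obtain ⟨h2, h3⟩ := and_rec h1
      rw [Nat.beq_eq] at h2
      subst h2
      obtain ⟨i, rfl⟩ := Finset.card_eq_one.1 hk
      rw [Finset.sum_singleton] at hS hT hR
      have h4 := hrel i
      unfold Rel at h4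
      have h5 : rl S T R (Nat.add s 672) (Nat.add t 64) (Nat.add q 536870912) = true := by
        unfold rl
        rw [Nat.beq_eq]
        simp only [Nat.add_eq, Nat.mul_eq]
        zify
        rw [← hS, ← hT, ← hR]
        push_cast
        linear_combination h4
      rw [h5] at h3
      exact Bool.false_ne_true h3
    rw [srch_succ] at h
    unfold step at h
    rw [hlast] at h
    obtain ⟨i₀, hi₀⟩ := hne
    obtain ⟨B, L', L₁, hLe, hF, ⟨i₁, hi₁, hB₁⟩, hL₁⟩ := loopB_spec h
      (fun B => ∃ i ∈ a, InB B (f i)) (by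
        obtain ⟨B, hB, hB'⟩ := hL i₀ hi₀
        exact ⟨B, hB, i₀, hi₀, hB'⟩)
    obtain ⟨m, v, e, l⟩ := B
    -- membership
    have hmem : ∀ i ∈ a, InB (.mk m v e l) (f i) ∨ InL L' (f i) := by
      intro i hi
      obtain ⟨B, hB, hB'⟩ := hL i hi
      rw [hLe, List.mem_append, List.mem_cons] at hB
      rcases hB with hB | rfl | hB
      · exact absurd ⟨i, hi, hB'⟩ (hL₁ B hB)
      · exact Or.inl hB'
      · exact Or.inr ⟨B, hB, hB'⟩
    -- the reach test
    have hreach : Nat.beq (Nat.land 1 (Nat.shiftRight (reach (List.cons (Blk.mk m v e l) L') k)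
        (Nat.sub S (Nat.add s v)))) 1 = true := by
      apply beq_of_testBit
      have h1 := reach_spec (f := f) (.mk m v e l :: L') (a.erase i₁) (fun i hi => by
        rcases hmem i (Finset.mem_of_mem_erase hi) with h2 | ⟨B, hB, hB'⟩
        · exact ⟨_, List.mem_cons_self, h2⟩
        · exact ⟨B, List.mem_cons_of_mem _ hB, hB'⟩)
      rw [Finset.card_erase_of_mem hi₁, hk, Nat.add_sub_cancel] at h1
      have h2 : Nat.sub S (Nat.add s v) = ∑ i ∈ a.erase i₁, (f i).v := by
        rw [← hS, ← Finset.add_sum_erase a (fun i => (f i).v) hi₁, hB₁.2.1]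
        simp only [Nat.add_eq, Nat.sub_eq]
        omega
      rw [h2]
      exact h1
    have hF' := imp_rec hF hreach
    -- the value
    obtain ⟨i, l', l₁, hle, hG, ⟨j, hj, hjB, rfl⟩, hl₁⟩ := loopI_spec hF'
      (fun i => ∃ j ∈ a, InB (.mk m v e l) (f j) ∧ i = (f j).it)
      ⟨(f i₁).it, hB₁.2.2.2, i₁, hi₁, hB₁, rfl⟩
    obtain ⟨hjm, hjv, hjd, hjl⟩ := hjB
    have hher : Her f D N W W' n d x y w w' {j} := hH {j} (Finset.singleton_subset_iff.2 hj)
    have hG' : Bool.rec (motive := fun _ => Bool) true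
                (Bool.rec (motive := fun _ => Bool) true
                  (Bool.rec (motive := fun _ => Bool) true
                    (srch g S T R D N W W' k
                      (List.cons (Blk.mk m v e (List.cons (f j).it l')) L')
                      (Nat.add s v)
                      (Nat.add t (f j).t) (Nat.add q (f j).q) (Nat.add n (f j).n) (Nat.add d e)
                      (Nat.add x (f j).x)
                      (Nat.add y 65536) (Nat.add w (f j).w) (Nat.add w' (f j).w') (List.cons m c))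
                    (gr D N (Nat.add n (f j).n) (Nat.add d e) (Nat.add x (f j).x)
                      (Nat.add y 65536)))
                  (Nat.ble (Nat.add w' (f j).w') W'))
                (Nat.ble (Nat.add w (f j).w) W) = true := hG
    have g1 : Nat.ble (Nat.add w (f j).w) W = true := by
      rw [Nat.ble_eq]
      have := hher.w
      rwa [Finset.sum_singleton] at this
    have g2 : Nat.ble (Nat.add w' (f j).w') W' = true := by
      rw [Nat.ble_eq]
      have := hher.w'
      rwa [Finset.sum_singleton] at this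
    have g3 : gr D N (Nat.add n (f j).n) (Nat.add d e) (Nat.add x (f j).x) (Nat.add y 65536) =
        true := by
      unfold gr
      rw [Nat.ble_eq]
      have := hher.gr
      rw [Finset.sum_singleton, Finset.sum_singleton, Finset.sum_singleton, Finset.card_singleton,
        one_mul, hjd] at this
      exact this
    have h3 := ih _ _ _ _ _ _ _ _ _ _ _ (a.erase j) (imp_rec (imp_rec (imp_rec hG' g1) g2) g3)
      (by rw [Finset.card_erase_of_mem hj, hk, Nat.add_sub_cancel]) ?_ ?_ ?_ ?_ ?_
    · have h4 : a.val.map (fun i => (f i).m) + (c : Multiset ℕ) =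
          (a.erase j).val.map (fun i => (f i).m) + ((m :: c : List ℕ) : Multiset ℕ) := by
        have h5 : a = insert j (a.erase j) := (Finset.insert_erase hj).symm
        rw [h5, Finset.insert_val_of_notMem (Finset.notMem_erase j a), Multiset.map_cons,
          ← Multiset.cons_coe, hjm, ← h5]
        rw [Multiset.cons_add, Multiset.add_cons]
      rw [h4]
      exact h3
    · intro i hi
      have hia := Finset.mem_of_mem_erase hi
      rcases hmem i hia with hI | ⟨B, hB, hB'⟩
      · refine ⟨_, List.mem_cons_self, hI.1, hI.2.1, hI.2.2.1, ?_⟩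
        have h5 := hI.2.2.2
        rw [hle, List.mem_append] at h5
        rcases h5 with h5 | h5
        · exact absurd ⟨i, hia, hI, rfl⟩ (hl₁ _ h5)
        · exact h5
      · exact ⟨B, List.mem_cons_of_mem _ hB, hB'⟩
    · rw [← hS, ← Finset.add_sum_erase a (fun i => (f i).v) hj, hjv]
      simp only [Nat.add_eq]
      ring
    · rw [← hT, ← Finset.add_sum_erase a (fun i => (f i).t) hj]
      simp only [Nat.add_eq]
      ring
    · rw [← hR, ← Finset.add_sum_erase a (fun i => (f i).q) hj]
      simp only [Nat.add_eq]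
      ring
    · intro a' ha'
      have hj' : j ∉ a' := fun h => Finset.notMem_erase j a (ha' h)
      have h5 := hH (insert j a') (by
        intro i hi
        rcases Finset.mem_insert.1 hi with rfl | hi
        · exact hj
        · exact Finset.mem_of_mem_erase (ha' hi))
      obtain ⟨p1, p2, p3⟩ := h5
      rw [Finset.sum_insert hj'] at p1 p2
      rw [Finset.sum_insert hj', Finset.sum_insert hj', Finset.sum_insert hj',
        Finset.card_insert_of_notMem hj', hjd] at p3
      refine ⟨?_, ?_, ?_⟩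
      · simp only [Nat.add_eq]; omega
      · simp only [Nat.add_eq]; omega
      · simp only [Nat.add_eq]
        have e1 : y + 65536 + a'.card * 65536 = y + (a'.card + 1) * 65536 := by ring
        rw [e1, add_assoc, add_assoc, add_assoc]
        exact p3

/-! ### The degrees and values -/

/-- The possible `m = χ(1) / 23`. -/
def ms : List ℕ := [1, 10, 12, 21, 32, 45, 54, 56, 120, 144, 210, 252, 320, 384, 540, 560, 672]

/-- The sign. -/
def sg (m : ℕ) : ℤ := if m % 11 = 1 then 1 else -1

/-- The weight `120960 / m`. -/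
def wt (m : ℕ) : ℤ := ((120960 / m : ℕ) : ℤ)

theorem sg_sq (m : ℕ) : sg m * sg m = 1 := by
  unfold sg; split_ifs <;> rfl

/-- The conditions for a value. -/
structure CU (m : ℕ) (x : ℤ) : Prop where
  four : (4 : ℤ) ∣ 23 * m - x
  dvd : ((23 * m : ℕ) : ℤ) ∣ 31878 * x
  five : 5 ∣ m → (5 : ℤ) ∣ x
  eleven : 11 * |x| ≤ 23 * m + 10 * sg m

/-- The code. -/
def code (m : ℕ) (b : ℤ) : E where
  m := m
  v := (672 + sg m * m).toNat
  d := m * m
  t := (64 + sg m * b).toNat
  q := (536870912 + sg m * (b * b) * wt m).toNat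
  n := (b * b).toNat
  x := (65536 + m * b).toNat
  w := ((b - 23 * m) ^ 2 % 5).toNat
  w' := ((2 * b - 23 * m) ^ 2 % 5).toNat

/-- The range of the values. -/
def rb : List ℤ := (List.range 117).map fun i : ℕ => (i : ℤ) - 58

theorem mem_rb {x : ℤ} (h : x * x ≤ 3404) : x ∈ rb := by
  have h1 : x ≤ 58 := by nlinarith
  have h2 : -58 ≤ x := by nlinarith
  exact List.mem_map.2 ⟨(x + 58).toNat, List.mem_range.2 (by omega), by omega⟩

theorem cover' : ∀ m ∈ ms, ∀ x ∈ rb, (4 : ℤ) ∣ 23 * m - x → ((23 * m : ℕ) : ℤ) ∣ 31878 * x →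
    (5 ∣ m → (5 : ℤ) ∣ x) → 11 * |x| ≤ 23 * m + 10 * sg m → InL blocks (code m x) := by
  decide +kernel

theorem spec' : ∀ m ∈ ms, ∀ x ∈ rb,
    ((code m x).v : ℤ) = 672 + sg m * m ∧
    ((code m x).t : ℤ) = 64 + sg m * x ∧
    ((code m x).q : ℤ) = 536870912 + sg m * (x * x) * wt m ∧
    ((code m x).n : ℤ) = x * x ∧
    ((code m x).x : ℤ) = 65536 + m * x ∧
    ((code m x).w : ℤ) = (x - 23 * m) ^ 2 % 5 ∧
    ((code m x).w' : ℤ) = (2 * x - 23 * m) ^ 2 % 5 := by
  decide +kernel

theorem wt_mul' : ∀ m ∈ ms, wt m * m = 120960 := by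
  decide +kernel

/-! ### The rows -/

/-- The sign of a degree. -/
def sd (z : ℤ) : ℤ := if z % 11 = 1 then 1 else if z % 11 = 10 then -1 else 0

/-- Removing the sign. -/
def un (p : ℤ × ℤ) : ℤ × ℤ := if 0 ≤ p.1 then p else (-p.1, -p.2)

/-- The known characters to which the weights apply. -/
def kw (r : List (ℤ × ℤ) × ℤ × ℤ) : List (ℤ × ℤ) :=
  (1035, 35) :: (990, -10) :: (990, -10) :: un r.2 :: un r.2 :: r.1.map un

/-- The known characters. -/
def kd (r : List (ℤ × ℤ) × ℤ × ℤ) : List (ℤ × ℤ) :=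
  (1, 1) :: (5544, 24) :: (5796, 36) :: (1771, 11) :: (2024, 24) :: kw r

/-- The relation of a row with its parameters. -/
def OK (r : List (ℤ × ℤ) × ℤ × ℤ) : Par → Prop
  | .mk k S T R D N W W' Y =>
    (k : ℤ) + ((kd r).map fun p => sd p.1 * sd p.1).sum = 11 ∧
    23 * ((S : ℤ) - 672 * k) + ((kd r).map fun p => sd p.1 * p.1).sum = 0 ∧
    ((T : ℤ) - 64 * k) + ((kd r).map fun p => sd p.1 * p.2).sum = 0 ∧
    88 * ((R : ℤ) - 536870912 * k) +
      ((kd r).map fun p => sd p.1 * (p.2 ^ 2 * (244823040 / p.1))).sum = 11 * 7680 ^ 2 ∧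
    529 * (D : ℤ) + ((kd r).map fun p => p.1 ^ 2).sum = 244823040 ∧
    (N : ℤ) + ((kd r).map fun p => p.2 ^ 2).sum = 7680 ∧
    (W : ℤ) + ((kw r).map fun p => (p.2 - p.1) ^ 2 % 5).sum = 5 ∧
    (W' : ℤ) + ((kw r).map fun p => (2 * p.2 - p.1) ^ 2 % 5).sum = 10 ∧
    23 * ((Y : ℤ) - 65536) + ((kd r).map fun p => p.1 * p.2).sum = 0 ∧ N ≤ 3404

instance (r : List (ℤ × ℤ) × ℤ × ℤ) (p : Par) : Decidable (OK r p) := by
  cases p
  unfold OK
  infer_instance

theorem pars_ok : ∀ r ∈ Last.rows, ∃ p ∈ pars, OK r p := by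
  decide +kernel

theorem row_of_D : ∀ r ∈ Last.rows,
    529 * ((91536 : ℕ) : ℤ) + ((kd r).map fun p => p.1 ^ 2).sum = 244823040 → r.2 = (770, 10) := by
  decide +kernel

theorem chk_all : ∀ p ∈ pars, chk p = true := by
  decide +kernel

/-- The conditions for the rest of the block. -/
structure Hyps {ι : Type*} (r : List (ℤ × ℤ) × ℤ × ℤ) (a : Finset ι) (m : ι → ℕ) (b : ι → ℤ) :
    Prop where
  mem : ∀ i ∈ a, m i ∈ ms
  cu : ∀ i ∈ a, CU (m i) (b i)
  card : (a.card : ℤ) + ((kd r).map fun p => sd p.1 * sd p.1).sum = 11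
  sS : ∑ i ∈ a, sg (m i) * (23 * (m i : ℤ)) + ((kd r).map fun p => sd p.1 * p.1).sum = 0
  sT : ∑ i ∈ a, sg (m i) * b i + ((kd r).map fun p => sd p.1 * p.2).sum = 0
  sR : ∑ i ∈ a, sg (m i) * (b i ^ 2 * (88 * wt (m i))) +
    ((kd r).map fun p => sd p.1 * (p.2 ^ 2 * (244823040 / p.1))).sum = 11 * 7680 ^ 2
  norm : ∀ a' ⊆ a, ∑ i ∈ a', b i ^ 2 + ((kd r).map fun p => p.2 ^ 2).sum ≤ 7680
  wt : ∀ a' ⊆ a, ∑ i ∈ a', (b i - 23 * (m i : ℤ)) ^ 2 % 5 +
    ((kw r).map fun p => (p.2 - p.1) ^ 2 % 5).sum ≤ 5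
  wt' : ∀ a' ⊆ a, ∑ i ∈ a', (2 * b i - 23 * (m i : ℤ)) ^ 2 % 5 +
    ((kw r).map fun p => (2 * p.2 - p.1) ^ 2 % 5).sum ≤ 10
  gram : ∀ a' ⊆ a, (∑ i ∈ a', 23 * (m i : ℤ) * b i + ((kd r).map fun p => p.1 * p.2).sum) ^ 2 ≤
    (244823040 - (∑ i ∈ a', (23 * (m i : ℤ)) ^ 2 + ((kd r).map fun p => p.1 ^ 2).sum)) *
      (7680 - (∑ i ∈ a', b i ^ 2 + ((kd r).map fun p => p.2 ^ 2).sum))

/-- Only one row survives, and the rest of the block is determined. -/
theorem main {ι : Type*} {r : List (ℤ × ℤ) × ℤ × ℤ} (hr : r ∈ Last.rows) {a : Finset ι}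
    {m : ι → ℕ} {b : ι → ℤ} (h : Hyps r a m b) :
    r.2 = (770, 10) ∧ a.val.map m = ↑([21, 144, 45, 45, 1] : List ℕ) := by
  classical
  obtain ⟨p, hp, hok⟩ := pars_ok r hr
  have hc := chk_all p hp
  obtain ⟨k, S, T, R, D, N, W, W', Y⟩ := p
  obtain ⟨o1, o2, o3, o4, o5, o6, o7, o8, o9, o10⟩ := hok
  have hb : ∀ i ∈ a, b i ∈ rb := by
    intro i hi
    apply mem_rb
    have h1 := h.norm {i} (Finset.singleton_subset_iff.2 hi)
    rw [Finset.sum_singleton] at h1
    have h2 : b i * b i = b i ^ 2 := by ring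
    omega
  have hsp := fun i (hi : i ∈ a) => spec' _ (h.mem i hi) _ (hb i hi)
  have hcard : a.card = k := by
    have := h.card
    omega
  -- use a function with the relation everywhere
  let f : ι → E := fun i => if i ∈ a then code (m i) (b i) else code 1 (-1)
  have hf : ∀ i ∈ a, f i = code (m i) (b i) := fun i hi => if_pos hi
  have hrel0 : ∀ m ∈ ms, ∀ x ∈ rb, Rel (code m x) := by
    intro m hm x hx
    obtain ⟨e1, e2, e3, -⟩ := spec' m hm x hx
    unfold Rel
    rw [e1, e2, e3]
    have h1 := sg_sq m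
    have h2 := wt_mul' m hm
    linear_combination (x ^ 2 * wt m * m - 120960 * x ^ 2) * h1 + x ^ 2 * h2
  have hrel : ∀ i, Rel (f i) := by
    intro i
    by_cases hi : i ∈ a
    · rw [hf i hi]; exact hrel0 _ (h.mem i hi) _ (hb i hi)
    · have : f i = code 1 (-1) := if_neg hi
      rw [this]
      exact hrel0 1 (by decide) (-1) (by decide)
  have hc' : srch (fun c => Nat.beq D 91536 && good c) S T R D N W W' k blocks
      0 0 0 0 0 65536 Y 0 0 [] = true := hc
  have key := srch_sound hrel (Γ := fun M => D = 91536 ∧ M = ↑([21, 144, 45, 45, 1] : List ℕ))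
    (fun c hc => by
      rw [Bool.and_eq_true, Nat.beq_eq] at hc
      refine ⟨hc.1, ?_⟩
      have h2 := hc.2
      unfold good at h2
      rw [beq_iff_eq] at h2
      rw [h2]) k blocks 0 0 0 0 0 65536 Y 0 0 [] a hc' hcard ?_ ?_ ?_ ?_ ?_
  · obtain ⟨k1, k2⟩ := key
    subst k1
    refine ⟨row_of_D r hr o5, ?_⟩
    rw [← k2, Multiset.coe_nil, add_zero]
    exact Multiset.map_congr rfl fun i hi => by rw [hf i hi]; rfl
  · intro i hi
    rw [hf i hi]
    have h1 := h.cu i hi
    exact cover' _ (h.mem i hi) _ (hb i hi) h1.four h1.dvd h1.five h1.eleven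
  · have h1 : ((∑ i ∈ a, (f i).v : ℕ) : ℤ) = 672 * a.card + ∑ i ∈ a, sg (m i) * (m i : ℤ) := by
      push_cast
      rw [Finset.sum_congr rfl fun i hi => by rw [hf i hi, (hsp i hi).1], Finset.sum_add_distrib,
        Finset.sum_const, nsmul_eq_mul]
      ring
    have h2 : ∑ i ∈ a, sg (m i) * (23 * (m i : ℤ)) = 23 * ∑ i ∈ a, sg (m i) * (m i : ℤ) := by
      rw [Finset.mul_sum]; exact Finset.sum_congr rfl fun i _ => by ring
    have h3 := h.sS
    rw [h2] at h3
    rw [hcard] at h1
    omega
  · have h1 : ((∑ i ∈ a, (f i).t : ℕ) : ℤ) = 64 * a.card + ∑ i ∈ a, sg (m i) * b i := by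
      push_cast
      rw [Finset.sum_congr rfl fun i hi => by rw [hf i hi, (hsp i hi).2.1],
        Finset.sum_add_distrib, Finset.sum_const, nsmul_eq_mul]
      ring
    have h3 := h.sT
    rw [hcard] at h1
    omega
  · have h1 : ((∑ i ∈ a, (f i).q : ℕ) : ℤ) = 536870912 * a.card +
        ∑ i ∈ a, sg (m i) * (b i * b i) * LastRestArith.wt (m i) := by
      push_cast
      rw [Finset.sum_congr rfl fun i hi => by rw [hf i hi, (hsp i hi).2.2.1],
        Finset.sum_add_distrib, Finset.sum_const, nsmul_eq_mul]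
      ring
    have h2 : ∑ i ∈ a, sg (m i) * (b i ^ 2 * (88 * LastRestArith.wt (m i))) =
        88 * ∑ i ∈ a, sg (m i) * (b i * b i) * LastRestArith.wt (m i) := by
      rw [Finset.mul_sum]; exact Finset.sum_congr rfl fun i _ => by ring
    have h3 := h.sR
    rw [h2] at h3
    rw [hcard] at h1
    omega
  · intro a' ha'
    have hn : ((∑ i ∈ a', (f i).n : ℕ) : ℤ) = ∑ i ∈ a', b i ^ 2 := by
      push_cast
      exact Finset.sum_congr rfl fun i hi => by
        rw [hf i (ha' hi), (hsp i (ha' hi)).2.2.2.1]; ring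
    have hd : ((∑ i ∈ a', (f i).d : ℕ) : ℤ) = ∑ i ∈ a', (m i : ℤ) ^ 2 := by
      push_cast
      exact Finset.sum_congr rfl fun i hi => by
        rw [hf i (ha' hi)]; change ((m i * m i : ℕ) : ℤ) = _; push_cast; ring
    have hx : ((∑ i ∈ a', (f i).x : ℕ) : ℤ) = 65536 * a'.card + ∑ i ∈ a', (m i : ℤ) * b i := by
      push_cast
      rw [Finset.sum_congr rfl fun i hi => by rw [hf i (ha' hi), (hsp i (ha' hi)).2.2.2.2.1],
        Finset.sum_add_distrib, Finset.sum_const, nsmul_eq_mul]
      ring
    have hw : ((∑ i ∈ a', (f i).w : ℕ) : ℤ) = ∑ i ∈ a', (b i - 23 * (m i : ℤ)) ^ 2 % 5 := by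
      push_cast
      exact Finset.sum_congr rfl fun i hi => by
        rw [hf i (ha' hi), (hsp i (ha' hi)).2.2.2.2.2.1]
    have hw' : ((∑ i ∈ a', (f i).w' : ℕ) : ℤ) = ∑ i ∈ a', (2 * b i - 23 * (m i : ℤ)) ^ 2 % 5 := by
      push_cast
      exact Finset.sum_congr rfl fun i hi => by
        rw [hf i (ha' hi), (hsp i (ha' hi)).2.2.2.2.2.2]
    have g1 := h.wt a' ha'
    have g2 := h.wt' a' ha'
    have g3 := h.norm a' ha'
    have g4 := h.gram a' ha'
    rw [← hw] at g1
    rw [← hw'] at g2
    rw [← hn] at g3 g4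
    refine ⟨by omega, by omega, ?_⟩
    have g5 : ∑ i ∈ a', 23 * (m i : ℤ) * b i = 23 * ∑ i ∈ a', (m i : ℤ) * b i := by
      rw [Finset.mul_sum]; exact Finset.sum_congr rfl fun i _ => by ring
    have g6 : ∑ i ∈ a', (23 * (m i : ℤ)) ^ 2 = 529 * ∑ i ∈ a', (m i : ℤ) ^ 2 := by
      rw [Finset.mul_sum]; exact Finset.sum_congr rfl fun i _ => by ring
    rw [g5, g6, ← hd] at g4
    set dd := ∑ i ∈ a', (f i).d with hdd
    set nn := ∑ i ∈ a', (f i).n with hnn
    set xx := ∑ i ∈ a', (f i).x with hxx
    set ms' := ∑ i ∈ a', (m i : ℤ) * b i with hms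
    have q1 : nn ≤ N := by omega
    have q2 : (7680 : ℤ) - ((nn : ℤ) + ((kd r).map fun p => p.2 ^ 2).sum) = ((N - nn : ℕ) : ℤ) := by
      omega
    have q3 : (244823040 : ℤ) - (529 * (dd : ℤ) + ((kd r).map fun p => p.1 ^ 2).sum) =
        529 * ((D : ℤ) - dd) := by omega
    have q4 : 23 * ms' + ((kd r).map fun p => p.1 * p.2).sum = 23 * (ms' - (Y - 65536)) := by
      omega
    rw [q2, q3, q4] at g4
    have q5 : (ms' - (Y - 65536)) ^ 2 ≤ ((D : ℤ) - dd) * ((N - nn : ℕ) : ℤ) := by nlinarith
    have q6 : ((D : ℤ) - dd) * ((N - nn : ℕ) : ℤ) ≤ (((D - dd) * (N - nn) : ℕ) : ℤ) := by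
      push_cast
      refine mul_le_mul_of_nonneg_right ?_ (Int.natCast_nonneg _)
      omega
    have q7 : (ms' - (Y - 65536)) ^ 2 ≤ (((D - dd) * (N - nn) : ℕ) : ℤ) := q5.trans q6
    rw [zero_add, zero_add]
    zify
    have q8 : ((xx : ℕ) : ℤ) = 65536 * a'.card + ms' := hx
    rw [q8]
    push_cast at q7 ⊢
    linear_combination q7

end Cfsg.Agent.M24Order.LastRestArith
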