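import Cfsg.Agent.M24Order.LastCol
import Cfsg.Agent.M24Order.LastRestArith

/-!
# The rest of the principal 11-block in the last case

From the column of the involution (`Last`) and the principal 23-block (`Block`): there is exactly
one irreducible character of degree 23 and none of degree 11, 12, 22, 230, 264.
-/

set_option autoImplicit false
set_option linter.unusedSectionVars false

open Cfsg Subgroup
open Cfsg.Agent.Characters.Core
open Cfsg.Agent.SmallSimple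
open Cfsg.Agent.M23Order.Base
open Cfsg.Agent.M24Order.Setup
open Cfsg.Agent.M24Order.Last
open Cfsg.Agent.M24Order.LastRestArith

namespace Cfsg.Agent.M24Order.LastRest

universe u

variable {G : Type u} [Group G] [Finite G] [IsSimpleGroup G] {H : Hyp G} {t : G}
  {b : IrrCharacter G → ℤ} {c1035 c5796 c1771 c2024 c5544 c990 c990' : IrrCharacter G}
  {l : List (IrrCharacter G)} {r : List (ℤ × ℤ) × ℤ × ℤ}

/-- Degree and value. -/
noncomputable def pr (b : IrrCharacter G → ℤ) (χ : IrrCharacter G) : ℤ × ℤ := ((dg χ : ℤ), b χ)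

theorem un_mul {e : ℤ} (he : e = 1 ∨ e = -1) {x y : ℤ} (hx : 0 < x) :
    un (e * x, e * y) = (x, y) := by
  unfold un
  rcases he with rfl | rfl
  · rw [if_pos (by simpa using hx.le)]; simp
  · rw [if_neg (by simpa using hx)]; simp

theorem dg_pos (χ : IrrCharacter G) : (0 : ℤ) < dg χ := by
  have := dg_ne_zero χ
  omega

theorem sd_dg (χ : IrrCharacter G) : sd (dg χ : ℤ) = uu χ := by
  unfold sd uu
  split_ifs <;> omega

theorem arith_a : ∀ d ∈ A, d % 23 = 0 → d % 11 ≠ 0 → d / 23 ∈ ms ∧ 23 * (d / 23) = d ∧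
    sg (d / 23) = sd (d : ℤ) ∧ (244823040 : ℤ) / (d : ℤ) = 88 * LastRestArith.wt (d / 23) := by
  decide +kernel

theorem arith_kd : ∀ r ∈ Last.rows, r.2 = (770, 10) → ∀ p ∈ kd r, p.1 ≠ 11 ∧ p.1 ≠ 12 ∧
    p.1 ≠ 22 ∧ p.1 ≠ 23 ∧ p.1 ≠ 230 ∧ p.1 ≠ 264 := by
  decide +kernel

/-- The known characters: `kwl` and five more. -/
structure Kn (H : Hyp G) (b : IrrCharacter G → ℤ) (c5796 c1771 c2024 c5544 : IrrCharacter G)
    (r : List (ℤ × ℤ) × ℤ × ℤ) (kwl kdl : List (IrrCharacter G)) : Prop where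
  eq : kdl = H.D.one :: c5544 :: c5796 :: c1771 :: c2024 :: kwl
  nd : kdl.Nodup
  kd : kdl.map (pr b) = kd r
  kw : kwl.map (pr b) = kw r
  mem : ∀ χ : IrrCharacter G, χ ∈ H.D.NE ∨ χ ∈ H.D.X → χ ∈ kdl

theorem exists_kn (K : Last H t b c1035 c5796 c1771 c2024 c5544 c990 c990')
    (B : Block H b c5544 c990 c990' l r) :
    ∃ kwl kdl, Kn H b c5796 c1771 c2024 c5544 r kwl kdl := by
  classical
  obtain ⟨Θ, Θ', hΘΘ, hX⟩ := Finset.card_eq_two.1 H.D.card_X
  have hΘ : Θ ∈ H.D.X := by rw [hX]; simp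
  have hΘ' : Θ' ∈ H.D.X := by rw [hX]; simp
  have hNE : ∀ χ : IrrCharacter G, χ ∈ H.D.NE → dg χ % 23 = 1 ∨ dg χ % 23 = 22 := by
    intro χ hχ
    rcases mod23_NE H hχ with h | h
    · exact Or.inl h.2
    · exact Or.inr h.2
  have hXX : ∀ χ : IrrCharacter G, χ ∈ H.D.X → dg χ % 23 = 11 ∨ dg χ % 23 = 12 := by
    intro χ hχ
    rcases mod23_X H hχ with h | h
    · exact Or.inl h.2
    · exact Or.inr h.2
  have hone : H.D.one ∈ H.D.NE := H.D.one_mem
  have h5544 : c5544 ∈ H.D.NE := (B.NE _).2 (by simp)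
  have h990 : c990 ∈ H.D.NE := (B.NE _).2 (by simp)
  have h990' : c990' ∈ H.D.NE := (B.NE _).2 (by simp)
  have hl : ∀ χ ∈ l, χ ∈ H.D.NE := fun χ hχ => (B.NE _).2 (by simp [hχ])
  have d1 := K.d1035
  have d2 := K.d5796
  have d3 := K.d1771
  have d4 := K.d2024
  have d5 := K.d5544
  have d6 := K.d990
  have d7 := K.d990'
  have hndl := B.nodup
  -- degrees and values
  have hXv : ∀ χ ∈ H.D.X, pr b χ = un r.2 := by
    intro χ hχ
    have h1 : r.2 = (H.D.d * (dg χ : ℤ), H.D.d * b χ) := by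
      rw [B.bX χ hχ, H.D.deg_X χ hχ, B.f_eq]
    rw [h1, un_mul H.D.d_mem (dg_pos χ)]
    rfl
  have hlv : l.map (pr b) = r.1.map un := by
    rw [← B.eq, List.map_map]
    refine List.map_congr_left fun χ hχ => ?_
    exact (un_mul (H.D.ε_mem χ (hl χ hχ)) (dg_pos χ)).symm
  have hkw : (c1035 :: c990 :: c990' :: Θ :: Θ' :: l).map (pr b) = LastRestArith.kw r := by
    simp only [List.map_cons]
    rw [hXv Θ hΘ, hXv Θ' hΘ', hlv]
    unfold pr LastRestArith.kw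
    rw [d1, d6, d7, K.b1035, K.b990, K.b990']
    rfl
  refine ⟨c1035 :: c990 :: c990' :: Θ :: Θ' :: l,
    H.D.one :: c5544 :: c5796 :: c1771 :: c2024 :: c1035 :: c990 :: c990' :: Θ :: Θ' :: l,
    rfl, ?_, ?_, hkw, ?_⟩
  · simp only [List.cons_append, List.nil_append, List.nodup_cons, List.mem_cons, not_or] at hndl
    obtain ⟨⟨n1, n2, n3, n4⟩, ⟨n5, n6, n7⟩, ⟨n8, n9⟩, n10, n11⟩ := hndl
    have hz : ∀ {χ ψ : IrrCharacter G}, dg χ % 23 = 0 → ψ ∈ H.D.NE → χ ≠ ψ := by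
      rintro χ _ h1 h2 rfl
      have := hNE _ h2
      omega
    have hz' : ∀ {χ ψ : IrrCharacter G}, dg χ % 23 = 0 → ψ ∈ H.D.X → χ ≠ ψ := by
      rintro χ _ h1 h2 rfl
      have := hXX _ h2
      omega
    have hz2 : ∀ {χ ψ : IrrCharacter G}, χ ∈ H.D.NE → ψ ∈ H.D.X → χ ≠ ψ := by
      rintro χ _ h1 h2 rfl
      exact Finset.disjoint_left.1 H.D.disj h1 h2
    have z1 : dg c1035 % 23 = 0 := by rw [d1]
    have z2 : dg c5796 % 23 = 0 := by rw [d2]
    have z3 : dg c1771 % 23 = 0 := by rw [d3]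
    have z4 : dg c2024 % 23 = 0 := by rw [d4]
    have hd : ∀ {χ ψ : IrrCharacter G}, dg χ ≠ dg ψ → χ ≠ ψ := fun h h' => h (by rw [h'])
    simp only [List.nodup_cons, List.mem_cons, not_or]
    refine ⟨⟨n1, (hz z2 hone).symm, (hz z3 hone).symm, (hz z4 hone).symm, (hz z1 hone).symm, n2,
      n3, hz2 hone hΘ, hz2 hone hΘ', n4⟩, ⟨(hz z2 h5544).symm, (hz z3 h5544).symm,
      (hz z4 h5544).symm, (hz z1 h5544).symm, n5, n6, hz2 h5544 hΘ, hz2 h5544 hΘ', n7⟩,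
      ⟨hd (by rw [d2, d3]; decide), hd (by rw [d2, d4]; decide), hd (by rw [d2, d1]; decide),
        hz z2 h990, hz z2 h990', hz' z2 hΘ, hz' z2 hΘ', fun h => hz z2 (hl _ h) rfl⟩,
      ⟨hd (by rw [d3, d4]; decide), hd (by rw [d3, d1]; decide),
        hz z3 h990, hz z3 h990', hz' z3 hΘ, hz' z3 hΘ', fun h => hz z3 (hl _ h) rfl⟩,
      ⟨hd (by rw [d4, d1]; decide),
        hz z4 h990, hz z4 h990', hz' z4 hΘ, hz' z4 hΘ', fun h => hz z4 (hl _ h) rfl⟩,
      ⟨hz z1 h990, hz z1 h990', hz' z1 hΘ, hz' z1 hΘ', fun h => hz z1 (hl _ h) rfl⟩,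
      ⟨n8, hz2 h990 hΘ, hz2 h990 hΘ', n9⟩, ⟨hz2 h990' hΘ, hz2 h990' hΘ', n10⟩,
      ⟨hΘΘ, fun h => hz2 (hl _ h) hΘ rfl⟩, fun h => hz2 (hl _ h) hΘ' rfl, n11⟩
  · rw [List.map_cons, List.map_cons, List.map_cons, List.map_cons, List.map_cons, hkw]
    unfold pr LastRestArith.kd
    rw [dg_one H, d5, d2, d3, d4, K.one, K.b5544, K.b5796, K.b1771, K.b2024]
    rfl
  · rintro χ (hχ | hχ)
    · rw [B.NE] at hχ
      simp only [List.mem_cons, List.mem_append, List.not_mem_nil, or_false] at hχ ⊢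
      tauto
    · rw [hX, Finset.mem_insert, Finset.mem_singleton] at hχ
      simp only [List.mem_cons]
      tauto

section

variable {kwl kdl : List (IrrCharacter G)} [DecidableEq (IrrCharacter G)]

theorem sum_map {F : ℤ × ℤ → ℤ} {L : List (IrrCharacter G)} {k : List (ℤ × ℤ)}
    (hn : L.Nodup) (hL : L.map (pr b) = k) :
    ∑ χ ∈ L.toFinset, F (pr b χ) = (k.map F).sum := by
  rw [List.sum_toFinset _ hn, ← hL, List.map_map]
  rfl

theorem Kn.ndw (N : Kn H b c5796 c1771 c2024 c5544 r kwl kdl) : kwl.Nodup := by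
  have := N.nd
  rw [N.eq] at this
  simp only [List.nodup_cons] at this
  exact this.2.2.2.2.2

theorem Kn.sub (N : Kn H b c5796 c1771 c2024 c5544 r kwl kdl) : kwl.toFinset ⊆ kdl.toFinset := by
  intro χ hχ
  rw [List.mem_toFinset, N.eq]
  rw [List.mem_toFinset] at hχ
  simp [hχ]

/-- The rest of the block. -/
noncomputable def rst (H : Hyp G) (kdl : List (IrrCharacter G)) : Finset (IrrCharacter G) :=
  B11 H \ kdl.toFinset

theorem notMem_kdl {χ : IrrCharacter G} (hχ : χ ∈ rst H kdl) : χ ∉ kdl := fun h =>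
  (Finset.mem_sdiff.1 hχ).2 (List.mem_toFinset.2 h)

theorem rst_arith (N : Kn H b c5796 c1771 c2024 c5544 r kwl kdl) {χ : IrrCharacter G}
    (hχ : χ ∈ rst H kdl) : dg χ / 23 ∈ ms ∧ 23 * (dg χ / 23) = dg χ ∧
      sg (dg χ / 23) = sd (dg χ : ℤ) ∧
        (244823040 : ℤ) / (dg χ : ℤ) = 88 * LastRestArith.wt (dg χ / 23) := by
  have h1 := notMem_kdl hχ
  exact arith_a _ (dg_mem_A H χ) (mod23_out H (fun h => h1 (N.mem χ (Or.inl h)))
    (fun h => h1 (N.mem χ (Or.inr h)))) ((mem_B11 H).1 (Finset.mem_sdiff.1 hχ).1)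

theorem rst_m (N : Kn H b c5796 c1771 c2024 c5544 r kwl kdl) {χ : IrrCharacter G}
    (hχ : χ ∈ rst H kdl) : (dg χ : ℤ) = 23 * ((dg χ / 23 : ℕ) : ℤ) := by
  have := (rst_arith N hχ).2.1
  omega

theorem rst_s (N : Kn H b c5796 c1771 c2024 c5544 r kwl kdl) {χ : IrrCharacter G}
    (hχ : χ ∈ rst H kdl) : sg (dg χ / 23) = uu χ := by
  rw [(rst_arith N hχ).2.2.1, sd_dg]

theorem disj (H : Hyp G) {a' : Finset (IrrCharacter G)} (ha' : a' ⊆ rst H kdl) :
    Disjoint a' kdl.toFinset := Finset.sdiff_disjoint.mono_left ha'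

theorem sum_rst (H : Hyp G) (kdl : List (IrrCharacter G)) (F : IrrCharacter G → ℤ)
    (hF : ∀ χ, χ ∉ B11 H → F χ = 0) :
    ∑ χ ∈ B11 H, F χ = ∑ χ ∈ rst H kdl, F χ + ∑ χ ∈ kdl.toFinset, F χ := by
  rw [← Finset.sum_union (disj H (Finset.Subset.refl _))]
  refine Finset.sum_subset (fun χ hχ => ?_) (fun χ _ hχ => hF χ hχ)
  by_cases h : χ ∈ kdl.toFinset
  · exact Finset.mem_union_right _ h
  · exact Finset.mem_union_left _ (Finset.mem_sdiff.2 ⟨hχ, h⟩)

theorem h_cu (K : Last H t b c1035 c5796 c1771 c2024 c5544 c990 c990')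
    (N : Kn H b c5796 c1771 c2024 c5544 r kwl kdl) {χ : IrrCharacter G} (hχ : χ ∈ rst H kdl) :
    CU (dg χ / 23) (b χ) := by
  have hne : χ ≠ H.D.one := by
    rintro rfl
    exact notMem_kdl hχ (N.mem _ (Or.inl H.D.one_mem))
  refine ⟨?_, ?_, ?_, ?_⟩
  · rw [← rst_m N hχ]; exact K.four hne
  · rw [(rst_arith N hχ).2.1]; exact K.dvd χ
  · intro h5
    exact K.five χ (by rw [← (rst_arith N hχ).2.1]; exact h5.mul_left 23)
  · rw [rst_s N hχ, ← rst_m N hχ]; exact K.le χ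

theorem h_card (N : Kn H b c5796 c1771 c2024 c5544 r kwl kdl) :
    ((rst H kdl).card : ℤ) + ((kd r).map fun p => sd p.1 * sd p.1).sum = 11 := by
  have h1 := sum_rst H kdl (fun χ => uu χ * uu χ)
    (fun χ hχ => by simp only [Last.uu_out H hχ, mul_zero])
  have h2 : ∑ χ ∈ B11 H, uu χ * uu χ = 11 := by
    rw [Finset.sum_congr rfl fun χ hχ => show uu χ * uu χ = 1 by
      rcases uu_mem H hχ with h | h <;> rw [h] <;> rfl, Finset.sum_const, card_B11]
    rfl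
  have h3 : ∑ χ ∈ rst H kdl, uu χ * uu χ = (rst H kdl).card := by
    rw [Finset.sum_congr rfl fun χ hχ => show uu χ * uu χ = 1 by
      rcases uu_mem H (Finset.mem_sdiff.1 hχ).1 with h | h <;> rw [h] <;> rfl,
      Finset.sum_const, nsmul_one]
  rw [← sum_map (b := b) (F := fun p => sd p.1 * sd p.1) N.nd N.kd, ← h3, ← h2, h1]
  congr 1
  exact Finset.sum_congr rfl fun χ _ => by unfold pr; rw [sd_dg]

theorem h_sS (N : Kn H b c5796 c1771 c2024 c5544 r kwl kdl) :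
    ∑ χ ∈ rst H kdl, sg (dg χ / 23) * (23 * ((dg χ / 23 : ℕ) : ℤ)) +
      ((kd r).map fun p => sd p.1 * p.1).sum = 0 := by
  have h1 := sum_rst H kdl (fun χ => uu χ * (dg χ : ℤ))
    (fun χ hχ => by simp only [Last.uu_out H hχ, zero_mul])
  rw [Last.deg11 H] at h1
  rw [← sum_map (b := b) (F := fun p => sd p.1 * p.1) N.nd N.kd, h1]
  congr 1
  · exact Finset.sum_congr rfl fun χ hχ => by rw [rst_s N hχ, ← rst_m N hχ]
  · exact Finset.sum_congr rfl fun χ _ => by unfold pr; rw [sd_dg]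

theorem h_sT (K : Last H t b c1035 c5796 c1771 c2024 c5544 c990 c990')
    (N : Kn H b c5796 c1771 c2024 c5544 r kwl kdl) :
    ∑ χ ∈ rst H kdl, sg (dg χ / 23) * b χ +
      ((kd r).map fun p => sd p.1 * p.2).sum = 0 := by
  have h1 := sum_rst H kdl (fun χ => uu χ * b χ)
    (fun χ hχ => by simp only [Last.uu_out H hχ, zero_mul])
  rw [K.rel11] at h1
  rw [← sum_map (b := b) (F := fun p => sd p.1 * p.2) N.nd N.kd, h1]
  congr 1
  · exact Finset.sum_congr rfl fun χ hχ => by rw [rst_s N hχ]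
  · exact Finset.sum_congr rfl fun χ _ => by unfold pr; rw [sd_dg]

theorem h_sR (K : Last H t b c1035 c5796 c1771 c2024 c5544 c990 c990')
    (N : Kn H b c5796 c1771 c2024 c5544 r kwl kdl) :
    ∑ χ ∈ rst H kdl, sg (dg χ / 23) * (b χ ^ 2 * (88 * LastRestArith.wt (dg χ / 23))) +
      ((kd r).map fun p => sd p.1 * (p.2 ^ 2 * (244823040 / p.1))).sum = 11 * 7680 ^ 2 := by
  have h1 := sum_rst H kdl (fun χ => uu χ * (b χ ^ 2 * (244823040 / (dg χ : ℤ))))
    (fun χ hχ => by simp only [Last.uu_out H hχ, zero_mul])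
  rw [K.pair11] at h1
  rw [← sum_map (b := b) (F := fun p => sd p.1 * (p.2 ^ 2 * (244823040 / p.1))) N.nd N.kd, h1]
  congr 1
  · exact Finset.sum_congr rfl fun χ hχ => by rw [rst_s N hχ, (rst_arith N hχ).2.2.2]
  · exact Finset.sum_congr rfl fun χ _ => by unfold pr; rw [sd_dg]

theorem h_no (N : Kn H b c5796 c1771 c2024 c5544 r kwl kdl) {a' : Finset (IrrCharacter G)}
    (ha' : a' ⊆ rst H kdl) : ∀ χ ∈ a' ∪ kwl.toFinset,
      χ ∉ [H.D.one, c5544, c5796, c1771, c2024] := by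
  intro χ hχ hmem
  rcases Finset.mem_union.1 hχ with h | h
  · refine notMem_kdl (ha' h) ?_
    rw [N.eq]
    simp only [List.mem_cons, List.not_mem_nil, or_false] at hmem ⊢
    tauto
  · rw [List.mem_toFinset] at h
    have hnd := N.nd
    rw [N.eq] at hnd
    simp only [List.nodup_cons, List.mem_cons, not_or] at hnd
    simp only [List.mem_cons, List.not_mem_nil, or_false] at hmem
    rcases hmem with rfl | rfl | rfl | rfl | rfl
    · exact hnd.1.2.2.2.2 h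
    · exact hnd.2.1.2.2.2 h
    · exact hnd.2.2.1.2.2 h
    · exact hnd.2.2.2.1.2 h
    · exact hnd.2.2.2.2.1 h

theorem h_wt (K : Last H t b c1035 c5796 c1771 c2024 c5544 c990 c990')
    (N : Kn H b c5796 c1771 c2024 c5544 r kwl kdl) {a' : Finset (IrrCharacter G)}
    (ha' : a' ⊆ rst H kdl) :
    ∑ χ ∈ a', (b χ - 23 * ((dg χ / 23 : ℕ) : ℤ)) ^ 2 % 5 +
      ((kw r).map fun p => (p.2 - p.1) ^ 2 % 5).sum ≤ 5 := by
  have hno := h_no N ha'
  have h1 := K.wt (a' ∪ kwl.toFinset) (fun h => hno _ h (by simp)) (fun h => hno _ h (by simp))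
    (fun h => hno _ h (by simp)) (fun h => hno _ h (by simp)) (fun h => hno _ h (by simp))
  rw [Finset.sum_union ((disj H ha').mono_right N.sub)] at h1
  rw [← sum_map (b := b) (F := fun p => (p.2 - p.1) ^ 2 % 5) N.ndw N.kw]
  refine le_trans (le_of_eq ?_) h1
  congr 1
  exact Finset.sum_congr rfl fun χ hχ => by rw [← rst_m N (ha' hχ)]

theorem h_wt' (K : Last H t b c1035 c5796 c1771 c2024 c5544 c990 c990')
    (N : Kn H b c5796 c1771 c2024 c5544 r kwl kdl) {a' : Finset (IrrCharacter G)}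
    (ha' : a' ⊆ rst H kdl) :
    ∑ χ ∈ a', (2 * b χ - 23 * ((dg χ / 23 : ℕ) : ℤ)) ^ 2 % 5 +
      ((kw r).map fun p => (2 * p.2 - p.1) ^ 2 % 5).sum ≤ 10 := by
  have hno := h_no N ha'
  have h1 := K.wt' (a' ∪ kwl.toFinset) (fun h => hno _ h (by simp)) (fun h => hno _ h (by simp))
    (fun h => hno _ h (by simp)) (fun h => hno _ h (by simp)) (fun h => hno _ h (by simp))
  rw [Finset.sum_union ((disj H ha').mono_right N.sub)] at h1
  rw [← sum_map (b := b) (F := fun p => (2 * p.2 - p.1) ^ 2 % 5) N.ndw N.kw]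
  refine le_trans (le_of_eq ?_) h1
  congr 1
  exact Finset.sum_congr rfl fun χ hχ => by rw [← rst_m N (ha' hχ)]

theorem h_norm (K : Last H t b c1035 c5796 c1771 c2024 c5544 c990 c990')
    (N : Kn H b c5796 c1771 c2024 c5544 r kwl kdl) {a' : Finset (IrrCharacter G)}
    (ha' : a' ⊆ rst H kdl) :
    ∑ χ ∈ a', b χ ^ 2 + ((kd r).map fun p => p.2 ^ 2).sum ≤ 7680 := by
  have h1 := K.norm (a' ∪ kdl.toFinset)
  rw [Finset.sum_union (disj H ha')] at h1
  rw [← sum_map (b := b) (F := fun p => p.2 ^ 2) N.nd N.kd]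
  exact h1

theorem h_gram (K : Last H t b c1035 c5796 c1771 c2024 c5544 c990 c990')
    (N : Kn H b c5796 c1771 c2024 c5544 r kwl kdl) {a' : Finset (IrrCharacter G)}
    (ha' : a' ⊆ rst H kdl) :
    (∑ χ ∈ a', 23 * ((dg χ / 23 : ℕ) : ℤ) * b χ + ((kd r).map fun p => p.1 * p.2).sum) ^ 2 ≤
    (244823040 - (∑ χ ∈ a', (23 * ((dg χ / 23 : ℕ) : ℤ)) ^ 2 +
      ((kd r).map fun p => p.1 ^ 2).sum)) *
      (7680 - (∑ χ ∈ a', b χ ^ 2 + ((kd r).map fun p => p.2 ^ 2).sum)) := by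
  have h1 := K.gram (a' ∪ kdl.toFinset)
  rw [Finset.sum_union (disj H ha'), Finset.sum_union (disj H ha'),
    Finset.sum_union (disj H ha')] at h1
  rw [← sum_map (b := b) (F := fun p => p.1 * p.2) N.nd N.kd,
    ← sum_map (b := b) (F := fun p => p.1 ^ 2) N.nd N.kd,
    ← sum_map (b := b) (F := fun p => p.2 ^ 2) N.nd N.kd]
  have e1 : ∑ χ ∈ a', 23 * ((dg χ / 23 : ℕ) : ℤ) * b χ = ∑ χ ∈ a', (dg χ : ℤ) * b χ :=
    Finset.sum_congr rfl fun χ hχ => by rw [← rst_m N (ha' hχ)]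
  have e2 : ∑ χ ∈ a', (23 * ((dg χ / 23 : ℕ) : ℤ)) ^ 2 = ∑ χ ∈ a', (dg χ : ℤ) ^ 2 :=
    Finset.sum_congr rfl fun χ hχ => by rw [← rst_m N (ha' hχ)]
  rw [e1, e2]
  exact h1

theorem hyps (K : Last H t b c1035 c5796 c1771 c2024 c5544 c990 c990')
    (N : Kn H b c5796 c1771 c2024 c5544 r kwl kdl) :
    Hyps r (rst H kdl) (fun χ => dg χ / 23) b where
  mem := fun _ hχ => (rst_arith N hχ).1
  cu := fun _ hχ => h_cu K N hχ
  card := h_card N
  sS := h_sS N
  sT := h_sT K N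
  sR := h_sR K N
  norm := fun _ ha' => h_norm K N ha'
  wt := fun _ ha' => h_wt K N ha'
  wt' := fun _ ha' => h_wt' K N ha'
  gram := fun _ ha' => h_gram K N ha'

end

/-- **The end of the last case**. -/
theorem unique_twentythree (K : Last H t b c1035 c5796 c1771 c2024 c5544 c990 c990')
    (B : Block H b c5544 c990 c990' l r) :
    (∃ χ : IrrCharacter G, dg χ = 23 ∧ ∀ ψ : IrrCharacter G, dg ψ = 23 → ψ = χ) ∧
    ∀ ψ : IrrCharacter G, dg ψ ≠ 11 ∧ dg ψ ≠ 12 ∧ dg ψ ≠ 22 ∧ dg ψ ≠ 230 ∧ dg ψ ≠ 264 := by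
  classical
  obtain ⟨kwl, kdl, N⟩ := exists_kn K B
  obtain ⟨hr2, hmult⟩ := main B.mem (hyps K N)
  have hno := arith_kd r B.mem hr2
  have hKDno : ∀ χ ∈ kdl, (dg χ : ℤ) ≠ 11 ∧ (dg χ : ℤ) ≠ 12 ∧ (dg χ : ℤ) ≠ 22 ∧
      (dg χ : ℤ) ≠ 23 ∧ (dg χ : ℤ) ≠ 230 ∧ (dg χ : ℤ) ≠ 264 := by
    intro χ hχ
    have h1 : pr b χ ∈ kd r := by
      rw [← N.kd]
      exact List.mem_map.2 ⟨χ, hχ, rfl⟩
    exact hno _ h1
  have hmemm : ∀ χ ∈ rst H kdl, dg χ / 23 = 21 ∨ dg χ / 23 = 144 ∨ dg χ / 23 = 45 ∨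
      dg χ / 23 = 1 := by
    intro χ hχ
    have h1 : dg χ / 23 ∈ (rst H kdl).val.map (fun χ => dg χ / 23) :=
      Multiset.mem_map_of_mem _ hχ
    rw [hmult, Multiset.mem_coe] at h1
    simp only [List.mem_cons, List.not_mem_nil, or_false] at h1
    tauto
  have hcount : ((rst H kdl).filter fun χ => 1 = dg χ / 23).card = 1 := by
    have h1 : Multiset.count 1 ((rst H kdl).val.map fun χ => dg χ / 23) = 1 := by
      rw [hmult]; decide
    rw [Multiset.count_map] at h1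
    exact h1
  obtain ⟨χ₀, hχ₀⟩ := Finset.card_eq_one.1 hcount
  have h23 : ∀ ψ : IrrCharacter G, dg ψ = 23 → ψ ∈ (rst H kdl).filter fun χ => 1 = dg χ / 23 := by
    intro ψ hψ
    refine Finset.mem_filter.2 ⟨Finset.mem_sdiff.2 ⟨(mem_B11 H).2 (by omega), fun h => ?_⟩,
      by rw [hψ]⟩
    have := (hKDno ψ (List.mem_toFinset.1 h)).2.2.2.1
    omega
  refine ⟨⟨χ₀, ?_, fun ψ hψ => ?_⟩, fun ψ => ?_⟩
  · have h1 : χ₀ ∈ (rst H kdl).filter fun χ => 1 = dg χ / 23 := by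
      rw [hχ₀]; exact Finset.mem_singleton_self _
    obtain ⟨h2, h3⟩ := Finset.mem_filter.1 h1
    have h4 := (rst_arith N h2).2.1
    omega
  · have h1 := h23 ψ hψ
    rw [hχ₀] at h1
    exact Finset.mem_singleton.1 h1
  · have hk := hKDno ψ
    have hX' := fun h => hk (N.mem ψ (Or.inr (mem_X23 H h)))
    have hN' := fun h => hk (N.mem ψ (Or.inl (mem_NE23 H h)))
    refine ⟨fun h => ?_, fun h => ?_, fun h => ?_, fun h => ?_, fun h => ?_⟩
    · have := (hX' (by omega)).1; omega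
    · have := (hX' (by omega)).2.1; omega
    · have := (hN' (by omega)).2.2.1; omega
    · by_cases h1 : ψ ∈ kdl
      · have := (hk h1).2.2.2.2.1; omega
      · have := hmemm ψ (Finset.mem_sdiff.2 ⟨(mem_B11 H).2 (by omega), fun h =>
          h1 (List.mem_toFinset.1 h)⟩)
        omega
    · have := (hX' (by omega)).2.2.2.2.2; omega

end Cfsg.Agent.M24Order.LastRest
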