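import Cfsg.Agent.M24Order.LastData

/-!
# Kernel computation, part 0
-/

set_option autoImplicit false
set_option maxRecDepth 100000

namespace Cfsg.Agent.M24Order.LastRun0

open Cfsg.Agent.M24Order.LastB Cfsg.Agent.M24Order.LastData

theorem run0 : data0.all test = true := by decide +kernel

theorem run1 : data1.all test = true := by decide +kernel

theorem run2 : data2.all test = true := by decide +kernel

theorem run3 : data3.all test = true := by decide +kernel

theorem run4 : data4.all test = true := by decide +kernel

theorem run5 : data5.all test = true := by decide +kernel

theorem run6 : data6.all test = true := by decide +kernel

end Cfsg.Agent.M24Order.LastRun0
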