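import Cfsg.Agent.M24Order.Setup

/-!
# The last case: one column of involutions

`Last H u b c1035 c5796 c1771 c2024 c5544 c990 c990'`: the column `b` of an involution `u` with
`|C(u)| = 7680` that inverts the Sylow 11-subgroup, the values on seven known characters, and the
weight inequalities modulo 5.

`rows`: the 22 possible principal 23-blocks with their `u`-columns (output of the first step);
entries: signed (for 23) degrees and `u`-values of the seven unknown nonexceptional characters,
signed degree and `u`-value of the exceptional characters.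
-/

set_option autoImplicit false
set_option linter.unusedSectionVars false

open Cfsg Subgroup
open Cfsg.Agent.Characters.Core
open Cfsg.Agent.SmallSimple
open Cfsg.Agent.M23Order.Base
open Cfsg.Agent.M24Order.Setup
open scoped ComplexConjugate

namespace Cfsg.Agent.M24Order.Last

universe u

variable {G : Type u} [Group G] [Finite G] [IsSimpleGroup G]

/-- The column of the involution `t`. -/
structure Last (H : Hyp G) (t : G) (b : IrrCharacter G → ℤ)
    (c1035 c5796 c1771 c2024 c5544 c990 c990' : IrrCharacter G) : Prop where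
  ht : t ^ 2 = 1
  ht1 : t ≠ 1
  val : ∀ χ : IrrCharacter G, (χ : G → ℂ) t = b χ
  card : Nat.card (centralizer ({t} : Set G)) = 7680
  five : ∀ χ : IrrCharacter G, 5 ∣ dg χ → (5 : ℤ) ∣ b χ
  inv : ∀ x ∈ (H.Q : Subgroup G), t * x * t⁻¹ = x⁻¹
  d1035 : dg c1035 = 1035
  d5796 : dg c5796 = 5796
  d1771 : dg c1771 = 1771
  d2024 : dg c2024 = 2024
  d5544 : dg c5544 = 5544
  d990 : dg c990 = 990
  d990' : dg c990' = 990
  ne990 : c990 ≠ c990'
  b1035 : b c1035 = 35
  b5796 : b c5796 = 36
  b1771 : b c1771 = 11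
  b2024 : b c2024 = 24
  b5544 : b c5544 = 24
  b990 : b c990 = -10
  b990' : b c990' = -10
  /-- weights: the part of degree 3 of `C(R) = R × A₄`, `R` a Sylow 5-subgroup -/
  wt : ∀ S : Finset (IrrCharacter G), H.D.one ∉ S → c1771 ∉ S → c2024 ∉ S → c5544 ∉ S →
    c5796 ∉ S → ∑ χ ∈ S, ((b χ - dg χ) ^ 2 % 5) ≤ 5
  /-- weights: the part `ω + ω²` -/
  wt' : ∀ S : Finset (IrrCharacter G), H.D.one ∉ S → c1771 ∉ S → c2024 ∉ S → c5544 ∉ S →
    c5796 ∉ S → ∑ χ ∈ S, ((2 * b χ - dg χ) ^ 2 % 5) ≤ 10

/-- The possible principal 23-blocks with their columns: signed degrees and values of the seven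
unknown nonexceptional characters, and of the exceptional characters. -/
def rows : List (List (ℤ × ℤ) × ℤ × ℤ) :=
  [([(-10395, 45), (-1540, 0), (990, -30), (990, 10), (-252, -16), (-45, -5), (-45, -5)],
      (-2772, 4)),
   ([(-10395, 45), (-1540, 0), (990, -10), (990, -10), (-252, -8), (-45, -5), (-45, -5)],
      (-2772, 12)),
   ([(-10395, 45), (990, -10), (-528, -24), (-528, 8), (231, -13), (-45, -5), (-22, -2)],
      (-2772, 4)),
   ([(-10395, 45), (-252, -12), (231, -9), (231, -9), (-45, -5), (-45, -5), (-22, 2)],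
      (-2772, 12)),
   ([(-10395, 45), (3520, 0), (-252, -12), (231, -9), (231, -9), (-45, -5), (-45, -5)],
      (770, 10)),
   ([(-3840, 0), (-3840, 0), (3520, 0), (-1540, -20), (-1540, 0), (-528, 16), (-252, -16)],
      (-495, -15)),
   ([(-3840, 0), (-3840, 0), (-1540, -20), (-528, 8), (-528, 16), (-252, -12), (231, -5)],
      (-2772, -8)),
   ([(-3840, 0), (-3840, 0), (-1540, 20), (-528, -24), (-528, 8), (-252, 8), (231, 7)],
      (-2772, 24)),
   ([(-3840, 0), (-3840, 0), (-1540, 20), (-528, -24), (-528, 16), (-252, 8), (231, -13)],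
      (-2772, 12)),
   ([(-3840, 0), (-3840, 0), (-1540, 0), (-528, 16), (-252, -8), (-252, 4), (-45, -5)],
      (-2772, 12)),
   ([(-3840, 0), (-3840, 0), (-1540, 0), (-528, 16), (-252, 4), (-252, 12), (-45, -5)],
      (-2772, 32)),
   ([(-3840, 0), (-3840, 0), (-1540, 20), (990, -10), (990, 30), (-528, -24), (-252, -16)],
      (-495, 5)),
   ([(-3840, 0), (-3840, 0), (-1540, 20), (990, -10), (-528, -32), (231, 15), (-22, 2)],
      (-1024, 0)),
   ([(-3840, 0), (-3840, 0), (-528, -8), (-528, 8), (-252, -8), (-252, 8), (-45, -5)],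
      (-1760, 0)),
   ([(-3840, 0), (-3840, 0), (-528, 8), (-528, 8), (-252, -8), (-252, -8), (-45, -5)],
      (-1760, 0)),
   ([(-3840, 0), (-3840, 0), (990, 10), (-528, -24), (-528, 8), (-252, 4), (-22, 2)],
      (-495, 5)),
   ([(-3840, 0), (-1540, -20), (-1540, 0), (-1540, 0), (-1540, 20), (-252, -8), (-45, -5)],
      (-2772, -8)),
   ([(5544, -40), (-3840, 0), (-1540, -20), (-1540, 20), (-1540, 20), (-1540, 20), (-45, -5)],
      (3024, 0)),
   ([(5544, -40), (-3840, 0), (-1540, 0), (-1540, 0), (-1540, 0), (-1540, 40), (-45, -5)],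
      (3024, 0)),
   ([(-3840, 0), (-1540, -20), (-1540, -20), (-1540, 20), (990, -10), (231, 11), (-22, -2)],
      (264, -16)),
   ([(-3840, 0), (-1540, 0), (-528, -8), (-528, 8), (-252, -8), (-252, 8), (-45, -5)],
      (540, 0)),
   ([(-3840, 0), (-1540, 0), (-528, 8), (-528, 8), (-252, -8), (-252, -8), (-45, -5)],
      (540, 0))]

/-- Output of the first step: the principal 23-block. -/
structure Block (H : Hyp G) (b : IrrCharacter G → ℤ) (c5544 c990 c990' : IrrCharacter G)
    (l : List (IrrCharacter G)) (r : List (ℤ × ℤ) × ℤ × ℤ) : Prop where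
  mem : r ∈ rows
  nodup : ([H.D.one, c5544, c990, c990'] ++ l).Nodup
  NE : ∀ χ : IrrCharacter G, χ ∈ H.D.NE ↔ χ ∈ [H.D.one, c5544, c990, c990'] ++ l
  eq : l.map (fun χ => (H.D.ε χ * (dg χ : ℤ), H.D.ε χ * b χ)) = r.1
  f_eq : H.D.d * (H.D.f : ℤ) = r.2.1
  bX : ∀ Θ ∈ H.D.X, H.D.d * b Θ = r.2.2

end Cfsg.Agent.M24Order.Last
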