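import Cfsg.Agent.M23Order.Base
import Cfsg.Agent.SmallSimple.PrimeDual

/-!
# Degrees of a simple group of order 244823040 with self-centralizing Sylow 11- and 23-subgroups
-/

set_option autoImplicit false
set_option linter.unusedSectionVars false

open Cfsg Subgroup
open Cfsg.Agent.Characters.Core
open Cfsg.Agent.SmallSimple
open Cfsg.Agent.M23Order.Base
open scoped ComplexConjugate

namespace Cfsg.Agent.M24Order.Setup

universe u

/-- The hypotheses of the character-theoretic step. -/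
structure Hyp (G : Type u) [Group G] [Finite G] where
  hcard : Nat.card G = 244823040
  hcomm : commutator G = ⊤
  /-- a Sylow 23-subgroup -/
  P : Sylow 23 G
  hP : Nat.card P = 23
  hCP : centralizer (P : Set G) = (P : Subgroup G)
  heP : (centralizer (P : Set G)).relIndex (normalizer (P : Set G)) = 11
  /-- a Sylow 11-subgroup -/
  Q : Sylow 11 G
  hQ : Nat.card Q = 11
  hCQ : centralizer (Q : Set G) = (Q : Subgroup G)
  heQ : (centralizer (Q : Set G)).relIndex (normalizer (Q : Set G)) = 10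
  /-- Brauer's theorem for 23 -/
  D : SC 23 11 2 P
  /-- Brauer's theorem for 11 -/
  E : SC 11 10 1 Q

/-- the possible degrees -/
def A : List ℕ := [1, 11, 12, 22, 23, 45, 230, 231, 252, 253, 264, 276, 483, 495, 506, 528, 540,
  736, 759, 770, 990, 1012, 1024, 1035, 1242, 1265, 1288, 1518, 1540, 1760, 1771, 2024, 2277,
  2530, 2760, 2772, 3024, 3036, 3312, 3520, 3542, 3795, 3840, 4048, 4554, 4830, 5060, 5313, 5544,
  5796, 6072, 6336, 6831, 7084, 7360, 7590, 8096, 8832, 8855, 9108, 9856, 10120, 10395, 10626,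
  11385, 11880, 12144, 12420, 12672, 12880, 13662, 14168, 15180, 15456]

theorem arith_A : ∀ d < 15647, d ∣ 244823040 →
    (d % 23 = 0 ∨ d % 23 = 1 ∨ d % 23 = 22 ∨ d % 23 = 11 ∨ d % 23 = 12) →
    (d % 11 = 0 ∨ d % 11 = 1 ∨ d % 11 = 10) → d ∈ A := by
  have key : (List.range 15647).all (fun d => !(244823040 % d == 0) ||
      !(d % 23 == 0 || d % 23 == 1 || d % 23 == 22 || d % 23 == 11 || d % 23 == 12) ||
      !(d % 11 == 0 || d % 11 == 1 || d % 11 == 10) ||
      A.contains d) = true := by decide +kernel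
  intro d hd h1 h2 h3
  have h4 := List.all_eq_true.1 key d (List.mem_range.2 hd)
  simp only [Bool.or_eq_true, Bool.not_eq_true', beq_eq_false_iff_ne, Bool.or_eq_false_iff,
    List.contains_iff_mem] at h4
  have h5 : 244823040 % d = 0 := Nat.mod_eq_zero_of_dvd h1
  rcases h4 with ((h4 | h4) | h4) | h4
  · exact absurd h5 h4
  · omega
  · omega
  · exact h4

variable {G : Type u} [Group G] [Finite G] [IsSimpleGroup G] (H : Hyp G)

include H

theorem mod_NE {p e t : ℕ} {P : Sylow p G} (D : SC p e t P) {χ : IrrCharacter G} (hχ : χ ∈ D.NE) :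
    (D.ε χ = 1 ∧ (p : ℤ) ∣ dg χ - 1) ∨ (D.ε χ = -1 ∧ (p : ℤ) ∣ dg χ + 1) := by
  rcases D.ε_mem χ hχ with h | h
  · left; refine ⟨h, ?_⟩; have := D.mod_NE χ hχ; rwa [h] at this
  · right; refine ⟨h, ?_⟩; have := D.mod_NE χ hχ; rwa [h, sub_neg_eq_add] at this

/-- congruences modulo 23 -/
theorem mod23_NE {χ : IrrCharacter G} (hχ : χ ∈ H.D.NE) :
    (H.D.ε χ = 1 ∧ dg χ % 23 = 1) ∨ (H.D.ε χ = -1 ∧ dg χ % 23 = 22) := by
  rcases mod_NE H H.D hχ with ⟨h1, h2⟩ | ⟨h1, h2⟩
  · left; exact ⟨h1, by omega⟩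
  · right; exact ⟨h1, by omega⟩

theorem mod23_X {χ : IrrCharacter G} (hχ : χ ∈ H.D.X) :
    (H.D.d = 1 ∧ dg χ % 23 = 11) ∨ (H.D.d = -1 ∧ dg χ % 23 = 12) := by
  rw [H.D.deg_X χ hχ]
  have h := H.D.mod_X
  rcases H.D.d_mem with h1 | h1
  · left; rw [h1] at h; exact ⟨h1, by omega⟩
  · right; rw [h1] at h; exact ⟨h1, by omega⟩

theorem mod23_out {χ : IrrCharacter G} (hχ : χ ∉ H.D.NE) (hχ' : χ ∉ H.D.X) : dg χ % 23 = 0 := by
  have := H.D.mod_out χ hχ hχ'
  omega

theorem mod11_NE {χ : IrrCharacter G} (hχ : χ ∈ H.E.NE) :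
    (H.E.ε χ = 1 ∧ dg χ % 11 = 1) ∨ (H.E.ε χ = -1 ∧ dg χ % 11 = 10) := by
  rcases mod_NE H H.E hχ with ⟨h1, h2⟩ | ⟨h1, h2⟩
  · left; exact ⟨h1, by omega⟩
  · right; exact ⟨h1, by omega⟩

theorem mod11_X {χ : IrrCharacter G} (hχ : χ ∈ H.E.X) :
    (H.E.d = 1 ∧ dg χ % 11 = 10) ∨ (H.E.d = -1 ∧ dg χ % 11 = 1) := by
  rw [H.E.deg_X χ hχ]
  have h := H.E.mod_X
  rcases H.E.d_mem with h1 | h1
  · left; rw [h1] at h; exact ⟨h1, by omega⟩
  · right; rw [h1] at h; exact ⟨h1, by omega⟩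

theorem mod11_out {χ : IrrCharacter G} (hχ : χ ∉ H.E.NE) (hχ' : χ ∉ H.E.X) : dg χ % 11 = 0 := by
  have := H.E.mod_out χ hχ hχ'
  omega

theorem mod11 (χ : IrrCharacter G) : dg χ % 11 = 0 ∨ dg χ % 11 = 1 ∨ dg χ % 11 = 10 := by
  by_cases h1 : χ ∈ H.E.NE
  · rcases mod11_NE H h1 with h | h <;> omega
  · by_cases h2 : χ ∈ H.E.X
    · rcases mod11_X H h2 with h | h <;> omega
    · left; exact mod11_out H h1 h2

theorem mod23 (χ : IrrCharacter G) : dg χ % 23 = 0 ∨ dg χ % 23 = 1 ∨ dg χ % 23 = 22 ∨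
    dg χ % 23 = 11 ∨ dg χ % 23 = 12 := by
  by_cases h1 : χ ∈ H.D.NE
  · rcases mod23_NE H h1 with h | h <;> omega
  · by_cases h2 : χ ∈ H.D.X
    · rcases mod23_X H h2 with h | h <;> omega
    · left; exact mod23_out H h1 h2

theorem dg_lt (χ : IrrCharacter G) : dg χ < 15647 := by
  have h := sum_dg_sq_le ({χ} : Finset (IrrCharacter G))
  rw [Finset.sum_singleton, H.hcard] at h
  by_contra h1
  push Not at h1
  have : 15647 ^ 2 ≤ dg χ ^ 2 := Nat.pow_le_pow_left h1 2
  omega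

theorem dg_mem_A (χ : IrrCharacter G) : dg χ ∈ A := by
  refine arith_A _ (dg_lt H χ) (by rw [← H.hcard]; exact dg_dvd χ) ?_ ?_
  · rcases mod23 H χ with h | h | h | h | h <;> tauto
  · exact mod11 H χ

/-- characters whose degree is exceptional modulo 23 -/
theorem mem_X23 {χ : IrrCharacter G} (h : dg χ % 23 = 11 ∨ dg χ % 23 = 12) : χ ∈ H.D.X := by
  by_contra h2
  by_cases h1 : χ ∈ H.D.NE
  · rcases mod23_NE H h1 with h | h <;> omega
  · have := mod23_out H h1 h2; omega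

theorem mem_NE23 {χ : IrrCharacter G} (h : dg χ % 23 = 1 ∨ dg χ % 23 = 22) : χ ∈ H.D.NE := by
  by_contra h1
  by_cases h2 : χ ∈ H.D.X
  · rcases mod23_X H h2 with h | h <;> omega
  · have := mod23_out H h1 h2; omega

/-- Two characters whose degrees are exceptional modulo 23 have the same degree. -/
theorem compat23 {χ ψ : IrrCharacter G} (h : dg χ % 23 = 11 ∨ dg χ % 23 = 12)
    (h' : dg ψ % 23 = 11 ∨ dg ψ % 23 = 12) : dg χ = dg ψ :=
  (H.D.deg_X χ (mem_X23 H h)).trans (H.D.deg_X ψ (mem_X23 H h')).symm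

theorem eq_one_of_dg {χ : IrrCharacter G} (h : dg χ = 1) : χ = H.D.one := by
  apply Subtype.ext
  rw [H.D.coe_one]
  exact coe_eq_one_of_dg H.hcomm h

theorem one_eq_one : H.E.one = H.D.one := by
  apply Subtype.ext
  rw [H.D.coe_one, H.E.coe_one]

theorem dg_one : dg H.D.one = 1 := dg_of_eq (by rw [H.D.coe_one]; simp)

omit H

/-- The value on `Q \ 1`. -/
noncomputable def uu (χ : IrrCharacter G) : ℤ :=
  if dg χ % 11 = 1 then 1 else if dg χ % 11 = 10 then -1 else 0

theorem uu_of_one {χ : IrrCharacter G} (h : dg χ % 11 = 1) : uu χ = 1 := if_pos h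

theorem uu_of_ten {χ : IrrCharacter G} (h : dg χ % 11 = 10) : uu χ = -1 := by
  unfold uu; rw [if_neg (by omega), if_pos h]

theorem uu_of_zero {χ : IrrCharacter G} (h : dg χ % 11 = 0) : uu χ = 0 := by
  unfold uu; rw [if_neg (by omega), if_neg (by omega)]

include H

omit [IsSimpleGroup G] in
/-- Brauer's relation at a nontrivial element of `P`. -/
theorem rel_of {p e t : ℕ} (hp : p.Prime) {P : Sylow p G} (D : SC p e t P) {x : G} (hx : x ∈ P)
    (hx1 : x ≠ 1) :
    InvolColumn.Rel x (fun g => ¬ p ∣ orderOf g) D.NE D.X D.ε D.d :=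
  { disj := D.disj
    val := fun χ hχ => D.val χ hχ x hx hx1
    out := fun χ hχ hχ' => D.out χ hχ hχ' x hx hx1
    hd := D.d_mem
    rel := D.rel
    one := by rw [orderOf_one]; exact fun h => hp.one_lt.ne' (Nat.dvd_one.1 h)
    ne_one := hx1 }

/-- The value on `Q \ 1`. -/
theorem val_u (χ : IrrCharacter G) {x : G} (hx : x ∈ H.Q) (hx1 : x ≠ 1) :
    (χ : G → ℂ) x = uu χ := by
  by_cases h1 : χ ∈ H.E.NE
  · rw [H.E.val χ h1 x hx hx1]
    rcases mod11_NE H h1 with h | h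
    · rw [uu_of_one h.2, h.1]
    · rw [uu_of_ten h.2, h.1]
  · by_cases h2 : χ ∈ H.E.X
    · have hR := rel_of H (by norm_num) H.E hx hx1
      have h3 := hR.sum_exc h2
      have h4 : H.E.X = {χ} := by
        obtain ⟨ψ, hψ⟩ := Finset.card_eq_one.1 H.E.card_X
        rw [hψ, Finset.mem_singleton] at h2
        rw [hψ, h2]
      rw [h4, Finset.sum_singleton] at h3
      have h5 : (χ : G → ℂ) x = -(H.E.d : ℂ) := by
        rw [← Complex.conj_conj ((χ : G → ℂ) x), h3, map_neg, map_intCast]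
      rw [h5]
      rcases mod11_X H h2 with h | h
      · rw [uu_of_ten h.2, h.1]; norm_num
      · rw [uu_of_one h.2, h.1]; norm_num
    · rw [H.E.out χ h1 h2 x hx hx1, uu_of_zero (mod11_out H h1 h2)]; norm_num

open Classical in
/-- The principal 11-block. -/
noncomputable def B11 : Finset (IrrCharacter G) := H.E.NE ∪ H.E.X

theorem card_B11 : (B11 H).card = 11 := by
  classical
  unfold B11
  rw [Finset.card_union_of_disjoint H.E.disj, H.E.card_NE, H.E.card_X]

theorem mem_B11 {χ : IrrCharacter G} : χ ∈ B11 H ↔ dg χ % 11 ≠ 0 := by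
  classical
  unfold B11
  rw [Finset.mem_union]
  constructor
  · rintro (h | h)
    · rcases mod11_NE H h with h' | h' <;> omega
    · rcases mod11_X H h with h' | h' <;> omega
  · intro h
    by_contra h1
    push Not at h1
    exact h (mod11_out H h1.1 h1.2)

theorem uu_mem {χ : IrrCharacter G} (hχ : χ ∈ B11 H) : uu χ = 1 ∨ uu χ = -1 := by
  rcases mod11 H χ with h | h | h
  · exact absurd h ((mem_B11 H).1 hχ)
  · exact Or.inl (uu_of_one h)
  · exact Or.inr (uu_of_ten h)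

theorem X11_nonempty : ∃ Θ, Θ ∈ H.E.X := by
  have : H.E.X.Nonempty := by rw [← Finset.card_ne_zero, H.E.card_X]; norm_num
  exact this

theorem X23_nonempty : ∃ Θ, Θ ∈ H.D.X := by
  have : H.D.X.Nonempty := by rw [← Finset.card_ne_zero, H.D.card_X]; norm_num
  exact this

/-- The relation of the principal 11-block. -/
theorem rel11 {g : G} (hg : ¬ 11 ∣ orderOf g) :
    ∑ χ ∈ B11 H, (uu χ : ℂ) * (χ : G → ℂ) g = 0 := by
  classical
  obtain ⟨Θ, hΘ⟩ := X11_nonempty H
  have h1 := H.E.rel Θ hΘ g hg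
  unfold B11
  rw [Finset.sum_union H.E.disj]
  have h4 : H.E.X = {Θ} := by
    obtain ⟨ψ, hψ⟩ := Finset.card_eq_one.1 H.E.card_X
    rw [hψ, Finset.mem_singleton] at hΘ
    rw [hψ, hΘ]
  have h2 : ∑ χ ∈ H.E.NE, (uu χ : ℂ) * (χ : G → ℂ) g =
      ∑ χ ∈ H.E.NE, (H.E.ε χ : ℂ) * (χ : G → ℂ) g := by
    refine Finset.sum_congr rfl fun χ hχ => ?_
    rcases mod11_NE H hχ with h | h
    · rw [uu_of_one h.2, h.1]
    · rw [uu_of_ten h.2, h.1]
  have h3 : (uu Θ : ℂ) = -(H.E.d : ℂ) := by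
    rcases mod11_X H hΘ with h | h
    · rw [uu_of_ten h.2, h.1]; norm_num
    · rw [uu_of_one h.2, h.1]; norm_num
  rw [h2, h1, h4, Finset.sum_singleton, h3]
  ring

omit H [Finite G] [IsSimpleGroup G] in
/-- The sum over `P \ 1`. -/
noncomputable def vv (χ : IrrCharacter G) : ℤ :=
  if dg χ % 23 = 1 then 22 else if dg χ % 23 = 22 then -22 else if dg χ % 23 = 11 then -11
  else if dg χ % 23 = 12 then 11 else 0

theorem sum_vv [Fintype (H.P : Subgroup G)] (χ : IrrCharacter G) :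
    ∑ x : (H.P : Subgroup G), (χ : G → ℂ) x = dg χ + vv χ := by
  by_cases h1 : χ ∈ H.D.NE
  · rw [H.D.sum_NE H.hP h1]
    rcases mod23_NE H h1 with h | h
    · have : vv χ = 22 := by unfold vv; rw [if_pos h.2]
      rw [this, h.1]; push_cast; ring
    · have : vv χ = -22 := by unfold vv; rw [if_neg (by omega), if_pos h.2]
      rw [this, h.1]; push_cast; ring
  · by_cases h2 : χ ∈ H.D.X
    · rw [H.D.sum_X h2]
      rcases mod23_X H h2 with h | h
      · have : vv χ = -11 := by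
          unfold vv; rw [if_neg (by omega), if_neg (by omega), if_pos h.2]
        rw [this, h.1]; push_cast; ring
      · have : vv χ = 11 := by
          unfold vv; rw [if_neg (by omega), if_neg (by omega), if_neg (by omega), if_pos h.2]
        rw [this, h.1]; push_cast; ring
    · rw [H.D.sum_out h1 h2]
      have h := mod23_out H h1 h2
      have : vv χ = 0 := by
        unfold vv; rw [if_neg (by omega), if_neg (by omega), if_neg (by omega), if_neg (by omega)]
      rw [this]; push_cast; ring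

/-- `23 χ(1) - 21 ∑_{x ∈ P} χ(x)`. -/
noncomputable def kk (χ : IrrCharacter G) : ℤ := 2 * dg χ - 21 * vv χ

theorem kk_eq [Fintype (H.P : Subgroup G)] (χ : IrrCharacter G) :
    (23 : ℂ) * (χ : G → ℂ) 1 - 21 * ∑ x : (H.P : Subgroup G), (χ : G → ℂ) x = kk χ := by
  unfold kk
  rw [dg_eq, sum_vv H]
  push_cast
  ring

theorem kk_one : kk H.D.one = -460 := by
  unfold kk vv
  rw [dg_one H]
  norm_num

omit H [Group G] [Finite G] [IsSimpleGroup G] in
theorem arith_kk : ∀ d ∈ A, d ≠ 1 → d ≠ 12 →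
    (0 : ℤ) ≤ 2 * (d : ℤ) - 21 * (if d % 23 = 1 then 22 else if d % 23 = 22 then -22
      else if d % 23 = 11 then -11 else if d % 23 = 12 then 11 else 0) := by
  decide +kernel

/-- `kk` is nonnegative on the nontrivial irreducible characters, unless the degree is 12. -/
theorem kk_nonneg {χ : IrrCharacter G} (h12 : dg χ ≠ 12) (hχ : χ ≠ H.D.one) : 0 ≤ kk χ :=
  arith_kk _ (dg_mem_A H χ) (fun h => hχ (eq_one_of_dg H h)) h12

omit H in
/-- A character as a combination of irreducible characters. -/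
theorem exists_coeff [Fintype G] [Fintype (IrrCharacter G)] {φ : G → ℂ} (hφ : IsCharacter G φ) :
    ∃ c : IrrCharacter G → ℕ, (∀ g, φ g = ∑ χ : IrrCharacter G, (c χ : ℂ) * (χ : G → ℂ) g) ∧
      ∀ χ : IrrCharacter G, classInner φ (χ : G → ℂ) = c χ := by
  obtain ⟨m, hm⟩ := exists_nat_comb hφ
  refine ⟨m, fun g => ?_, fun χ => ?_⟩
  · rw [hm, Finset.sum_apply]
    exact Finset.sum_congr rfl fun χ _ => by rw [Pi.smul_apply, nsmul_eq_mul]
  · rw [hm, classInner_sum_nsmul_irr]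

/-- The functional on a character. -/
theorem sum_kk [Fintype (IrrCharacter G)] [Fintype (H.P : Subgroup G)] {φ : G → ℂ}
    {c : IrrCharacter G → ℕ} (hc : ∀ g, φ g = ∑ χ : IrrCharacter G, (c χ : ℂ) * (χ : G → ℂ) g)
    {z : ℤ} (hz : (23 : ℂ) * φ 1 - 21 * ∑ x : (H.P : Subgroup G), φ x = z) :
    ∑ χ : IrrCharacter G, (c χ : ℤ) * kk χ = z := by
  have h1 : ((∑ χ : IrrCharacter G, (c χ : ℤ) * kk χ : ℤ) : ℂ) = z := by
    have h2 : ∑ x : (H.P : Subgroup G), φ x =
        ∑ x : (H.P : Subgroup G), ∑ χ : IrrCharacter G, (c χ : ℂ) * (χ : G → ℂ) x :=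
      Finset.sum_congr rfl fun x _ => hc (x : G)
    rw [← hz, hc 1, h2, Finset.sum_comm, Finset.mul_sum, Finset.mul_sum,
      ← Finset.sum_sub_distrib]
    push_cast
    refine Finset.sum_congr rfl fun χ _ => ?_
    rw [← kk_eq H, ← Finset.mul_sum]
    ring
  exact_mod_cast h1

/-- There is no irreducible character of degree 11. -/
theorem dg_ne_eleven (χ : IrrCharacter G) : dg χ ≠ 11 := by
  classical
  intro hχ
  have := finite_irr (G := G)
  have := Fintype.ofFinite (IrrCharacter G)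
  have := Fintype.ofFinite G
  have := Fintype.ofFinite (H.P : Subgroup G)
  have hX : χ ∈ H.D.X := mem_X23 H (Or.inl (by rw [hχ]))
  have hf : H.D.f = 11 := by rw [← H.D.deg_X χ hX, hχ]
  have h12 : ∀ ψ : IrrCharacter G, dg ψ ≠ 12 := by
    intro ψ hψ
    have := compat23 H (χ := χ) (ψ := ψ) (by rw [hχ]; norm_num) (by rw [hψ]; norm_num)
    omega
  have hd : H.D.d = 1 := by
    rcases mod23_X H hX with h | h
    · exact h.1
    · rw [hχ] at h; omega
  obtain ⟨c, hc, hc'⟩ := exists_coeff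
    (isCharacter_mul (isIrr_isCharacter χ.2) (isCharacter_conj (isIrr_isCharacter χ.2)))
  -- the restriction to `P`
  have hval : ∀ x : (H.P : Subgroup G), (χ : G → ℂ) x = ∑ l ∈ H.D.S χ, ((l x : ℂˣ) : ℂ) := by
    intro x
    by_cases hx : x = 1
    · subst hx
      rw [OneMemClass.coe_one, dg_eq, hχ]
      simp only [map_one, Units.val_one, Finset.sum_const, nsmul_eq_mul, mul_one]
      rw [H.D.card_S χ hX]
    · have := H.D.val_X χ hX x hx
      rw [this, hd, Int.cast_one, one_mul]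
  have hsum : ∑ x : (H.P : Subgroup G), (χ : G → ℂ) x * conj ((χ : G → ℂ) x) = 253 := by
    calc ∑ x : (H.P : Subgroup G), (χ : G → ℂ) x * conj ((χ : G → ℂ) x)
        = ∑ x : (H.P : Subgroup G), ∑ l ∈ H.D.S χ, ∑ l' ∈ H.D.S χ,
            ((l x : ℂˣ) : ℂ) * conj ((l' x : ℂˣ) : ℂ) := by
          refine Finset.sum_congr rfl fun x _ => ?_
          rw [hval x, map_sum, Finset.sum_mul_sum]
      _ = ∑ l ∈ H.D.S χ, ∑ l' ∈ H.D.S χ, ∑ x : (H.P : Subgroup G),
            ((l x : ℂˣ) : ℂ) * conj ((l' x : ℂˣ) : ℂ) := by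
          rw [Finset.sum_comm]
          exact Finset.sum_congr rfl fun l _ => Finset.sum_comm
      _ = ∑ l ∈ H.D.S χ, (23 : ℂ) := by
          refine Finset.sum_congr rfl fun l hl => ?_
          have : ∀ l' ∈ H.D.S χ, ∑ x : (H.P : Subgroup G),
              ((l x : ℂˣ) : ℂ) * conj ((l' x : ℂˣ) : ℂ) = if l = l' then 23 else 0 := by
            intro l' _
            rw [PrimeDual.sum_hom_mul_conj l l']
            have hP' : Nat.card (H.P : Subgroup G) = 23 := H.hP
            rw [hP']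
            norm_num
          rw [Finset.sum_congr rfl this, Finset.sum_ite_eq, if_pos hl]
      _ = 253 := by
          rw [Finset.sum_const, H.D.card_S χ hX]; norm_num
  have hz : (23 : ℂ) * ((χ : G → ℂ) * fun g => conj ((χ : G → ℂ) g)) 1 -
      21 * ∑ x : (H.P : Subgroup G), ((χ : G → ℂ) * fun g => conj ((χ : G → ℂ) g)) x =
        ((-2530 : ℤ) : ℂ) := by
    simp only [Pi.mul_apply]
    rw [hsum, dg_eq, hχ, Complex.conj_natCast]
    norm_num
  have hk := sum_kk H hc hz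
  have h1 : c H.D.one = 1 := by
    have h2 := hc' H.D.one
    have h3 : classInner ((χ : G → ℂ) * fun g => conj ((χ : G → ℂ) g)) (H.D.one : G → ℂ) = 1 := by
      rw [← classInner_irr_self χ.2, classInner_def, classInner_def]
      congr 1
      refine Finset.sum_congr rfl fun g _ => ?_
      rw [H.D.coe_one, Pi.mul_apply, Pi.one_apply, map_one, mul_one]
    rw [h3] at h2
    exact_mod_cast h2.symm
  rw [← Finset.add_sum_erase _ _ (Finset.mem_univ H.D.one), kk_one, h1, Nat.cast_one,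
    one_mul] at hk
  have h4 : 0 ≤ ∑ ψ ∈ Finset.univ.erase H.D.one, (c ψ : ℤ) * kk ψ := by
    refine Finset.sum_nonneg fun ψ hψ => mul_nonneg (Int.natCast_nonneg _) ?_
    exact kk_nonneg H (h12 ψ) (Finset.ne_of_mem_erase hψ)
  linarith

/-- A relation on `23`-elements. -/
theorem rel_vv {S : Finset (IrrCharacter G)} {c : IrrCharacter G → ℤ}
    (h : ∀ g ∈ H.P, g ≠ 1 → ∑ χ ∈ S, (c χ : ℂ) * (χ : G → ℂ) g = 0) :
    ∑ χ ∈ S, c χ * vv χ = 0 := by
  classical
  have := Fintype.ofFinite (H.P : Subgroup G)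
  have h1 : ∑ x ∈ (Finset.univ : Finset (H.P : Subgroup G)).erase 1,
      ∑ χ ∈ S, (c χ : ℂ) * (χ : G → ℂ) x = 0 := by
    refine Finset.sum_eq_zero fun x hx => h x x.2 fun h' => ?_
    exact Finset.ne_of_mem_erase hx (Subtype.ext h')
  rw [Finset.sum_comm] at h1
  have h2 : ∀ χ : IrrCharacter G, ∑ x ∈ (Finset.univ : Finset (H.P : Subgroup G)).erase 1,
      (χ : G → ℂ) x = vv χ := by
    intro χ
    have h3 := sum_vv H χ
    rw [← Finset.add_sum_erase _ _ (Finset.mem_univ (1 : (H.P : Subgroup G))),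
      OneMemClass.coe_one, dg_eq] at h3
    exact add_left_cancel h3
  have h4 : ((∑ χ ∈ S, c χ * vv χ : ℤ) : ℂ) = 0 := by
    rw [← h1]; push_cast
    exact Finset.sum_congr rfl fun χ _ => by rw [← Finset.mul_sum, h2]
  exact_mod_cast h4

/-- A relation on `11`-elements. -/
theorem rel_uu {S : Finset (IrrCharacter G)} {c : IrrCharacter G → ℤ}
    (h : ∀ g ∈ H.Q, g ≠ 1 → ∑ χ ∈ S, (c χ : ℂ) * (χ : G → ℂ) g = 0) :
    ∑ χ ∈ S, c χ * uu χ = 0 := by
  obtain ⟨x, hx, hx1⟩ : ∃ x ∈ (H.Q : Subgroup G), x ≠ 1 := by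
    by_contra h'
    push Not at h'
    have h1 : (H.Q : Subgroup G) = ⊥ := (Subgroup.eq_bot_iff_forall _).2 h'
    have h2 : Nat.card (H.Q : Subgroup G) = 11 := H.hQ
    rw [h1] at h2
    simp at h2
  have h1 := h x hx hx1
  have h4 : ((∑ χ ∈ S, c χ * uu χ : ℤ) : ℂ) = 0 := by
    rw [← h1]; push_cast
    exact Finset.sum_congr rfl fun χ _ => by rw [val_u H χ hx hx1]
  exact_mod_cast h4

end Cfsg.Agent.M24Order.Setup
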