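import Cfsg.Agent.M24Order.ToLast
import Cfsg.Agent.M24Order.Last23
import Cfsg.Agent.M24Order.LastEnd

/-!
# The case `|N(S) : C(S)| = 3` for a Sylow 7-subgroup `S`
-/

set_option autoImplicit false

open Cfsg Subgroup
open Cfsg.Agent.Characters.Core
open Cfsg.Agent.SmallSimple
open Cfsg.Agent.M24Order.Setup
open Cfsg.Agent.SporadicA.M24.Seven (B5 B7three)

namespace Cfsg.Agent.M24Order.Three

universe u

variable {G : Type u} [Group G] [Finite G] [IsSimpleGroup G]

theorem mulEquiv (H : Hyp G) {R : Sylow 5 G} {K : Subgroup G} {M : Ideal AlgInt}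
    {B : Finset (IrrCharacter G)} {ε : IrrCharacter G → ℤ} {a b c d : IrrCharacter G}
    (h5 : B5 R K M B ε a b c d) {S : Sylow 7 G} {K' : Subgroup G} {M' : Ideal AlgInt}
    {D : DegreeData.BlockData 7 M' S 3 2} {a' : IrrCharacter G} (h7 : B7three S K' M' D a' b) :
    Nonempty (G ≃* Cfsg.M24) := by
  obtain ⟨t, v, Θ, Θ', L⟩ := ToLast.exists_last H h5 h7
  exact LastEnd.mulEquiv_of_exists L (Last23.exists_block L)

end Cfsg.Agent.M24Order.Three
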