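import Cfsg.Agent.M24Order.LastSetup
import Cfsg.Agent.SporadicA.M24.Weights
import Cfsg.Agent.SporadicA.M24.KFive
import Cfsg.Agent.SporadicA.M24.RowU
import Cfsg.Agent.SporadicA.M24.Integral
import Cfsg.Agent.SporadicA.M24.InvolEleven
import Cfsg.Agent.SporadicA.M24.KillThree
import Cfsg.Agent.SporadicA.M24.Convert

/-!
# From the principal 5- and 7-blocks (`e = 3`) to the column of an involution
-/

set_option autoImplicit false
set_option linter.unusedSectionVars false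

open Cfsg Subgroup
open Cfsg.Agent.Characters.Core
open Cfsg.Agent.SmallSimple
open Cfsg.Agent.SmallSimple.FlatBlock (tr)
open Cfsg.Agent.M23Order.Base
open Cfsg.Agent.M24Order.Setup
open Cfsg.Agent.SporadicA.M24.Seven (B5 B7three card_five)
open Cfsg.Agent.SporadicA.M24.Convert (conv)

namespace Cfsg.Agent.M24Order.ToLast

universe u

variable {G : Type u} [Group G] [Finite G] [IsSimpleGroup G]

theorem exists_last (H : Hyp G) {R : Sylow 5 G} {K : Subgroup G} {M : Ideal AlgInt}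
    {B : Finset (IrrCharacter G)} {ε : IrrCharacter G → ℤ} {a b c d : IrrCharacter G}
    (h5 : B5 R K M B ε a b c d) {S : Sylow 7 G} {K' : Subgroup G} {M' : Ideal AlgInt}
    {D : DegreeData.BlockData 7 M' S 3 2} {a' : IrrCharacter G} (h7 : B7three S K' M' D a' b) :
    ∃ (t : G) (v : IrrCharacter G → ℤ) (Θ Θ' : IrrCharacter G),
      Last.Last H t v a' d c b a Θ Θ' := by
  classical
  obtain ⟨hdc, hdd, hk⟩ := SporadicA.M24.KillThree.card_K (conv H) h5
  obtain ⟨hk2, -⟩ := SporadicA.M24.Integral.card_K_ne (conv H) h5 hdc hdd h7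
  have hK : Nat.card K = 12 := by omega
  obtain ⟨u, hu2, hu1, huC, -, hle, t, htu, hinv⟩ :=
    SporadicA.M24.InvolEleven.exists_invol (conv H) R
  have huu : u * u = 1 := by rw [← pow_two, hu2]
  have huK : u ∈ K := by
    rw [h5.loc.loc.mem_iff]
    exact ⟨huC, by rw [hK, show 12 = 2 * 6 by norm_num, pow_mul, hu2, one_pow]⟩
  obtain ⟨v, hv⟩ := SporadicA.M24.Col.exists_col H.hcomm huu hu1
  obtain ⟨hc, -, -, hva', hvb, hvc, hva, hvd, hvX⟩ :=
    SporadicA.M24.RowU.row_u (conv H) h5 hK h7 hv huK hle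
  obtain ⟨e⟩ := SporadicA.M24.KFive.alternating (conv H) h5 hK h7 huK hu1 huu hc
  obtain ⟨w1, w2⟩ := SporadicA.M24.Weights.weights (card_five (conv H) R) h5.loc e huK hu1 huu hv.val
  obtain ⟨Θ, Θ', hne, hX⟩ := Finset.card_eq_two.1 D.card_X
  have hΘ : Θ ∈ D.X := by rw [hX]; simp
  have hΘ' : Θ' ∈ D.X := by rw [hX]; simp
  have hdX : ∀ θ ∈ D.X, dg θ = 990 := by
    intro θ hθ
    have h1 : dg θ = D.f := D.deg_X θ hθ
    rw [h1, h7.f_eq]
  have hone : H.D.one = tr G := Subtype.ext (by rw [H.D.coe_one, FlatBlock.coe_tr])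
  have ht1 : t ≠ 1 := by
    rintro rfl
    exact hu1 (isConj_one_right.1 htu)
  have ht2 : t ^ 2 = 1 := by
    obtain ⟨g, hg⟩ := isConj_iff.1 htu.symm
    rw [← hg, conj_pow, hu2, mul_one, mul_inv_cancel]
  have hval : ∀ χ : IrrCharacter G, (χ : G → ℂ) t = v χ := by
    intro χ
    obtain ⟨g, hg⟩ := isConj_iff.1 htu.symm
    rw [← hg, isIrr_isClassFunction χ.2, hv.val]
  have hct : Nat.card (centralizer ({t} : Set G)) = 7680 := by
    obtain ⟨g, hg⟩ := isConj_iff.1 htu.symm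
    rw [← hc, ← hg, InvolFour.card_centralizer_conj]
  refine ⟨t, v, Θ, Θ', ⟨ht2, ht1, hval, hct,
    fun χ hχ => SporadicA.M24.RowU.five_dvd (conv H) h5.loc.modular hv huC hχ,
    hinv, h7.dg_a, hdd, hdc, h5.dg_b, h5.dg_a, hdX Θ hΘ, hdX Θ' hΘ', hne, hva', hvd, hvc, hvb,
    hva, hvX Θ hΘ, hvX Θ' hΘ', fun S _ _ _ _ _ => w1 S, fun S h1 h2 h3 h4 h6 => w2 S ?_⟩⟩
  intro χ hχ hB
  rw [h5.mem] at hB
  simp only [List.mem_cons, List.not_mem_nil, or_false] at hB
  rw [hone] at h1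
  rcases hB with rfl | rfl | rfl | rfl | rfl
  · exact h1 hχ
  · exact h4 hχ
  · exact h3 hχ
  · exact h2 hχ
  · exact h6 hχ

end Cfsg.Agent.M24Order.ToLast
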